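import Cfsg.Agent.Omega.FOne.TvwInv
import Mathlib.Algebra.BigOperators.Group.Finset.Basic

/-!
# Lemma TVW (bb OMEGA #15003, helper299): the block system (final form)
-/

set_option autoImplicit false
set_option linter.unusedSectionVars false

namespace Cfsg.Agent.Omega.FOne.Tvw

variable {W : Type*} [AddCommGroup W] [Module (ZMod 2) W]
variable {H : Subgroup (W ≃ₗ[ZMod 2] W)} {y : W}

set_option synthInstance.maxSize 1000 in
set_option synthInstance.maxHeartbeats 400000 in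
theorem dec15 : ∀ c : T3, c ≠ 0 → Fintype.card {k : T3 // k ≠ 0 ∧ dot k c = 0} = 3 := by decide

namespace Blk

variable [Finite W] {X X' : Submodule (ZMod 2) W}

/-- **(inv)** : an involution `g` of the block: `C_X(g) = {0, y, θ, θ + y} = [X, g]`. -/
theorem inv (B : Blk H y X) {g : W ≃ₗ[ZMod 2] W} (hg : g ∈ H) (hX : ∀ x ∈ X, g x ∈ X)
    (h2 : ∀ x ∈ X, g (g x) = x) (hne : ∃ x ∈ X, g x ≠ x) :
    ∃ θ ∈ X, θ ≠ 0 ∧ θ ≠ y ∧ (∀ x ∈ X, g x = x ↔ x = 0 ∨ x = y ∨ x = θ ∨ x = θ + y) ∧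
      ∀ u ∈ X, g u = u → ∃ v ∈ X, g v + v = u := by
  obtain ⟨Θ, h, t1, t2, t3, p1, p2, p3, F, rfl⟩ := B
  obtain ⟨k, k', c, k0, c0, k'0, k'k, hkc, hk'c, -, hgx⟩ := F.inv h hg hX h2 hne
  have hθ := F.mem h c0
  have hft := h.fix g hg
  have hfix : ∀ x ∈ blk y t1 t2 t3, g x = x ↔ x = 0 ∨ x = y ∨ x = tv t1 t2 t3 c ∨ x = tv t1 t2 t3 c + y := by
    intro x hx
    constructor
    · intro e
      rw [hgx x hx, add_assoc] at e
      have e1 : pv p1 p2 p3 k x • tv t1 t2 t3 c + pv p1 p2 p3 k' x • y = 0 := by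
        simpa using e
      obtain ⟨a1, a2⟩ := indep (h.th0 _ hθ) (h.thy _ hθ) h.y0 e1
      rw [pv_apply] at a1 a2
      rcases dec8 c k k' _ ⟨c0, k0, k'0, k'k.symm⟩ ⟨hkc, hk'c⟩ ⟨a1, a2⟩ with e2 | e2
      · rcases (F.blk_iff h).mp hx with e3 | e3
        · left; rw [e3, Fr.cd, e2, tv_zero]
        · right; left; rw [e3, Fr.cd, e2, tv_zero, zero_add]
      · rcases (F.blk_iff h).mp hx with e3 | e3
        · right; right; left; rw [e3, Fr.cd, e2]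
        · right; right; right; rw [e3, Fr.cd, e2]
    · have e1 : g (tv t1 t2 t3 c) = tv t1 t2 t3 c := by
        rw [hgx _ (tv_mem_blk _ _ _ _ _), F.pv_tv, F.pv_tv, hkc, hk'c, zero_smul, zero_smul, add_zero, add_zero]
      rintro (e | e | e | e) <;> rw [e]
      · rw [map_zero]
      · exact hft
      · exact e1
      · rw [map_add, e1, hft]
  refine ⟨_, tv_mem_blk _ _ _ _ c, h.th0 _ hθ, h.thy _ hθ, hfix, ?_⟩
  intro u hu hgu
  have hv : ∀ e e' : ZMod 2, ∃ v ∈ blk y t1 t2 t3, g v + v = e • tv t1 t2 t3 c + e' • y := by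
    intro e e'
    obtain ⟨a, h1, h2⟩ := dec9 k k' ⟨k0, k'0, k'k.symm⟩ e e'
    refine ⟨_, tv_mem_blk _ _ _ _ a, ?_⟩
    rw [hgx _ (tv_mem_blk _ _ _ _ _), F.pv_tv, F.pv_tv, h1, h2]
    linear_combination (norm := module) addself (tv t1 t2 t3 a)
  rcases (hfix u hu).mp hgu with e | e | e | e <;> rw [e]
  · simpa using hv 0 0
  · simpa using hv 0 1
  · simpa using hv 1 0
  · simpa using hv 1 1

/-- **(four)** -/
theorem four (B : Blk H y X) {u : W} (hu : u ∈ X) (u0 : u ≠ 0) (uy : u ≠ y)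
    (g : Fin 4 → (W ≃ₗ[ZMod 2] W)) (hg : ∀ i, g i ∈ H) (hgu : ∀ i, g i u = u)
    (h2 : ∀ i, ∀ x ∈ X, g i (g i x) = x) (hne : ∀ i, ∃ x ∈ X, g i x ≠ x) :
    ∃ i j, i ≠ j ∧ ∀ x ∈ X, g i x = g j x := by
  have B0 := B
  obtain ⟨Θ, h, t1, t2, t3, p1, p2, p3, F, rfl⟩ := B
  have hX : ∀ i, ∀ x ∈ blk y t1 t2 t3, g i x ∈ blk y t1 t2 t3 := fun i x hx =>
    B0.inv_of (hg i) hu u0 uy (by rw [hgu i]; exact hu) hx
  have key : ∀ i, ∃ k k' : T3, k ≠ 0 ∧ dot k (Fr.cd p1 p2 p3 u) = 0 ∧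
      St H y (tv t1 t2 t3 (Fr.cd p1 p2 p3 u)) (pv p1 p2 p3 k) (pv p1 p2 p3 k') ∧
      ∀ x ∈ blk y t1 t2 t3, g i x = x + pv p1 p2 p3 k x • tv t1 t2 t3 (Fr.cd p1 p2 p3 u) +
        pv p1 p2 p3 k' x • y := by
    intro i
    obtain ⟨k, k', c, k0, c0, k'0, k'k, hkc, hk'c, s, hgx⟩ := F.inv h (hg i) (hX i) (h2 i) (hne i)
    have hθ := F.mem h c0
    have e := hgu i
    rw [hgx u hu, add_assoc] at e
    have e1 : pv p1 p2 p3 k u • tv t1 t2 t3 c + pv p1 p2 p3 k' u • y = 0 := by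
      simpa using e
    obtain ⟨a1, a2⟩ := indep (h.th0 _ hθ) (h.thy _ hθ) h.y0 e1
    rw [pv_apply] at a1 a2
    have hcu := F.cd_ne_zero h hu u0 uy
    have e2 : Fr.cd p1 p2 p3 u = c :=
      (dec8 c k k' _ ⟨c0, k0, k'0, k'k.symm⟩ ⟨hkc, hk'c⟩ ⟨a1, a2⟩).resolve_left hcu
    rw [← e2] at s hgx hkc
    exact ⟨k, k', k0, hkc, s, hgx⟩
  choose k k' k0 hk s hgx using key
  have hcu := F.cd_ne_zero h hu u0 uy
  let φ : Fin 4 → {k : T3 // k ≠ 0 ∧ dot k (Fr.cd p1 p2 p3 u) = 0} := fun i => ⟨k i, k0 i, hk i⟩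
  obtain ⟨i, j, hij, hφ⟩ := Fintype.exists_ne_map_eq_of_card_lt φ (by rw [dec15 _ hcu]; simp)
  refine ⟨i, j, hij, ?_⟩
  have e1 : k i = k j := congrArg Subtype.val hφ
  have s1 := s i
  rw [e1] at s1
  have e2 := h.uniqd (F.mem h hcu) s1 (s j)
  intro x hx
  rw [hgx i x hx, hgx j x hx, e1, e2]

/-- **(rot)** -/
theorem rot (B : Blk H y X) {u a b : W} (hu : u ∈ X) (u0 : u ≠ 0) (uy : u ≠ y)
    (ha : a ∈ X) (a0 : a ≠ 0) (ay : a ≠ y) (au : a ≠ u) (auy : a ≠ u + y)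
    (hb : b ∈ X) (b0 : b ≠ 0) (by' : b ≠ y) (bu : b ≠ u) (buy : b ≠ u + y) :
    ∃ g ∈ H, g u = u ∧ (g a + b = 0 ∨ g a + b = y ∨ g a + b = u ∨ g a + b = u + y) := by
  have B0 := B
  obtain ⟨Θ, h, t1, t2, t3, p1, p2, p3, F, rfl⟩ := B
  have cu := F.cd_ne_zero h hu u0 uy
  have ca := F.cd_ne_zero h ha a0 ay
  have cb := F.cd_ne_zero h hb b0 by'
  have cau : Fr.cd p1 p2 p3 a ≠ Fr.cd p1 p2 p3 u := fun e => by
    rcases F.eq_or h ha hu e with e1 | e1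
    · exact au e1
    · exact auy e1
  have cbu : Fr.cd p1 p2 p3 b ≠ Fr.cd p1 p2 p3 u := fun e => by
    rcases F.eq_or h hb hu e with e1 | e1
    · exact bu e1
    · exact buy e1
  by_cases h1 : Fr.cd p1 p2 p3 a + Fr.cd p1 p2 p3 b = 0
  · refine ⟨1, H.one_mem, rfl, ?_⟩
    rcases F.eq_or h ha hb (t3add _ _ h1) with e | e
    · left; rw [e]; exact addself b
    · right; left; rw [e]
      show b + y + b = y
      linear_combination (norm := module) addself b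
  by_cases h2 : Fr.cd p1 p2 p3 a + Fr.cd p1 p2 p3 b = Fr.cd p1 p2 p3 u
  · refine ⟨1, H.one_mem, rfl, ?_⟩
    rw [← Fr.cd_add] at h2
    have hab := Submodule.add_mem _ ha hb
    rcases F.eq_or h hab hu h2 with e | e
    · right; right; left; exact e
    · right; right; right; exact e
  have hma := F.blk_mem h ha a0 ay
  have hmb := F.blk_mem h hb b0 by'
  have hadd : Fr.cd p1 p2 p3 b + Fr.cd p1 p2 p3 a = Fr.cd p1 p2 p3 a + Fr.cd p1 p2 p3 b := add_comm _ _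
  obtain ⟨k₁, hb1, hu1, ha1⟩ := dec6 (Fr.cd p1 p2 p3 u) (Fr.cd p1 p2 p3 b) (Fr.cd p1 p2 p3 a)
    ⟨cu, cb, cbu⟩ ⟨ca, cau, by rwa [hadd]⟩ (by rwa [hadd])
  obtain ⟨k₂, ha2, hu2, hb2⟩ := dec6 (Fr.cd p1 p2 p3 u) (Fr.cd p1 p2 p3 a) (Fr.cd p1 p2 p3 b)
    ⟨cu, ca, cau⟩ ⟨cb, cbu, h1⟩ h2
  have k10 : k₁ ≠ 0 := by rintro rfl; rw [zero_dot] at ha1; exact zero_ne_one ha1
  have k20 : k₂ ≠ 0 := by rintro rfl; rw [zero_dot] at hb2; exact zero_ne_one hb2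
  obtain ⟨d₁, s₁⟩ := F.st_of h hmb cb hb1
  obtain ⟨d₂, s₂⟩ := F.st_of h hma ca ha2
  obtain ⟨k₁', rfl, n1, m1, z1⟩ := F.d_eq h hmb cb k10 s₁
  obtain ⟨k₂', rfl, n2, m2, z2'⟩ := F.d_eq h hma ca k20 s₂
  have w1 := dec7 _ _ k₁ k₁' ⟨cu, cb, cbu⟩ ⟨hb1, hu1⟩ ⟨n1, m1, k10⟩ z1
  have w2 := dec7 _ _ k₂ k₂' ⟨cu, ca, cau⟩ ⟨ha2, hu2⟩ ⟨n2, m2, k20⟩ z2'
  obtain ⟨g₁, hg₁, e₁⟩ := s₁
  obtain ⟨g₂, hg₂, e₂⟩ := s₂
  have q1 : g₁ u = u + y := by
    rw [e₁, pv_apply, pv_apply, hu1, w1, zero_smul, one_smul, add_zero]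
  have q2 : g₂ u = u + y := by
    rw [e₂, pv_apply, pv_apply, hu2, w2, zero_smul, one_smul, add_zero]
  have q3 : g₁ a = a + b + pv p1 p2 p3 k₁' a • y := by
    rw [e₁, pv_apply, ha1, one_smul]
  have q4 : g₂ a = a + pv p1 p2 p3 k₂' a • y := by
    rw [e₂, pv_apply, ha2, zero_smul, add_zero]
  have q5 : g₂ b = b + a + pv p1 p2 p3 k₂' b • y := by
    rw [e₂, pv_apply, hb2, one_smul]
  refine ⟨g₂ * g₁, H.mul_mem hg₂ hg₁, ?_, ?_⟩
  · rw [LinearEquiv.mul_apply, q1, map_add, h.fix g₂ hg₂, q2, add_assoc, addself, add_zero]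
  · rw [LinearEquiv.mul_apply, q3, map_add, map_add, map_smul, h.fix g₂ hg₂, q4, q5]
    have e : a + pv p1 p2 p3 k₂' a • y + (b + a + pv p1 p2 p3 k₂' b • y) + pv p1 p2 p3 k₁' a • y + b =
        (pv p1 p2 p3 k₂' a + pv p1 p2 p3 k₂' b + pv p1 p2 p3 k₁' a) • y := by
      linear_combination (norm := module) addself a + addself b
    rw [e]
    rcases z2 (pv p1 p2 p3 k₂' a + pv p1 p2 p3 k₂' b + pv p1 p2 p3 k₁' a) with e | e <;> rw [e]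
    · left; rw [zero_smul]
    · right; left; rw [one_smul]

/-- **(comm)** -/
theorem comm (B : Blk H y X) {θ : W} {f d : W →ₗ[ZMod 2] ZMod 2} (s : St H y θ f d) :
    θ ∈ X ∨ ∀ x ∈ X, f x = 0 := by
  by_contra hcon
  push Not at hcon
  obtain ⟨hθ, x₁, hx₁, hf⟩ := hcon
  have hf1 : f x₁ = 1 := (z2 _).resolve_left hf
  apply hθ
  obtain ⟨g, hg, e⟩ := s
  have b := B.base
  by_cases hfy : f y = 0
  · -- a vector of the block killed by `f`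
    have hx : ∃ x ∈ X, x ≠ 0 ∧ x ≠ y ∧ f x = 0 := by
      obtain ⟨Θ, h, t1, t2, t3, p1, p2, p3, F, rfl⟩ := B
      have hc : ∀ c : T3, c ≠ 0 → tv t1 t2 t3 c ∈ blk y t1 t2 t3 ∧ tv t1 t2 t3 c ≠ 0 ∧ tv t1 t2 t3 c ≠ y :=
        fun c c0 => ⟨tv_mem_blk _ _ _ _ _, h.th0 _ (F.mem h c0), h.thy _ (F.mem h c0)⟩
      rcases dec10 (f (tv t1 t2 t3 (1, 0, 0))) (f (tv t1 t2 t3 (0, 1, 0))) with a | a | a
      · obtain ⟨m, m0, my⟩ := hc (1, 0, 0) (by decide)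
        exact ⟨_, m, m0, my, a⟩
      · obtain ⟨m, m0, my⟩ := hc (0, 1, 0) (by decide)
        exact ⟨_, m, m0, my, a⟩
      · obtain ⟨m, m0, my⟩ := hc ((1, 0, 0) + (0, 1, 0)) (by decide)
        exact ⟨_, m, m0, my, by rw [tv_add, map_add]; exact a⟩
    obtain ⟨x, hx, x0, xy, fx⟩ := hx
    have h1 : g x ∈ X := by
      rw [e x, fx, zero_smul, add_zero]
      exact X.add_mem hx (X.smul_mem _ B.y_mem)
    have h2 := B.inv_of hg hx x0 xy h1 hx₁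
    rw [e x₁, hf1, one_smul] at h2
    have h3 : θ = (x₁ + θ + d x₁ • y) + x₁ + d x₁ • y := by
      linear_combination (norm := module) (-1 : ZMod 2) • addself x₁ - d x₁ • addself y
    rw [h3]
    exact X.add_mem (X.add_mem h2 hx₁) (X.smul_mem _ B.y_mem)
  · have hfy1 : f y = 1 := (z2 _).resolve_left hfy
    have e1 := e y
    rw [b.fix g hg, hfy1, one_smul] at e1
    have h3 : θ = d y • y := by
      linear_combination (norm := module) (-1 : ZMod 2) • e1 - d y • addself y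
    rw [h3]
    exact X.smul_mem _ B.y_mem

theorem proj (B : Blk H y X) (w : W) : ∃ v ∈ X, ∀ θ ∈ X, θ ≠ 0 → θ ≠ y →
    ∀ f d : W →ₗ[ZMod 2] ZMod 2, St H y θ f d → f (w + v) = 0 ∧ d (w + v) = 0 := by
  obtain ⟨Θ, h, t1, t2, t3, p1, p2, p3, F, rfl⟩ := B
  refine ⟨_, tv_mem_blk _ _ _ _ (Fr.cd p1 p2 p3 w), ?_⟩
  have hz : Fr.cd p1 p2 p3 (w + tv t1 t2 t3 (Fr.cd p1 p2 p3 w)) = 0 := by
    rw [Fr.cd_add, show Fr.cd p1 p2 p3 (tv t1 t2 t3 (Fr.cd p1 p2 p3 w)) = Fr.cd p1 p2 p3 w from F.coord _]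
    exact t3self _
  have hk : ∀ k, pv p1 p2 p3 k (w + tv t1 t2 t3 (Fr.cd p1 p2 p3 w)) = 0 := by
    intro k
    rw [pv_apply]
    rw [show (p1 (w + tv t1 t2 t3 (Fr.cd p1 p2 p3 w)), p2 (w + tv t1 t2 t3 (Fr.cd p1 p2 p3 w)),
      p3 (w + tv t1 t2 t3 (Fr.cd p1 p2 p3 w))) = (0 : T3) from hz, dot_zero]
  intro θ hθ θ0 θy f d s
  have hm := F.blk_mem h hθ θ0 θy
  have hc := F.cd_ne_zero h hθ θ0 θy
  obtain ⟨k, rfl, -⟩ := F.eq_pv h hm hc s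
  refine ⟨hk k, ?_⟩
  by_cases k0 : k = 0
  · rw [k0, pv_zero] at s
    rw [h.uniq s, LinearMap.zero_apply]
  · obtain ⟨k', rfl, -⟩ := F.d_eq h hm hc k0 s
    exact hk k'

theorem kill (B : Blk H y X) (B' : Blk H y X') (hne : X ≠ X') {θ : W} (hθ : θ ∈ X) (θ0 : θ ≠ 0)
    (θy : θ ≠ y) {f d : W →ₗ[ZMod 2] ZMod 2} (s : St H y θ f d) {x : W} (hx : x ∈ X') :
    f x = 0 ∧ d x = 0 := by
  have B0 := B
  obtain ⟨Θ, h, t1, t2, t3, p1, p2, p3, F, rfl⟩ := B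
  have key : ∀ {θ' : W} {f' d' : W →ₗ[ZMod 2] ZMod 2}, θ' ∈ blk y t1 t2 t3 → θ' ≠ 0 → θ' ≠ y →
      St H y θ' f' d' → f' x = 0 := by
    intro θ' f' d' m n0 ny s'
    refine (B'.comm s').resolve_left (fun m' => hne (B0.eq B' m m' n0 ny)) x hx
  refine ⟨key hθ θ0 θy s, ?_⟩
  have hm := F.blk_mem h hθ θ0 θy
  have hc := F.cd_ne_zero h hθ θ0 θy
  obtain ⟨k, rfl, -⟩ := F.eq_pv h hm hc s
  by_cases k0 : k = 0
  · rw [k0, pv_zero] at s
    rw [h.uniq s, LinearMap.zero_apply]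
  · obtain ⟨k', rfl, -⟩ := F.d_eq h hm hc k0 s
    by_cases k'0 : k' = 0
    · rw [k'0, pv_zero, LinearMap.zero_apply]
    obtain ⟨c, c0, hk'c⟩ := dec13 k' k'0
    obtain ⟨d', s'⟩ := F.st h c0 hk'c
    exact key (tv_mem_blk _ _ _ _ c) (h.th0 _ (F.mem h c0)) (h.thy _ (F.mem h c0)) s'

/-- a block through the centre of a transvection. -/
theorem exists_of_tv (b : Base H y) {g : W ≃ₗ[ZMod 2] W} (hg : g ∈ H) {θ : W}
    {f d : W →ₗ[ZMod 2] ZMod 2} (θ0 : θ ≠ 0) (θy : θ ≠ y) (hf : f ≠ 0)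
    (e : ∀ w, g w = w + f w • θ + d w • y) (hs : ∃ h ∈ H, h θ = θ + y) : ∃ X, Blk H y X ∧ θ ∈ X := by
  have h := b.hyp θ0 θy hs
  obtain ⟨t2, t3, p1, p2, p3, F⟩ := h.exists_fr (θ := θ) ⟨1, H.one_mem, rfl⟩ ⟨g, hg, e⟩ hf
  refine ⟨_, ⟨_, h, _, _, _, _, _, _, F, rfl⟩, ?_⟩
  have := tv_mem_blk y θ t2 t3 (1, 0, 0)
  simpa [tv] using this

end Blk

/-- **(gen)** -/
theorem gen [Finite W] (b : Base H y) {A : Subgroup (W ≃ₗ[ZMod 2] W)} (hA : A ≤ H)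
    (hgen : A ≤ Subgroup.closure {g | g ∈ A ∧ IsTv H y g}) :
    ∃ S : Set (Submodule (ZMod 2) W), (∀ X ∈ S, Blk H y X ∧ ∀ a ∈ A, ∀ x ∈ X, a x ∈ X) ∧
      ∀ w, ∃ v ∈ sSup S, ∀ a ∈ A, a (w + v) = w + v := by
  classical
  let S : Set (Submodule (ZMod 2) W) := {X | Blk H y X}
  have hgi : ∀ g, g ∈ A ∧ IsTv H y g → ∀ X ∈ S, ∀ x ∈ X, g x ∈ X := by
    rintro g ⟨hg, θ, f, d, θ0, θy, hf, e, hs⟩ X hX x hx
    rw [e x]
    rcases hX.comm ⟨g, hA hg, e⟩ with h1 | h1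
    · exact X.add_mem (X.add_mem hx (X.smul_mem _ h1)) (X.smul_mem _ hX.y_mem)
    · rw [h1 x hx, zero_smul, add_zero]
      exact X.add_mem hx (X.smul_mem _ hX.y_mem)
  have hsq : ∀ g, g ∈ A ∧ IsTv H y g → ∀ w, g (g w) = w := by
    rintro g ⟨hg, θ, f, d, θ0, θy, hf, e, hs⟩ w
    have h := b.hyp θ0 θy hs
    have := h.sq (θ := θ) ⟨1, H.one_mem, rfl⟩ (hA hg) e
    have := congrArg (fun e : W ≃ₗ[ZMod 2] W => e w) this
    simpa using this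
  have hinv : ∀ a ∈ A, ∀ X ∈ S, ∀ x, a x ∈ X ↔ x ∈ X := by
    intro a ha X hX
    have h1 := hgen ha
    clear ha
    induction h1 using Subgroup.closure_induction with
    | mem g hg =>
      intro x
      constructor
      · intro hx
        have := hgi g hg X hX _ hx
        rwa [hsq g hg] at this
      · exact hgi g hg X hX x
    | one => intro x; rfl
    | mul g g' _ _ h1 h2 =>
      intro x
      rw [LinearEquiv.mul_apply]
      rw [h1, h2]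
    | inv g _ h1 =>
      intro x
      rw [← h1, ap_inv]
  have hex : ∀ w : W, ∀ X ∈ S, ∃ v, v ∈ X ∧ ∀ θ ∈ X, θ ≠ 0 → θ ≠ y →
      ∀ f d : W →ₗ[ZMod 2] ZMod 2, St H y θ f d → f (w + v) = 0 ∧ d (w + v) = 0 := by
    intro w X hX
    obtain ⟨v, hv, h⟩ := Blk.proj hX w
    exact ⟨v, hv, h⟩
  refine ⟨S, fun X hX => ⟨hX, fun a ha x hx => (hinv a ha X hX x).mpr hx⟩, fun w => ?_⟩
  choose! v hv hvp using hex w
  have : Finite (Submodule (ZMod 2) W) :=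
    Finite.of_injective (fun X : Submodule (ZMod 2) W => (X : Set W)) SetLike.coe_injective
  have hfin : S.Finite := Set.toFinite S
  let s : Finset (Submodule (ZMod 2) W) := hfin.toFinset
  have hs : ∀ X, X ∈ s ↔ X ∈ S := fun X => hfin.mem_toFinset
  refine ⟨∑ X ∈ s, v X, Submodule.sum_mem _ fun X hX => ?_, ?_⟩
  · exact (le_sSup ((hs X).mp hX) : X ≤ sSup S) (hv X ((hs X).mp hX))
  have key : ∀ g, g ∈ A ∧ IsTv H y g → g (w + ∑ X ∈ s, v X) = w + ∑ X ∈ s, v X := by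
    rintro g ⟨hg, θ, f, d, θ0, θy, hf, e, hsw⟩
    obtain ⟨X, BX, hθX⟩ := Blk.exists_of_tv b (hA hg) θ0 θy hf e hsw
    have hXs : X ∈ s := (hs X).mpr BX
    have st : St H y θ f d := ⟨g, hA hg, e⟩
    have e1 : w + ∑ X' ∈ s, v X' = (w + v X) + ∑ X' ∈ s.erase X, v X' := by
      rw [← Finset.add_sum_erase s v hXs, add_assoc]
    have e2 : f (∑ X' ∈ s.erase X, v X') = 0 := by
      rw [map_sum]
      refine Finset.sum_eq_zero fun X' hX' => ?_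
      obtain ⟨hne, hX's⟩ := Finset.mem_erase.mp hX'
      exact (BX.kill ((hs X').mp hX's) hne.symm hθX θ0 θy st (hv X' ((hs X').mp hX's))).1
    have e3 : d (∑ X' ∈ s.erase X, v X') = 0 := by
      rw [map_sum]
      refine Finset.sum_eq_zero fun X' hX' => ?_
      obtain ⟨hne, hX's⟩ := Finset.mem_erase.mp hX'
      exact (BX.kill ((hs X').mp hX's) hne.symm hθX θ0 θy st (hv X' ((hs X').mp hX's))).2
    obtain ⟨p1, p2⟩ := hvp X BX θ hθX θ0 θy f d st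
    rw [e, e1, map_add f, map_add d, p1, p2, e2, e3, add_zero, zero_smul, add_zero, zero_smul, add_zero]
  intro a ha
  have h1 := hgen ha
  clear ha
  induction h1 using Subgroup.closure_induction with
  | mem g hg => exact key g hg
  | one => rfl
  | mul g g' _ _ h1 h2 => rw [LinearEquiv.mul_apply, h2, h1]
  | inv g _ h1 =>
    conv_lhs => rw [← h1]
    exact inv_ap _ _

end Cfsg.Agent.Omega.FOne.Tvw
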