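import Mathlib.GroupTheory.Subgroup.Centralizer
import Mathlib.GroupTheory.Subgroup.Center
import Mathlib.GroupTheory.Index
import Mathlib.Algebra.Group.Subgroup.Finite
import Mathlib.Tactic.Group
import Mathlib.Algebra.Group.Commutator

/-!
# Lemma K7 (blueprint bb OMEGA #12132, helper299)

Three elementary abelian groups `X u` (`u` an involution of the four-group `U`) meeting in `U`,
normal in `C(U)`, pairwise non-commuting outside `U`: impossible if `N(U)` is transitive on `U#`.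
-/

namespace Cfsg.Agent.Omega.FOne

variable {G : Type*} [Group G]

/-- The hypotheses of Lemma K7. -/
structure KSeven (U : Subgroup G) (X : G → Subgroup G) : Prop where
  sq : ∀ u ∈ U, u * u = 1
  /-- `U` has exactly three involutions. -/
  three : ∃ u v : G, u ∈ U ∧ v ∈ U ∧ u ≠ 1 ∧ v ≠ 1 ∧ u ≠ v ∧
    ∀ w ∈ U, w ≠ 1 → w = u ∨ w = v ∨ w = u * v
  trans : ∀ u ∈ U, ∀ v ∈ U, u ≠ 1 → v ≠ 1 → ∃ g : G, (∀ x ∈ U, g * x * g⁻¹ ∈ U) ∧
    g * u * g⁻¹ = v
  le : ∀ u ∈ U, u ≠ 1 → U ≤ X u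
  xsq : ∀ u ∈ U, u ≠ 1 → ∀ x ∈ X u, x * x = 1
  inf : ∀ u ∈ U, ∀ v ∈ U, u ≠ 1 → v ≠ 1 → u ≠ v → ∀ x, x ∈ X u → x ∈ X v → x ∈ U
  conj : ∀ g : G, (∀ x ∈ U, g * x * g⁻¹ ∈ U) → ∀ u ∈ U, u ≠ 1 → ∀ x,
    x ∈ X u → g * x * g⁻¹ ∈ X (g * u * g⁻¹)
  /-- `C(U)` is transitive on the non-trivial elements of `X u / U`. -/
  ctrans : ∀ u ∈ U, u ≠ 1 → ∀ x ∈ X u, ∀ y ∈ X u, x ∉ U → y ∉ U →
    ∃ c : G, (∀ z ∈ U, c * z = z * c) ∧ ∃ z ∈ U, c * x * c⁻¹ = y * z
  /-- `|X u / U| > 2`. -/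
  big : ∀ u ∈ U, u ≠ 1 → ∃ x ∈ X u, ∃ y ∈ X u, x ∉ U ∧ y ∉ U ∧ x * y ∉ U
  /-- elements of different `X u` outside `U` do not commute. -/
  ncomm : ∀ u ∈ U, ∀ v ∈ U, u ≠ 1 → v ≠ 1 → u ≠ v → ∀ x ∈ X u, ∀ y ∈ X v, x ∉ U → y ∉ U →
    x * y ≠ y * x
  /-- `X w` and `X v` induce the same group on `X u`. -/
  ind : ∀ u ∈ U, ∀ v ∈ U, ∀ w ∈ U, u ≠ 1 → v ≠ 1 → w ≠ 1 → u ≠ v → u ≠ w → v ≠ w →
    ∀ g ∈ X w, ∃ b ∈ X v, ∀ x ∈ X u, (b⁻¹ * g) * x = x * (b⁻¹ * g)

namespace KSeven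

variable {U : Subgroup G} {X : G → Subgroup G}

theorem ucomm (h : KSeven U X) {x y : G} (hx : x ∈ U) (hy : y ∈ U) : x * y = y * x := by
  have h1 := h.sq x hx
  have h2 := h.sq y hy
  have h3 := h.sq (x * y) (U.mul_mem hx hy)
  have hx' : x⁻¹ = x := inv_eq_of_mul_eq_one_left h1
  have hy' : y⁻¹ = y := inv_eq_of_mul_eq_one_left h2
  have h3' : (x * y)⁻¹ = x * y := inv_eq_of_mul_eq_one_left h3
  rw [mul_inv_rev, hx', hy'] at h3'
  exact h3'.symm

theorem xcomm (h : KSeven U X) {u : G} (hu : u ∈ U) (hu1 : u ≠ 1) {x y : G} (hx : x ∈ X u)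
    (hy : y ∈ X u) : x * y = y * x := by
  have h1 := h.xsq u hu hu1 x hx
  have h2 := h.xsq u hu hu1 y hy
  have h3 := h.xsq u hu hu1 (x * y) ((X u).mul_mem hx hy)
  have hx' : x⁻¹ = x := inv_eq_of_mul_eq_one_left h1
  have hy' : y⁻¹ = y := inv_eq_of_mul_eq_one_left h2
  have h3' : (x * y)⁻¹ = x * y := inv_eq_of_mul_eq_one_left h3
  rw [mul_inv_rev, hx', hy'] at h3'
  exact h3'.symm

/-- `X u` centralises `U`. -/
theorem xu (h : KSeven U X) {u : G} (hu : u ∈ U) (hu1 : u ≠ 1) {x z : G} (hx : x ∈ X u)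
    (hz : z ∈ U) : x * z = z * x := h.xcomm hu hu1 hx (h.le u hu hu1 hz)

/-- elements centralising `U` normalise `X u`. -/
theorem cnorm (h : KSeven U X) {c : G} (hc : ∀ z ∈ U, c * z = z * c) {u : G} (hu : u ∈ U)
    (hu1 : u ≠ 1) {x : G} (hx : x ∈ X u) : c * x * c⁻¹ ∈ X u := by
  have hcc : ∀ z ∈ U, c * z * c⁻¹ = z := fun z hz => by rw [hc z hz]; group
  have := h.conj c (fun z hz => by rw [hcc z hz]; exact hz) u hu hu1 x hx
  rwa [hcc u hu] at this

theorem cnorm' (h : KSeven U X) {c : G} (hc : ∀ z ∈ U, c * z = z * c) {u : G} (hu : u ∈ U)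
    (hu1 : u ≠ 1) {x : G} (hx : x ∈ X u) : c⁻¹ * x * c ∈ X u := by
  have hc' : ∀ z ∈ U, c⁻¹ * z = z * c⁻¹ := fun z hz => by
    have := hc z hz
    calc c⁻¹ * z = c⁻¹ * (z * c) * c⁻¹ := by group
      _ = c⁻¹ * (c * z) * c⁻¹ := by rw [this]
      _ = z * c⁻¹ := by group
  simpa using h.cnorm hc' hu hu1 hx

/-- A triple of different involutions of `U`. -/
structure Tri (U : Subgroup G) (u v w : G) : Prop where
  hu : u ∈ U
  hv : v ∈ U
  hw : w ∈ U
  u1 : u ≠ 1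
  v1 : v ≠ 1
  w1 : w ≠ 1
  uv : u ≠ v
  uw : u ≠ w
  vw : v ≠ w

theorem Tri.swap12 {u v w : G} (t : Tri U u v w) : Tri U v u w :=
  ⟨t.hv, t.hu, t.hw, t.v1, t.u1, t.w1, t.uv.symm, t.vw, t.uw⟩

theorem Tri.swap23 {u v w : G} (t : Tri U u v w) : Tri U u w v :=
  ⟨t.hu, t.hw, t.hv, t.u1, t.w1, t.v1, t.uw, t.uv, t.vw.symm⟩

/-- Decomposition of `g ∈ X w` along `X u`, `X v`. -/
structure Dec (X : G → Subgroup G) (u v g a b t : G) : Prop where
  ha : a ∈ X u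
  hb : b ∈ X v
  tu : ∀ x ∈ X u, t * x = x * t
  tv : ∀ x ∈ X v, t * x = x * t
  eq : g = a * b * t

theorem comm_mem (h : KSeven U X) {u v w : G} (T : Tri U u v w) {a b : G} (ha : a ∈ X u)
    (hb : b ∈ X v) : a * b * a⁻¹ * b⁻¹ ∈ U := by
  refine h.inf u T.hu v T.hv T.u1 T.v1 T.uv _ ?_ ?_
  · have := h.cnorm (c := b) (fun z hz => h.xu T.hv T.v1 hb hz) T.hu T.u1 ((X u).inv_mem ha)
    have := (X u).mul_mem ha this
    convert this using 1; group
  · have := h.cnorm (c := a) (fun z hz => h.xu T.hu T.u1 ha hz) T.hv T.v1 hb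
    exact (X v).mul_mem this ((X v).inv_mem hb)

theorem exists_dec (h : KSeven U X) {u v w : G} (T : Tri U u v w) {g : G} (hg : g ∈ X w) :
    ∃ a b t, Dec X u v g a b t := by
  obtain ⟨b, hb, hb'⟩ := h.ind u T.hu v T.hv w T.hw T.u1 T.v1 T.w1 T.uv T.uw T.vw g hg
  obtain ⟨a, ha, ha'⟩ := h.ind v T.hv u T.hu w T.hw T.v1 T.u1 T.w1 T.uv.symm T.vw T.uw g hg
  refine ⟨a, b, b⁻¹ * a⁻¹ * g, ha, hb, ?_, ?_, by group⟩
  · -- commutes with `X u`
    intro x hx
    -- `b⁻¹ a⁻¹ g = (b⁻¹ a⁻¹ b a) * a⁻¹ * (b⁻¹ g)`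
    have hU : b⁻¹ * a⁻¹ * b * a ∈ U := by
      have := h.comm_mem T ((X u).inv_mem ha) ((X v).inv_mem hb)
      have := U.inv_mem this
      convert this using 1; group
    have e : b⁻¹ * a⁻¹ * g = (b⁻¹ * a⁻¹ * b * a) * a⁻¹ * (b⁻¹ * g) := by group
    rw [e]
    have h1 := hb' x hx
    have h2 := h.xcomm T.hu T.u1 ((X u).inv_mem ha) hx
    have h3 := (h.xu T.hu T.u1 hx hU).symm
    calc (b⁻¹ * a⁻¹ * b * a) * a⁻¹ * (b⁻¹ * g) * x
        = (b⁻¹ * a⁻¹ * b * a) * a⁻¹ * ((b⁻¹ * g) * x) := by simp only [mul_assoc]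
      _ = (b⁻¹ * a⁻¹ * b * a) * (a⁻¹ * x) * (b⁻¹ * g) := by rw [h1]; simp only [mul_assoc]
      _ = ((b⁻¹ * a⁻¹ * b * a) * x) * a⁻¹ * (b⁻¹ * g) := by rw [h2]; simp only [mul_assoc]
      _ = x * ((b⁻¹ * a⁻¹ * b * a) * a⁻¹ * (b⁻¹ * g)) := by rw [h3]; simp only [mul_assoc]
  · intro x hx
    have h1 := ha' x hx
    have h2 := h.xcomm T.hv T.v1 ((X v).inv_mem hb) hx
    calc b⁻¹ * a⁻¹ * g * x = b⁻¹ * ((a⁻¹ * g) * x) := by simp only [mul_assoc]
      _ = (b⁻¹ * x) * (a⁻¹ * g) := by rw [h1]; simp only [mul_assoc]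
      _ = x * (b⁻¹ * a⁻¹ * g) := by rw [h2]; simp only [mul_assoc]

theorem Dec.conj_v (h : KSeven U X) {u v w : G} (T : Tri U u v w) {g a b t : G}
    (D : Dec X u v g a b t) {y : G} (hy : y ∈ X v) : g * y * g⁻¹ = a * y * a⁻¹ := by
  have h1 := D.tv y hy
  have h2 := h.xcomm T.hv T.v1 D.hb hy
  rw [D.eq]
  calc a * b * t * y * (a * b * t)⁻¹ = a * b * (t * y) * t⁻¹ * b⁻¹ * a⁻¹ := by group
    _ = a * (b * y) * b⁻¹ * a⁻¹ := by rw [h1]; group
    _ = a * y * a⁻¹ := by rw [h2]; group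

theorem Dec.conj_u (h : KSeven U X) {u v w : G} (T : Tri U u v w) {g a b t : G}
    (D : Dec X u v g a b t) {x : G} (hx : x ∈ X u) : g * x * g⁻¹ = b * x * b⁻¹ := by
  have h1 := D.tu x hx
  have h3 := h.cnorm (c := b) (fun z hz => h.xu T.hv T.v1 D.hb hz) T.hu T.u1 hx
  have h2 := h.xcomm T.hu T.u1 D.ha h3
  rw [D.eq]
  calc a * b * t * x * (a * b * t)⁻¹ = a * b * (t * x) * t⁻¹ * b⁻¹ * a⁻¹ := by group
    _ = (a * (b * x * b⁻¹)) * a⁻¹ := by rw [h1]; group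
    _ = b * x * b⁻¹ := by rw [h2]; group

theorem comm_of_conj_eq {a a' y : G} (e : a * y * a⁻¹ = a' * y * a'⁻¹) :
    (a⁻¹ * a') * y = y * (a⁻¹ * a') := by
  have : y = a⁻¹ * (a' * y * a'⁻¹) * a := by rw [← e]; group
  calc (a⁻¹ * a') * y = (a⁻¹ * (a' * y * a'⁻¹) * a) * (a⁻¹ * a') := by group
    _ = y * (a⁻¹ * a') := by rw [← this]

/-- the parts of a decomposition are unique modulo `U`. -/
theorem dec_unique (h : KSeven U X) {u v w : G} (T : Tri U u v w) {g g' z a b t a' b' t' : G}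
    (hz : z ∈ U) (D : Dec X u v g a b t) (D' : Dec X u v g' a' b' t')
    (e : g' = g * z) : a⁻¹ * a' ∈ U ∧ b⁻¹ * b' ∈ U := by
  have key : ∀ p ∈ U, p ≠ 1 → ∀ y ∈ X p, g' * y * g'⁻¹ = g * y * g⁻¹ := by
    intro p hp hp1 y hy
    have := h.xu hp hp1 hy hz
    rw [e]
    calc g * z * y * (g * z)⁻¹ = g * (z * y) * z⁻¹ * g⁻¹ := by group
      _ = g * y * g⁻¹ := by rw [← this]; group
  constructor
  · by_contra hn
    obtain ⟨y, hy, -, -, hyU, -⟩ := h.big v T.hv T.v1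
    have hax : a⁻¹ * a' ∈ X u := (X u).mul_mem ((X u).inv_mem D.ha) D'.ha
    refine h.ncomm u T.hu v T.hv T.u1 T.v1 T.uv _ hax y hy hn hyU (comm_of_conj_eq ?_)
    rw [← Dec.conj_v h T D hy, ← Dec.conj_v h T D' hy, key v T.hv T.v1 y hy]
  · by_contra hn
    obtain ⟨y, hy, -, -, hyU, -⟩ := h.big u T.hu T.u1
    have hbx : b⁻¹ * b' ∈ X v := (X v).mul_mem ((X v).inv_mem D.hb) D'.hb
    refine h.ncomm v T.hv u T.hu T.v1 T.u1 T.uv.symm _ hbx y hy hn hyU (comm_of_conj_eq ?_)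
    rw [← Dec.conj_u h T D hy, ← Dec.conj_u h T D' hy, key u T.hu T.u1 y hy]

/-- neither part lies in `U` -/
theorem dec_nU (h : KSeven U X) {u v w : G} (T : Tri U u v w) {g a b t : G}
    (hg : g ∈ X w) (hgU : g ∉ U) (D : Dec X u v g a b t) : a ∉ U ∧ b ∉ U := by
  constructor
  · intro haU
    obtain ⟨y, hy, -, -, hyU, -⟩ := h.big v T.hv T.v1
    refine h.ncomm w T.hw v T.hv T.w1 T.v1 T.vw.symm g hg y hy hgU hyU ?_
    have := Dec.conj_v h T D hy
    have h2 := h.xu T.hv T.v1 hy haU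
    have : g * y * g⁻¹ = y := by rw [this, ← h2]; group
    calc g * y = (g * y * g⁻¹) * g := by group
      _ = y * g := by rw [this]
  · intro hbU
    obtain ⟨y, hy, -, -, hyU, -⟩ := h.big u T.hu T.u1
    refine h.ncomm w T.hw u T.hu T.w1 T.u1 T.uw.symm g hg y hy hgU hyU ?_
    have := Dec.conj_u h T D hy
    have h2 := h.xu T.hu T.u1 hy hbU
    have : g * y * g⁻¹ = y := by rw [this, ← h2]; group
    calc g * y = (g * y * g⁻¹) * g := by group
      _ = y * g := by rw [this]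

/-- `t² = [a,b]` -/
theorem dec_sq (h : KSeven U X) {u v w : G} (T : Tri U u v w) {g a b t : G}
    (hg : g ∈ X w) (D : Dec X u v g a b t) : t * t = a * b * a * b := by
  have h1 := h.xsq w T.hw T.w1 g hg
  have hta := D.tu a D.ha
  have htb := D.tv b D.hb
  have hc := h.comm_mem T D.ha D.hb
  have ha := h.xsq u T.hu T.u1 a D.ha
  have hb := h.xsq v T.hv T.v1 b D.hb
  have ha' : a⁻¹ = a := inv_eq_of_mul_eq_one_left ha
  have hb' : b⁻¹ = b := inv_eq_of_mul_eq_one_left hb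
  rw [ha', hb'] at hc
  have hcc := h.sq _ hc
  have e : (a * b * a * b) * (t * t) = 1 := by
    rw [← h1, D.eq]
    calc (a * b * a * b) * (t * t) = a * b * a * (b * t) * t := by simp only [mul_assoc]
      _ = a * b * (a * t) * (b * t) := by
          have : b * t * t = t * (b * t) := by rw [← mul_assoc, htb]
          rw [mul_assoc (a * b * a), this]; simp only [mul_assoc]
      _ = a * b * t * (a * b * t) := by rw [← hta]; simp only [mul_assoc]
  have : t * t = (a * b * a * b)⁻¹ := (inv_eq_of_mul_eq_one_right e).symm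
  rw [this]; exact inv_eq_of_mul_eq_one_left hcc

/-- The constant `c` of an ordered triple. -/
def Const (U : Subgroup G) (X : G → Subgroup G) (u v w c : G) : Prop :=
  c ∈ U ∧ c ≠ 1 ∧ ∀ g ∈ X w, g ∉ U → ∀ a b t, Dec X u v g a b t → t * t = c

theorem exists_const (h : KSeven U X) {u v w : G} (T : Tri U u v w) :
    ∃ c, Const U X u v w c := by
  obtain ⟨g, hg, -, -, hgU, -⟩ := h.big w T.hw T.w1
  obtain ⟨a, b, t, D⟩ := h.exists_dec T hg
  have haU := (h.dec_nU T hg hgU D).1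
  have hbU := (h.dec_nU T hg hgU D).2
  have ha := h.xsq u T.hu T.u1 a D.ha
  have hb := h.xsq v T.hv T.v1 b D.hb
  have ha' : a⁻¹ = a := inv_eq_of_mul_eq_one_left ha
  have hb' : b⁻¹ = b := inv_eq_of_mul_eq_one_left hb
  have hc := h.comm_mem T D.ha D.hb
  rw [ha', hb'] at hc
  refine ⟨a * b * a * b, hc, ?_, ?_⟩
  · intro e
    refine h.ncomm u T.hu v T.hv T.u1 T.v1 T.uv a D.ha b D.hb haU hbU ?_
    calc a * b = (a * b * a * b) * (b⁻¹ * a⁻¹) := by group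
      _ = b * a := by rw [e, ha', hb', one_mul]
  · intro g' hg' hgU' a' b' t' D'
    rw [h.dec_sq T hg' D']
    obtain ⟨c, hcU, z, hz, e⟩ := h.ctrans w T.hw T.w1 g hg g' hg' hgU hgU'
    -- conjugate of the decomposition of `g`
    have hcinv : ∀ x ∈ U, c⁻¹ * x = x * c⁻¹ := fun x hx => by
      have := hcU x hx
      calc c⁻¹ * x = c⁻¹ * (x * c) * c⁻¹ := by group
        _ = c⁻¹ * (c * x) * c⁻¹ := by rw [this]
        _ = x * c⁻¹ := by group
    have D1 : Dec X u v (c * g * c⁻¹) (c * a * c⁻¹) (c * b * c⁻¹) (c * t * c⁻¹) := by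
      refine ⟨h.cnorm hcU T.hu T.u1 D.ha, h.cnorm hcU T.hv T.v1 D.hb, ?_, ?_, ?_⟩
      · intro x hx
        have := D.tu _ (h.cnorm' hcU T.hu T.u1 hx)
        calc c * t * c⁻¹ * x = c * (t * (c⁻¹ * x * c)) * c⁻¹ := by group
          _ = x * (c * t * c⁻¹) := by rw [this]; group
      · intro x hx
        have := D.tv _ (h.cnorm' hcU T.hv T.v1 hx)
        calc c * t * c⁻¹ * x = c * (t * (c⁻¹ * x * c)) * c⁻¹ := by group
          _ = x * (c * t * c⁻¹) := by rw [this]; group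
      · rw [D.eq]; group
    obtain ⟨hu1, hv1⟩ := h.dec_unique T hz D' D1 e
    -- a1 = a' * p, b1 = b' * r
    set p := a'⁻¹ * (c * a * c⁻¹) with hp
    set r := b'⁻¹ * (c * b * c⁻¹) with hr
    have ea : c * a * c⁻¹ = a' * p := by rw [hp]; group
    have eb : c * b * c⁻¹ = b' * r := by rw [hr]; group
    have e1 : c * (a * b * a * b) * c⁻¹ = a * b * a * b := by
      rw [hcU _ hc]; group
    have e2 : c * (a * b * a * b) * c⁻¹ = (a' * p) * (b' * r) * (a' * p) * (b' * r) := by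
      rw [← ea, ← eb]; group
    have pb : p * b' = b' * p := (h.xu T.hv T.v1 D'.hb hu1).symm
    have pa : p * a' = a' * p := (h.xu T.hu T.u1 D'.ha hu1).symm
    have ra : r * a' = a' * r := (h.xu T.hu T.u1 D'.ha hv1).symm
    have rb : r * b' = b' * r := (h.xu T.hv T.v1 D'.hb hv1).symm
    have pr : p * r = r * p := h.ucomm hu1 hv1
    have pp := h.sq p hu1
    have rr := h.sq r hv1
    have e3 : (a' * p) * (b' * r) * (a' * p) * (b' * r) = a' * b' * a' * b' := by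
      calc (a' * p) * (b' * r) * (a' * p) * (b' * r)
          = a' * (p * b') * (r * a') * (p * b') * r := by simp only [mul_assoc]
        _ = a' * b' * (p * a') * (r * b') * p * r := by rw [pb, ra]; simp only [mul_assoc]
        _ = a' * b' * a' * (p * b') * (r * p) * r := by rw [pa, rb]; simp only [mul_assoc]
        _ = a' * b' * a' * b' * (p * p) * (r * r) := by rw [pb, ← pr]; simp only [mul_assoc]
        _ = a' * b' * a' * b' := by rw [pp, rr]; simp only [mul_one]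
    rw [← e3, ← e2, e1]

theorem const_unique (h : KSeven U X) {u v w c c' : G} (T : Tri U u v w)
    (hc : Const U X u v w c) (hc' : Const U X u v w c') : c = c' := by
  obtain ⟨g, hg, -, -, hgU, -⟩ := h.big w T.hw T.w1
  obtain ⟨a, b, t, D⟩ := h.exists_dec T hg
  rw [← hc.2.2 g hg hgU a b t D, hc'.2.2 g hg hgU a b t D]

/-- swapping the first two members of the triple -/
theorem const_swap12 (h : KSeven U X) {u v w c : G} (T : Tri U u v w)
    (hc : Const U X u v w c) : Const U X v u w c := by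
  refine ⟨hc.1, hc.2.1, ?_⟩
  intro g hg hgU b a t D
  have hq := h.comm_mem T.swap12 (a := b⁻¹) (b := a⁻¹) ((X v).inv_mem D.ha) ((X u).inv_mem D.hb)
  -- g = b a t = a b (b⁻¹ a⁻¹ b a) t
  have D' : Dec X u v g a b ((b⁻¹ * a⁻¹ * b⁻¹⁻¹ * a⁻¹⁻¹) * t) := by
    refine ⟨D.hb, D.ha, ?_, ?_, ?_⟩
    · intro x hx
      have h1 := D.tv x hx
      have h2 := (h.xu T.hu T.u1 hx hq).symm
      rw [mul_assoc, h1, ← mul_assoc, h2, mul_assoc]
    · intro x hx
      have h1 := D.tu x hx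
      have h2 := (h.xu T.hv T.v1 hx hq).symm
      rw [mul_assoc, h1, ← mul_assoc, h2, mul_assoc]
    · rw [D.eq]; group
  have h1 := hc.2.2 g hg hgU _ _ _ D'
  have h2 := h.sq _ hq
  have ht : t * (b⁻¹ * a⁻¹ * b⁻¹⁻¹ * a⁻¹⁻¹) = (b⁻¹ * a⁻¹ * b⁻¹⁻¹ * a⁻¹⁻¹) * t :=
    D.tv _ (h.le u T.hu T.u1 hq)
  generalize hk : b⁻¹ * a⁻¹ * b⁻¹⁻¹ * a⁻¹⁻¹ = k at h1 h2 ht
  rw [← h1]
  calc t * t = (k * k) * (t * t) := by rw [h2, one_mul]
    _ = k * (k * t) * t := by simp only [mul_assoc]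
    _ = k * (t * k) * t := by rw [ht]
    _ = k * t * (k * t) := by simp only [mul_assoc]

/-- the commutator of two `t`'s over different cosets is `c`. -/
theorem dec_comm (h : KSeven U X) {u v w c : G} (T : Tri U u v w) (hc : Const U X u v w c)
    {g g' a b t a' b' t' : G} (hg : g ∈ X w) (hg' : g' ∈ X w)
    (hgg : g * g' ∉ U) (D : Dec X u v g a b t) (D' : Dec X u v g' a' b' t') :
    t * t' * t * t' = c := by
  -- g g' = a b t a' b' t' = a b a' b' t t' = a a' b [b⁻¹,a'⁻¹].. b' t t'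
  have hq := h.comm_mem T.swap12 (a := b) (b := a'⁻¹) D.hb ((X u).inv_mem D'.ha)
  -- b a'⁻¹ b⁻¹ a' =: k⁻¹..., so  b * a' = a' * b * k with k = b⁻¹ a'⁻¹ b a'
  have hk : b⁻¹ * a'⁻¹ * b * a' ∈ U := by
    have := h.comm_mem T.swap12 (a := b⁻¹) (b := a'⁻¹) ((X v).inv_mem D.hb) ((X u).inv_mem D'.ha)
    simpa using this
  set k := b⁻¹ * a'⁻¹ * b * a' with hkd
  have D2 : Dec X u v (g * g') (a * a') (b * b') (k * (t * t')) := by
    refine ⟨(X u).mul_mem D.ha D'.ha, (X v).mul_mem D.hb D'.hb, ?_, ?_, ?_⟩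
    · intro x hx
      have h1 := D.tu x hx
      have h1' := D'.tu x hx
      have h2 := (h.xu T.hu T.u1 hx hk).symm
      calc k * (t * t') * x = k * (t * (t' * x)) := by simp only [mul_assoc]
        _ = k * ((t * x) * t') := by rw [h1']; simp only [mul_assoc]
        _ = (k * x) * (t * t') := by rw [h1]; simp only [mul_assoc]
        _ = x * (k * (t * t')) := by rw [h2]; simp only [mul_assoc]
    · intro x hx
      have h1 := D.tv x hx
      have h1' := D'.tv x hx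
      have h2 := (h.xu T.hv T.v1 hx hk).symm
      calc k * (t * t') * x = k * (t * (t' * x)) := by simp only [mul_assoc]
        _ = k * ((t * x) * t') := by rw [h1']; simp only [mul_assoc]
        _ = (k * x) * (t * t') := by rw [h1]; simp only [mul_assoc]
        _ = x * (k * (t * t')) := by rw [h2]; simp only [mul_assoc]
    · have h1 : t * a' = a' * t := D.tu a' D'.ha
      have h2 : t * b' = b' * t := D.tv b' D'.hb
      have h3 : k * b' = b' * k := (h.xu T.hv T.v1 D'.hb hk).symm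
      have h4 : b * a' = a' * b * k := by rw [hkd]; group
      rw [D.eq, D'.eq]
      calc a * b * t * (a' * b' * t') = a * b * (t * a') * b' * t' := by simp only [mul_assoc]
        _ = a * (b * a') * (t * b') * t' := by rw [h1]; simp only [mul_assoc]
        _ = a * a' * b * (k * b') * (t * t') := by rw [h2, h4]; simp only [mul_assoc]
        _ = a * a' * (b * b') * (k * (t * t')) := by rw [h3]; simp only [mul_assoc]
  have h1 := hc.2.2 _ ((X w).mul_mem hg hg') hgg _ _ _ D2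
  have hkk := h.sq k hk
  have ht : t * k = k * t := D.tu _ (h.le u T.hu T.u1 hk)
  have ht' : t' * k = k * t' := D'.tu _ (h.le u T.hu T.u1 hk)
  rw [← h1]
  calc t * t' * t * t' = (k * k) * (t * t') * (t * t') := by rw [hkk]; simp only [mul_assoc, one_mul]
    _ = k * ((k * t) * t') * (t * t') := by simp only [mul_assoc]
    _ = k * (t * (k * t')) * (t * t') := by rw [← ht]; simp only [mul_assoc]
    _ = k * (t * t') * (k * (t * t')) := by rw [← ht']; simp only [mul_assoc]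

/-- swapping the last two members of the triple -/
theorem const_swap23 (h : KSeven U X) {u v w c c' : G} (T : Tri U u v w)
    (hc : Const U X u v w c) (hc' : Const U X u w v c') : c = c' := by
  obtain ⟨b₁, hb₁, b₂, hb₂, hb₁U, hb₂U, hbb⟩ := h.big v T.hv T.v1
  -- decompositions of `b₁, b₂` along `u, w`
  obtain ⟨a₁, g₁, s₁, E₁⟩ := h.exists_dec T.swap23 hb₁
  obtain ⟨a₂, g₂, s₂, E₂⟩ := h.exists_dec T.swap23 hb₂
  have hg₁U := (h.dec_nU T.swap23 hb₁ hb₁U E₁).2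
  have hg₂U := (h.dec_nU T.swap23 hb₂ hb₂U E₂).2
  -- decompositions of `g₁, g₂` along `u, v`
  obtain ⟨x₁, y₁, t₁, D₁⟩ := h.exists_dec T E₁.hb
  obtain ⟨x₂, y₂, t₂, D₂⟩ := h.exists_dec T E₂.hb
  -- `y_i` and `b_i` agree modulo `U`, both act on `X u` as `g_i`
  have act : ∀ {b g y a s x t : G}, b ∈ X v → Dec X u w b a g s → Dec X u v g x y t →
      y⁻¹ * b ∈ U := by
    intro b g y a s x t hb E D
    by_contra hn
    obtain ⟨z, hz, -, -, hzU, -⟩ := h.big u T.hu T.u1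
    have hyb : y⁻¹ * b ∈ X v := (X v).mul_mem ((X v).inv_mem D.hb) hb
    refine h.ncomm v T.hv u T.hu T.v1 T.u1 T.uv.symm _ hyb z hz hn hzU (comm_of_conj_eq ?_)
    rw [← Dec.conj_u h T D hz, ← Dec.conj_u h T.swap23 E hz]
  -- `s = g⁻¹ a⁻¹ b` with `g = x y t`, `b = y z`:  `s = t⁻¹ y⁻¹ x⁻¹ a⁻¹ y z = x' t⁻¹ z`
  have form : ∀ {b g y a s x t : G}, b ∈ X v → Dec X u w b a g s → Dec X u v g x y t →
      ∃ p ∈ X u, s = p * t⁻¹ := by
    intro b g y a s x t hb E D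
    have hz := act hb E D
    set z := y⁻¹ * b with hzd
    have eb : b = y * z := by rw [hzd]; group
    have es : s = g⁻¹ * a⁻¹ * b := by rw [E.eq]; group
    have hzu : z ∈ X u := h.le u T.hu T.u1 hz
    have hyn : y⁻¹ * (x⁻¹ * a⁻¹) * y ∈ X u :=
      h.cnorm' (c := y) (fun z hz => h.xu T.hv T.v1 D.hb hz) T.hu T.u1
        ((X u).mul_mem ((X u).inv_mem D.ha) ((X u).inv_mem E.ha))
    have ht : ∀ q ∈ X u, t⁻¹ * q = q * t⁻¹ := fun q hq => by
      have := D.tu q hq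
      calc t⁻¹ * q = t⁻¹ * (q * t) * t⁻¹ := by group
        _ = t⁻¹ * (t * q) * t⁻¹ := by rw [this]
        _ = q * t⁻¹ := by group
    refine ⟨(y⁻¹ * (x⁻¹ * a⁻¹) * y) * z, (X u).mul_mem hyn hzu, ?_⟩
    rw [← ht _ ((X u).mul_mem hyn hzu), es, D.eq, eb]; group
  obtain ⟨p₁, hp₁, e₁⟩ := form hb₁ E₁ D₁
  obtain ⟨p₂, hp₂, e₂⟩ := form hb₂ E₂ D₂
  have hgg : g₁ * g₂ ∉ U := by
    intro hU
    have k1 := act hb₁ E₁ D₁
    have k2 := act hb₂ E₂ D₂
    -- decomposition of `g₁ g₂`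
    apply hbb
    by_contra hn
    obtain ⟨z, hz, -, -, hzU, -⟩ := h.big u T.hu T.u1
    refine h.ncomm v T.hv u T.hu T.v1 T.u1 T.uv.symm _ ((X v).mul_mem hb₁ hb₂) z hz hn hzU ?_
    have c1 := Dec.conj_u h T.swap23 E₂ hz
    have hz2 : b₂ * z * b₂⁻¹ ∈ X u :=
      h.cnorm (c := b₂) (fun z hz => h.xu T.hv T.v1 hb₂ hz) T.hu T.u1 hz
    have c2 := Dec.conj_u h T.swap23 E₁ hz2
    have c3 : (g₁ * g₂) * z = z * (g₁ * g₂) := (h.xu T.hu T.u1 hz hU).symm
    have c4 : (b₁ * b₂) * z * (b₁ * b₂)⁻¹ = z := by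
      calc (b₁ * b₂) * z * (b₁ * b₂)⁻¹ = b₁ * (b₂ * z * b₂⁻¹) * b₁⁻¹ := by group
        _ = g₁ * (b₂ * z * b₂⁻¹) * g₁⁻¹ := c2
        _ = g₁ * (g₂ * z * g₂⁻¹) * g₁⁻¹ := by rw [c1]
        _ = (g₁ * g₂) * z * (g₁ * g₂)⁻¹ := by group
        _ = z := by rw [c3]; group
    calc b₁ * b₂ * z = ((b₁ * b₂) * z * (b₁ * b₂)⁻¹) * (b₁ * b₂) := by group
      _ = z * (b₁ * b₂) := by rw [c4]
  have r1 := h.dec_comm T hc E₁.hb E₂.hb hgg D₁ D₂
  have r2 := h.dec_comm T.swap23 hc' hb₁ hb₂ hbb E₁ E₂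
  have q1 := hc.2.2 g₁ E₁.hb hg₁U _ _ _ D₁
  have q2 := hc.2.2 g₂ E₂.hb hg₂U _ _ _ D₂
  have hcc := h.sq c hc.1
  have hcu : c ∈ X u := h.le u T.hu T.u1 hc.1
  -- `s_i² = c'`, `s_i = p_i t_i⁻¹`
  have p1 := h.xsq u T.hu T.u1 _ hp₁
  have p2 := h.xsq u T.hu T.u1 _ hp₂
  have p12 := h.xcomm T.hu T.u1 hp₁ hp₂
  have inv : ∀ {t : G}, (∀ x ∈ X u, t * x = x * t) → t * t = c → t⁻¹ = c * t := by
    intro t ht hq
    have : c * t * t = 1 := by rw [mul_assoc, hq, hcc]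
    exact inv_eq_of_mul_eq_one_left this
  have i1 := inv D₁.tu q1
  have i2 := inv D₂.tu q2
  have t1p1 := D₁.tu p₁ hp₁
  have t1p2 := D₁.tu p₂ hp₂
  have t2p1 := D₂.tu p₁ hp₁
  have t2p2 := D₂.tu p₂ hp₂
  have t1c := D₁.tu c hcu
  have t2c := D₂.tu c hcu
  have p1c := h.xcomm T.hu T.u1 hp₁ hcu
  have p2c := h.xcomm T.hu T.u1 hp₂ hcu
  rw [← r2, ← r1, e₁, e₂, i1, i2]
  -- move everything
  have m1 : p₁ * (c * t₁) * (p₂ * (c * t₂)) = p₁ * p₂ * (t₁ * t₂) := by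
    calc p₁ * (c * t₁) * (p₂ * (c * t₂)) = p₁ * c * (t₁ * p₂) * (c * t₂) := by
          simp only [mul_assoc]
      _ = p₁ * (c * p₂) * (t₁ * c) * t₂ := by rw [t1p2]; simp only [mul_assoc]
      _ = p₁ * p₂ * (c * c) * (t₁ * t₂) := by rw [← p2c, t1c]; simp only [mul_assoc]
      _ = p₁ * p₂ * (t₁ * t₂) := by rw [hcc, mul_one]
  have m2 : p₁ * p₂ * (t₁ * t₂) * (p₁ * p₂ * (t₁ * t₂)) = t₁ * t₂ * t₁ * t₂ := by
    have hq : (t₁ * t₂) * (p₁ * p₂) = (p₁ * p₂) * (t₁ * t₂) := by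
      calc (t₁ * t₂) * (p₁ * p₂) = t₁ * (t₂ * p₁) * p₂ := by simp only [mul_assoc]
        _ = (t₁ * p₁) * (t₂ * p₂) := by rw [t2p1]; simp only [mul_assoc]
        _ = p₁ * (t₁ * p₂) * t₂ := by rw [t1p1, t2p2]; simp only [mul_assoc]
        _ = (p₁ * p₂) * (t₁ * t₂) := by rw [t1p2]; simp only [mul_assoc]
    have hpp : (p₁ * p₂) * (p₁ * p₂) = 1 := by
      calc (p₁ * p₂) * (p₁ * p₂) = p₁ * (p₂ * p₁) * p₂ := by simp only [mul_assoc]
        _ = (p₁ * p₁) * (p₂ * p₂) := by rw [← p12]; simp only [mul_assoc]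
        _ = 1 := by rw [p1, p2, one_mul]
    calc p₁ * p₂ * (t₁ * t₂) * (p₁ * p₂ * (t₁ * t₂))
        = p₁ * p₂ * ((t₁ * t₂) * (p₁ * p₂)) * (t₁ * t₂) := by simp only [mul_assoc]
      _ = ((p₁ * p₂) * (p₁ * p₂)) * (t₁ * t₂) * (t₁ * t₂) := by rw [hq]; simp only [mul_assoc]
      _ = t₁ * t₂ * t₁ * t₂ := by rw [hpp, one_mul]; simp only [mul_assoc]
  calc t₁ * t₂ * t₁ * t₂ = p₁ * p₂ * (t₁ * t₂) * (p₁ * p₂ * (t₁ * t₂)) := m2.symm
    _ = p₁ * (c * t₁) * (p₂ * (c * t₂)) * (p₁ * (c * t₁) * (p₂ * (c * t₂))) := by rw [m1]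
    _ = p₁ * (c * t₁) * (p₂ * (c * t₂)) * (p₁ * (c * t₁)) * (p₂ * (c * t₂)) := by
        simp only [mul_assoc]

/-- conjugating the constant -/
theorem const_conj (h : KSeven U X) {u v w c n : G} (T : Tri U u v w)
    (hn : ∀ x ∈ U, n * x * n⁻¹ ∈ U) (hn' : ∀ x ∈ U, n⁻¹ * x * n ∈ U) (hc : Const U X u v w c) :
    Const U X (n * u * n⁻¹) (n * v * n⁻¹) (n * w * n⁻¹) (n * c * n⁻¹) := by
  have hX : ∀ {p : G}, p ∈ U → p ≠ 1 → ∀ {x : G}, x ∈ X (n * p * n⁻¹) → n⁻¹ * x * n ∈ X p := by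
    intro p hp hp1 x hx
    have := h.conj n⁻¹ (by simpa using hn') (n * p * n⁻¹) (hn p hp)
      (fun e => hp1 (by simpa using e)) x hx
    have e : n⁻¹ * (n * p * n⁻¹) * n⁻¹⁻¹ = p := by group
    rw [e] at this
    simpa using this
  refine ⟨hn c hc.1, fun e => hc.2.1 (by simpa using e), ?_⟩
  intro g hg hgU a b t D
  have hg' := hX T.hw T.w1 hg
  have hgU' : n⁻¹ * g * n ∉ U := fun hh => hgU (by
    have := hn _ hh
    have e : n * (n⁻¹ * g * n) * n⁻¹ = g := by group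
    rwa [e] at this)
  have D' : Dec X u v (n⁻¹ * g * n) (n⁻¹ * a * n) (n⁻¹ * b * n) (n⁻¹ * t * n) := by
    refine ⟨hX T.hu T.u1 D.ha, hX T.hv T.v1 D.hb, ?_, ?_, ?_⟩
    · intro x hx
      have := D.tu _ (h.conj n hn u T.hu T.u1 x hx)
      calc n⁻¹ * t * n * x = n⁻¹ * (t * (n * x * n⁻¹)) * n := by group
        _ = x * (n⁻¹ * t * n) := by rw [this]; group
    · intro x hx
      have := D.tv _ (h.conj n hn v T.hv T.v1 x hx)
      calc n⁻¹ * t * n * x = n⁻¹ * (t * (n * x * n⁻¹)) * n := by group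
        _ = x * (n⁻¹ * t * n) := by rw [this]; group
    · rw [D.eq]; group
  have := hc.2.2 _ hg' hgU' _ _ _ D'
  rw [← this]; group

/-- **LEMMA K7.** -/
theorem false (h : KSeven U X) [Finite G] : False := by
  obtain ⟨u, v, hu, hv, hu1, hv1, huv, hall⟩ := h.three
  have huu := h.sq u hu
  have hvv := h.sq v hv
  have hw : u * v ∈ U := U.mul_mem hu hv
  have hw1 : u * v ≠ 1 := fun e => huv (by
    have : v = u := by
      calc v = u * (u * v) := by rw [← mul_assoc, huu, one_mul]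
        _ = u := by rw [e, mul_one]
    exact this.symm)
  have huw : u ≠ u * v := fun e => hv1 (by simpa using e.symm)
  have hvw : v ≠ u * v := fun e => hu1 (by simpa using e.symm)
  have T : Tri U u v (u * v) := ⟨hu, hv, hw, hu1, hv1, hw1, huv, huw, hvw⟩
  obtain ⟨c, hc⟩ := h.exists_const T
  -- the constant is the same for all triples
  have all : ∀ p q r c', Tri U p q r → Const U X p q r c' → c' = c := by
    intro p q r c' T' hc'
    have h12 : ∀ {p q r c₁ c₂ : G}, Tri U p q r → Const U X p q r c₁ → Const U X q p r c₂ →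
        c₁ = c₂ := fun T1 h1 h2 => h.const_unique T1.swap12 (h.const_swap12 T1 h1) h2
    have key : ∀ {c₁ c₂ c₃ c₄ c₅ : G}, Const U X v u (u * v) c₁ → Const U X u (u * v) v c₂ →
        Const U X (u * v) u v c₃ → Const U X v (u * v) u c₄ → Const U X (u * v) v u c₅ →
        c₁ = c ∧ c₂ = c ∧ c₃ = c ∧ c₄ = c ∧ c₅ = c := by
      intro c₁ c₂ c₃ c₄ c₅ h1 h2 h3 h4 h5
      have e1 : c = c₁ := h12 T hc h1
      have e2 : c = c₂ := h.const_swap23 T hc h2
      have e3 : c₂ = c₃ := h12 T.swap23 h2 h3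
      have e4 : c₁ = c₄ := h.const_swap23 T.swap12 h1 h4
      have e5 : c₄ = c₅ := h12 T.swap12.swap23 h4 h5
      exact ⟨e1.symm, e2.symm, by rw [← e3, ← e2], by rw [← e4, ← e1], by rw [← e5, ← e4, ← e1]⟩
    obtain ⟨c₁, k1⟩ := h.exists_const T.swap12
    obtain ⟨c₂, k2⟩ := h.exists_const T.swap23
    obtain ⟨c₃, k3⟩ := h.exists_const T.swap23.swap12
    obtain ⟨c₄, k4⟩ := h.exists_const T.swap12.swap23
    obtain ⟨c₅, k5⟩ := h.exists_const T.swap12.swap23.swap12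
    obtain ⟨e1, e2, e3, e4, e5⟩ := key k1 k2 k3 k4 k5
    rcases hall p T'.hu T'.u1 with rfl | rfl | rfl
    · rcases hall q T'.hv T'.v1 with rfl | rfl | rfl
      · exact absurd rfl T'.uv
      · rcases hall r T'.hw T'.w1 with rfl | rfl | rfl
        · exact absurd rfl T'.uw
        · exact absurd rfl T'.vw
        · exact h.const_unique T hc' hc
      · rcases hall r T'.hw T'.w1 with rfl | rfl | rfl
        · exact absurd rfl T'.uw
        · rw [← e2]; exact h.const_unique T.swap23 hc' k2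
        · exact absurd rfl T'.vw
    · rcases hall q T'.hv T'.v1 with rfl | rfl | rfl
      · rcases hall r T'.hw T'.w1 with rfl | rfl | rfl
        · exact absurd rfl T'.vw
        · exact absurd rfl T'.uw
        · rw [← e1]; exact h.const_unique T.swap12 hc' k1
      · exact absurd rfl T'.uv
      · rcases hall r T'.hw T'.w1 with rfl | rfl | rfl
        · rw [← e4]; exact h.const_unique T.swap12.swap23 hc' k4
        · exact absurd rfl T'.uw
        · exact absurd rfl T'.vw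
    · rcases hall q T'.hv T'.v1 with rfl | rfl | rfl
      · rcases hall r T'.hw T'.w1 with rfl | rfl | rfl
        · exact absurd rfl T'.vw
        · rw [← e3]; exact h.const_unique T.swap23.swap12 hc' k3
        · exact absurd rfl T'.uw
      · rcases hall r T'.hw T'.w1 with rfl | rfl | rfl
        · rw [← e5]; exact h.const_unique T.swap12.swap23.swap12 hc' k5
        · exact absurd rfl T'.vw
        · exact absurd rfl T'.uw
      · exact absurd rfl T'.uv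
  -- `N(U)` fixes `c`
  have fix : ∀ n : G, (∀ x ∈ U, n * x * n⁻¹ ∈ U) → n * c * n⁻¹ = c := by
    intro n hn
    have hn' : ∀ x ∈ U, n⁻¹ * x * n ∈ U := by
      have hmap : U.map (MulAut.conj n).toMonoidHom = U := by
        refine Subgroup.eq_of_le_of_card_ge ?_ ?_
        · rintro _ ⟨x, hx, rfl⟩
          simpa using hn x hx
        · exact (Nat.card_congr (U.equivMapOfInjective _ (MulAut.conj n).injective).toEquiv).le
      intro x hx
      rw [← hmap] at hx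
      obtain ⟨y, hy, rfl⟩ := hx
      have : n⁻¹ * ((MulAut.conj n).toMonoidHom y) * n = y := by
        simp [MulAut.conj_apply]; group
      rwa [this]
    have T' : Tri U (n * u * n⁻¹) (n * v * n⁻¹) (n * (u * v) * n⁻¹) :=
      ⟨hn _ hu, hn _ hv, hn _ hw, fun e => hu1 (by simpa using e), fun e => hv1 (by simpa using e),
        fun e => hw1 (by simpa using e), fun e => huv (by simpa using e),
        fun e => huw (by simpa using e), fun e => hvw (by simpa using e)⟩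
    exact all _ _ _ _ T' (h.const_conj T hn hn' hc)
  -- transitivity
  rcases hall c hc.1 hc.2.1 with rfl | rfl | rfl
  · obtain ⟨g, hg, e⟩ := h.trans _ hu _ hv hu1 hv1
    exact huv ((fix g hg).symm.trans e)
  · obtain ⟨g, hg, e⟩ := h.trans _ hv _ hu hv1 hu1
    exact huv ((fix g hg).symm.trans e).symm
  · obtain ⟨g, hg, e⟩ := h.trans _ hw _ hu hw1 hu1
    exact huw ((fix g hg).symm.trans e).symm

end KSeven

end Cfsg.Agent.Omega.FOne
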