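import Mathlib.LinearAlgebra.Dual.Defs
import Mathlib.Data.ZMod.Basic
import Mathlib.Tactic.Module
import Mathlib.Tactic.LinearCombination
import Mathlib.GroupTheory.PGroup
import Mathlib.LinearAlgebra.Span.Basic
import Mathlib.Data.Set.Card

/-!
# Lemma TVW (bb OMEGA #15003, helper299): basic facts

`W` an `𝔽₂`-space, `H` a finite group of automorphisms of `W` fixing `y ≠ 0`, faithful on `M = W/y`, `O₂(H) = 1`.
`Θ` an `H`-orbit of vectors outside `{0, y}`, closed under `θ ↦ θ + y`.
`St H y θ f d` : the map `w ↦ w + f(w) θ + d(w) y` lies in `H`.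
-/

set_option autoImplicit false

namespace Cfsg.Agent.Omega.FOne.Tvw

variable {W : Type*} [AddCommGroup W] [Module (ZMod 2) W]

theorem z2 (a : ZMod 2) : a = 0 ∨ a = 1 := by revert a; decide

theorem two0 : (2 : ZMod 2) = 0 := rfl

theorem z2add (a : ZMod 2) : a + a = 0 := by revert a; decide

theorem addself (w : W) : w + w = 0 := by
  have := two_smul (ZMod 2) w
  rw [two0, zero_smul] at this; exact this.symm

theorem faddself (f : W →ₗ[ZMod 2] ZMod 2) : f + f = 0 := by
  ext w; exact z2add (f w)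

theorem eq_of_add_eq_zero' {u v : W} (h : u + v = 0) : u = v := by
  linear_combination (norm := module) h - addself v

theorem feq_of_add {f g : W →ₗ[ZMod 2] ZMod 2} (h : f + g = 0) : f = g := by
  ext w
  have h1 := LinearMap.congr_fun h w
  rw [LinearMap.add_apply, LinearMap.zero_apply] at h1
  rcases z2 (f w) with a | a <;> rcases z2 (g w) with b | b <;> rw [a, b] at h1 ⊢ <;> simp at h1

theorem indep {θ y : W} (h0 : θ ≠ 0) (hy : θ ≠ y) (y0 : y ≠ 0) {a b : ZMod 2}
    (e : a • θ + b • y = 0) : a = 0 ∧ b = 0 := by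
  rcases z2 a with rfl | rfl <;> rcases z2 b with rfl | rfl
  · exact ⟨rfl, rfl⟩
  · exfalso; simp at e; exact y0 e
  · exfalso; simp at e; exact h0 e
  · exfalso; simp only [one_smul] at e; exact hy (eq_of_add_eq_zero' e)

/-- The map `w ↦ w + f(w) θ + d(w) y` lies in `H`. -/
def St (H : Subgroup (W ≃ₗ[ZMod 2] W)) (y θ : W) (f d : W →ₗ[ZMod 2] ZMod 2) : Prop :=
  ∃ h ∈ H, ∀ w, h w = w + f w • θ + d w • y

structure Hyp (H : Subgroup (W ≃ₗ[ZMod 2] W)) (y : W) (Θ : Set W) : Prop where
  y0 : y ≠ 0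
  fix : ∀ h ∈ H, h y = y
  faith : ∀ h ∈ H, (∀ w, h w = w ∨ h w = w + y) → h = 1
  core : ∀ N : Subgroup (W ≃ₗ[ZMod 2] W), N ≤ H → (∀ h ∈ H, ∀ n ∈ N, h * n * h⁻¹ ∈ N) →
    IsPGroup 2 N → N = ⊥
  th0 : ∀ θ ∈ Θ, θ ≠ 0
  thy : ∀ θ ∈ Θ, θ ≠ y
  trans : ∀ θ ∈ Θ, ∀ θ' ∈ Θ, ∃ g ∈ H, g θ = θ'
  mem : ∀ θ ∈ Θ, ∀ g ∈ H, g θ ∈ Θ
  swap : ∀ θ ∈ Θ, θ + y ∈ Θ

section

variable {H : Subgroup (W ≃ₗ[ZMod 2] W)} {y : W} {Θ : Set W}

/-- composition with the inverse. -/
abbrev tr (k : W ≃ₗ[ZMod 2] W) (f : W →ₗ[ZMod 2] ZMod 2) : W →ₗ[ZMod 2] ZMod 2 :=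
  f.comp ((k⁻¹ : W ≃ₗ[ZMod 2] W) : W →ₗ[ZMod 2] W)

theorem tr_apply (k : W ≃ₗ[ZMod 2] W) (f : W →ₗ[ZMod 2] ZMod 2) (w : W) : tr k f w = f (k⁻¹ w) := rfl

theorem ap_inv (k : W ≃ₗ[ZMod 2] W) (w : W) : k (k⁻¹ w) = w := by
  have h : (k * k⁻¹) w = w := by rw [mul_inv_cancel]; rfl
  exact h

theorem inv_ap (k : W ≃ₗ[ZMod 2] W) (w : W) : k⁻¹ (k w) = w := by
  have h : (k⁻¹ * k) w = w := by rw [inv_mul_cancel]; rfl
  exact h

theorem tr_ap (k : W ≃ₗ[ZMod 2] W) (f : W →ₗ[ZMod 2] ZMod 2) (w : W) : tr k f (k w) = f w := by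
  rw [tr_apply, inv_ap]

theorem tr_ne_zero {k : W ≃ₗ[ZMod 2] W} {f : W →ₗ[ZMod 2] ZMod 2} (hf : f ≠ 0) : tr k f ≠ 0 := by
  intro h
  apply hf
  ext w
  rw [← tr_ap k f w, h]; rfl

theorem tr_inj {k : W ≃ₗ[ZMod 2] W} {f g : W →ₗ[ZMod 2] ZMod 2} (h : tr k f = tr k g) : f = g := by
  ext w
  rw [← tr_ap k f w, h, tr_ap]

theorem tr_zero (k : W ≃ₗ[ZMod 2] W) : tr k (0 : W →ₗ[ZMod 2] ZMod 2) = 0 := by
  ext w; rfl

variable (h : Hyp H y Θ)
include h

theorem Hyp.inv_fix {k : W ≃ₗ[ZMod 2] W} (hk : k ∈ H) : k⁻¹ y = y := h.fix _ (H.inv_mem hk)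

variable {θ : W} (hθ : θ ∈ Θ) {f d : W →ₗ[ZMod 2] ZMod 2}
include hθ

theorem Hyp.ind {a b : ZMod 2} (e : a • θ + b • y = 0) : a = 0 ∧ b = 0 :=
  indep (h.th0 θ hθ) (h.thy θ hθ) h.y0 e

theorem Hyp.fy_dy (s : St H y θ f d) : f y = 0 ∧ d y = 0 := by
  obtain ⟨g, hg, e⟩ := s
  have e1 := e y
  rw [h.fix g hg] at e1
  exact h.ind hθ (by linear_combination (norm := module) (-1 : ZMod 2) • e1)

theorem Hyp.fy (s : St H y θ f d) : f y = 0 := (h.fy_dy hθ s).1

theorem Hyp.dy (s : St H y θ f d) : d y = 0 := (h.fy_dy hθ s).2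

theorem Hyp.fth (s : St H y θ f d) : f θ = 0 := by
  rcases z2 (f θ) with a | a
  · exact a
  exfalso
  obtain ⟨g, hg, e⟩ := s
  have e1 := e θ
  rw [a] at e1
  have e2 : g θ = d θ • y := by
    rw [e1]; linear_combination (norm := module) addself θ
  rcases z2 (d θ) with b | b
  · rw [b, zero_smul] at e2
    exact h.th0 θ hθ ((LinearEquiv.map_eq_zero_iff g).1 e2)
  · rw [b, one_smul, ← h.fix g hg] at e2
    exact h.thy θ hθ (g.injective e2)

omit hθ in
theorem Hyp.ap_sq {g : W ≃ₗ[ZMod 2] W} (hg : g ∈ H) (hft : f θ = 0)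
    (e : ∀ w, g w = w + f w • θ + d w • y) (w : W) : g (g w) = w + (f w * d θ) • y := by
  have e1 := e θ
  rw [hft] at e1
  rw [e w, map_add, map_add, map_smul, map_smul, h.fix g hg, e1, e w]
  linear_combination (norm := module) f w • addself θ + d w • addself y

theorem Hyp.sq {g : W ≃ₗ[ZMod 2] W} (hg : g ∈ H) (e : ∀ w, g w = w + f w • θ + d w • y) :
    g * g = 1 := by
  have hft := h.fth hθ ⟨g, hg, e⟩
  refine h.faith _ (H.mul_mem hg hg) fun w => ?_
  have h1 := h.ap_sq hg hft e w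
  rcases z2 (f w * d θ) with a | a
  · left; rw [a, zero_smul, add_zero] at h1; exact h1
  · right; rw [a, one_smul] at h1; exact h1

theorem Hyp.inv_eq {g : W ≃ₗ[ZMod 2] W} (hg : g ∈ H) (e : ∀ w, g w = w + f w • θ + d w • y) :
    g⁻¹ = g := inv_eq_of_mul_eq_one_left (h.sq hθ hg e)

omit hθ in
theorem Hyp.uniq' {g : W ≃ₗ[ZMod 2] W} (hg : g ∈ H) (e : ∀ w, g w = w + d w • y) :
    g = 1 ∧ d = 0 := by
  have h1 : g = 1 := h.faith g hg fun w => by
    rcases z2 (d w) with a | a
    · left; rw [e, a, zero_smul, add_zero]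
    · right; rw [e, a, one_smul]
  refine ⟨h1, ?_⟩
  ext w
  have h2 := e w
  rw [h1] at h2
  rcases z2 (d w) with a | a
  · exact a
  · exfalso
    rw [a, one_smul] at h2
    exact h.y0 (by simpa using h2.symm)

omit hθ in
theorem Hyp.uniq (s : St H y θ 0 d) : d = 0 := by
  obtain ⟨g, hg, e⟩ := s
  refine (h.uniq' hg (d := d) fun w => ?_).2
  rw [e w, LinearMap.zero_apply, zero_smul, add_zero]

theorem Hyp.dth (s : St H y θ f d) : d θ = 0 := by
  have s' := s
  obtain ⟨g, hg, e⟩ := s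
  by_cases hf : f = 0
  · rw [hf] at s'
    rw [h.uniq s']; rfl
  have hft := h.fth hθ s'
  obtain ⟨w, hw⟩ : ∃ w, f w = 1 := by
    by_contra hcon
    push Not at hcon
    exact hf (LinearMap.ext fun w => (z2 (f w)).resolve_right (hcon w))
  have h1 := h.ap_sq hg hft e w
  have h2 : g (g w) = w := by
    have := h.sq hθ hg e
    exact congrArg (fun k : W ≃ₗ[ZMod 2] W => k w) this
  rw [h2, hw, one_mul] at h1
  rcases z2 (d θ) with a | a
  · exact a
  · exfalso
    rw [a, one_smul] at h1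
    exact h.y0 (by simpa using h1.symm)

theorem Hyp.add {f' d' : W →ₗ[ZMod 2] ZMod 2} (s : St H y θ f d) (s' : St H y θ f' d') :
    St H y θ (f + f') (d + d') := by
  have hft := h.fth hθ s
  have hdt := h.dth hθ s
  obtain ⟨g, hg, e⟩ := s
  obtain ⟨g', hg', e'⟩ := s'
  refine ⟨g * g', H.mul_mem hg hg', fun w => ?_⟩
  have e1 : g θ = θ := by rw [e θ, hft, hdt]; simp
  change g (g' w) = _
  rw [e' w, map_add, map_add, map_smul, map_smul, h.fix g hg, e1, e w, LinearMap.add_apply,
    LinearMap.add_apply]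
  module

omit h hθ in
theorem st_zero : St H y θ 0 0 := ⟨1, H.one_mem, fun w => by simp⟩

omit h hθ in
theorem st_shift (c : ZMod 2) (s : St H y θ f d) : St H y (θ + c • y) f (d + c • f) := by
  obtain ⟨g, hg, e⟩ := s
  refine ⟨g, hg, fun w => ?_⟩
  rw [e w, LinearMap.add_apply, LinearMap.smul_apply]
  simp only [smul_eq_mul]
  linear_combination (norm := module) (-(f w * c)) • addself y

omit h hθ in
theorem st_shift1 (s : St H y θ f d) : St H y (θ + y) f (d + f) := by
  have := st_shift 1 s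
  rwa [one_smul, one_smul] at this

omit hθ in
theorem Hyp.conj {k : W ≃ₗ[ZMod 2] W} (hk : k ∈ H) (s : St H y θ f d) :
    St H y (k θ) (tr k f) (tr k d) := by
  obtain ⟨g, hg, e⟩ := s
  refine ⟨k * g * k⁻¹, H.mul_mem (H.mul_mem hk hg) (H.inv_mem hk), fun w => ?_⟩
  change k (g (k⁻¹ w)) = _
  rw [e (k⁻¹ w), map_add, map_add, map_smul, map_smul, h.fix k hk, ap_inv]
  rfl

/-- Conjugate of the second transvection by the first one. -/
theorem Hyp.cj {θ' : W} (hθ' : θ' ∈ Θ) {f' d' : W →ₗ[ZMod 2] ZMod 2} (s : St H y θ f d)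
    (s' : St H y θ' f' d') : θ' + f θ' • θ + d θ' • y ∈ Θ ∧
      St H y (θ' + f θ' • θ + d θ' • y) (f' + f' θ • f) (d' + d' θ • f) := by
  have hfy' := h.fy hθ' s'
  have hdy' := h.dy hθ' s'
  obtain ⟨g, hg, e⟩ := s
  have hinv := h.inv_eq hθ hg e
  refine ⟨by rw [← e θ']; exact h.mem θ' hθ' g hg, ?_⟩
  have s1 := h.conj hg s'
  rw [e θ'] at s1
  have e1 : tr g f' = f' + f' θ • f := by
    ext w
    rw [tr_apply, hinv, e w, map_add, map_add, map_smul, map_smul, hfy', LinearMap.add_apply,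
      LinearMap.smul_apply]
    simp only [smul_eq_mul]
    ring
  have e2 : tr g d' = d' + d' θ • f := by
    ext w
    rw [tr_apply, hinv, e w, map_add, map_add, map_smul, map_smul, hdy', LinearMap.add_apply,
      LinearMap.smul_apply]
    simp only [smul_eq_mul]
    ring
  rwa [e1, e2] at s1

/-- Product of two transvections with the same functional. -/
theorem Hyp.addc {θ' : W} {d' : W →ₗ[ZMod 2] ZMod 2} (s : St H y θ f d) (s' : St H y θ' f d')
    (hf : f θ' = 0) : St H y (θ + θ') f (d + d' + d θ' • f) := by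
  have hdy := h.dy hθ s
  have hfy := h.fy hθ s
  obtain ⟨g, hg, e⟩ := s
  obtain ⟨g', hg', e'⟩ := s'
  refine ⟨g * g', H.mul_mem hg hg', fun w => ?_⟩
  change g (g' w) = _
  have e1 : g θ' = θ' + d θ' • y := by rw [e θ', hf]; simp
  rw [e' w, map_add, map_add, map_smul, map_smul, h.fix g hg, e1, e w]
  simp only [LinearMap.add_apply, LinearMap.smul_apply, smul_eq_mul]
  module

end

/-! ### The core -/

section

variable {H : Subgroup (W ≃ₗ[ZMod 2] W)} {y : W} {Θ : Set W}

/-- `O₂(H) = 1`: an element of `H` which is trivial on `W/E` and on `E` modulo `y` is trivial. -/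
theorem Hyp.core2 (h : Hyp H y Θ) (E : Submodule (ZMod 2) W) (hE : ∀ g ∈ H, ∀ e ∈ E, g e ∈ E)
    {k : W ≃ₗ[ZMod 2] W} (hk : k ∈ H) (h1 : ∀ w, k w + w ∈ E) (h2 : ∀ e ∈ E, k e = e ∨ k e = e + y) :
    k = 1 := by
  let N : Subgroup (W ≃ₗ[ZMod 2] W) :=
    { carrier := {g | g ∈ H ∧ (∀ w, g w + w ∈ E) ∧ ∀ e ∈ E, g e = e ∨ g e = e + y}
      one_mem' := ⟨H.one_mem, fun w => by
        have : (1 : W ≃ₗ[ZMod 2] W) w + w = 0 := addself w
        rw [this]; exact E.zero_mem, fun e _ => Or.inl rfl⟩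
      mul_mem' := by
        rintro a b ⟨ha, ha1, ha2⟩ ⟨hb, hb1, hb2⟩
        refine ⟨H.mul_mem ha hb, fun w => ?_, fun e he => ?_⟩
        · have e1 : (a * b) w + w = (a (b w) + b w) + (b w + w) := by
            change a (b w) + w = _
            linear_combination (norm := module) (-1 : ZMod 2) • addself (b w)
          rw [e1]
          exact E.add_mem (ha1 _) (hb1 _)
        · change a (b e) = e ∨ a (b e) = e + y
          rcases hb2 e he with h3 | h3 <;> rcases ha2 e he with h4 | h4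
          · left; rw [h3, h4]
          · right; rw [h3, h4]
          · right; rw [h3, map_add, h4, h.fix a ha]
          · left; rw [h3, map_add, h4, h.fix a ha, add_assoc, addself, add_zero]
      inv_mem' := by
        rintro a ⟨ha, ha1, ha2⟩
        refine ⟨H.inv_mem ha, fun w => ?_, fun e he => ?_⟩
        · have h3 := hE _ (H.inv_mem ha) _ (ha1 w)
          rw [map_add, inv_ap] at h3
          rwa [add_comm] at h3
        · rcases ha2 e he with h3 | h3
          · left
            have := congrArg (fun u => a⁻¹ u) h3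
            simp only [inv_ap] at this
            exact this.symm
          · right
            have := congrArg (fun u => a⁻¹ u) h3
            simp only [inv_ap, map_add] at this
            rw [h.fix _ (H.inv_mem ha)] at this
            linear_combination (norm := module) (-1 : ZMod 2) • this - addself y }
  have hN : N = ⊥ := by
    refine h.core N (fun g hg => hg.1) ?_ ?_
    · rintro g hg n ⟨hn, hn1, hn2⟩
      refine ⟨H.mul_mem (H.mul_mem hg hn) (H.inv_mem hg), fun w => ?_, fun e he => ?_⟩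
      · have h3 := hE g hg _ (hn1 (g⁻¹ w))
        rw [map_add, ap_inv] at h3
        exact h3
      · change g (n (g⁻¹ e)) = e ∨ g (n (g⁻¹ e)) = e + y
        rcases hn2 _ (hE _ (H.inv_mem hg) e he) with h3 | h3
        · left; rw [h3, ap_inv]
        · right; rw [h3, map_add, ap_inv, h.fix g hg]
    · rintro ⟨n, hn, hn1, hn2⟩
      refine ⟨2, Subtype.ext ?_⟩
      change n ^ (2 ^ 2) = 1
      have key : ∀ w, n (n w) = w ∨ n (n w) = w + y := by
        intro w
        have h3 : n w = w + (n w + w) := by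
          linear_combination (norm := module) (-1 : ZMod 2) • addself w
        rcases hn2 _ (hn1 w) with h4 | h4
        · left
          rw [map_add] at h4
          have : n (n w) = n w + w + n w := by
            linear_combination (norm := module) h4 - addself (n w)
          rw [this]; linear_combination (norm := module) addself (n w)
        · right
          rw [map_add] at h4
          have : n (n w) = n w + w + y + n w := by
            linear_combination (norm := module) h4 - addself (n w)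
          rw [this]; linear_combination (norm := module) addself (n w)
      ext w
      have e1 : (n ^ (2 ^ 2)) w = n (n (n (n w))) := by
        rw [show (2 : ℕ) ^ 2 = 4 from rfl, pow_succ, pow_succ, pow_succ, pow_one]; rfl
      rw [e1]
      change _ = w
      rcases key w with h3 | h3
      · rw [h3, h3]
      · rw [h3, map_add, map_add, h.fix n hn, h.fix n hn, h3, add_assoc, addself, add_zero]
  have : k ∈ N := ⟨hk, h1, h2⟩
  rw [hN] at this
  exact Subgroup.mem_bot.1 this

variable (h : Hyp H y Θ)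
include h

/-- **(0)** A nonzero functional moves some element of `Θ`. -/
theorem Hyp.exists_one {θ : W} (hθ : θ ∈ Θ) {f d : W →ₗ[ZMod 2] ZMod 2} (s : St H y θ f d)
    (hf : f ≠ 0) : ∃ θ' ∈ Θ, f θ' = 1 := by
  by_contra hcon
  push Not at hcon
  have h0 : ∀ θ' ∈ Θ, f θ' = 0 := fun θ' hθ' => (z2 _).resolve_right (hcon θ' hθ')
  have hfy := h.fy hθ s
  obtain ⟨g, hg, e⟩ := s
  let E : Submodule (ZMod 2) W := Submodule.span (ZMod 2) (Θ ∪ {y})
  have hE : ∀ k ∈ H, ∀ u ∈ E, k u ∈ E := by
    intro k hk u hu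
    induction hu using Submodule.span_induction with
    | mem u hu =>
      rcases hu with hu | hu
      · exact Submodule.subset_span (Or.inl (h.mem u hu k hk))
      · rw [Set.mem_singleton_iff.1 hu, h.fix k hk]
        exact Submodule.subset_span (Or.inr rfl)
    | zero => rw [map_zero]; exact E.zero_mem
    | add u v _ _ hu hv => rw [map_add]; exact E.add_mem hu hv
    | smul c u _ hu => rw [map_smul]; exact E.smul_mem c hu
  have hfE : ∀ u ∈ E, f u = 0 := by
    intro u hu
    induction hu using Submodule.span_induction with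
    | mem u hu =>
      rcases hu with hu | hu
      · exact h0 u hu
      · rw [Set.mem_singleton_iff.1 hu, hfy]
    | zero => rw [map_zero]
    | add u v _ _ hu hv => rw [map_add, hu, hv, add_zero]
    | smul c u _ hu => rw [map_smul, hu, smul_zero]
  have h1 : g = 1 := by
    refine h.core2 E hE hg (fun w => ?_) fun u hu => ?_
    · have : g w + w = f w • θ + d w • y := by
        rw [e w]; linear_combination (norm := module) addself w
      rw [this]
      exact E.add_mem (E.smul_mem _ (Submodule.subset_span (Or.inl hθ)))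
        (E.smul_mem _ (Submodule.subset_span (Or.inr rfl)))
    · rcases z2 (d u) with a | a
      · left; rw [e u, hfE u hu, a]; simp
      · right; rw [e u, hfE u hu, a]; simp
  apply hf
  ext w
  have h2 := e w
  rw [h1] at h2
  change w = _ at h2
  exact (h.ind hθ (a := f w) (b := d w)
    (by linear_combination (norm := module) (-1 : ZMod 2) • h2)).1

/-- The vector space killed by all functionals is `H`-invariant, contains `y`. -/
def ker (H : Subgroup (W ≃ₗ[ZMod 2] W)) (y : W) (Θ : Set W) : Submodule (ZMod 2) W where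
  carrier := {w | ∀ θ ∈ Θ, ∀ f d, St H y θ f d → f w = 0}
  zero_mem' := fun _ _ _ _ _ => map_zero _
  add_mem' := fun ha hb θ hθ f d s => by rw [map_add, ha θ hθ f d s, hb θ hθ f d s, add_zero]
  smul_mem' := fun c w hw θ hθ f d s => by rw [map_smul, hw θ hθ f d s, smul_zero]

theorem Hyp.y_mem_ker : y ∈ ker H y Θ := fun _ hθ _ _ s => h.fy hθ s

theorem Hyp.ker_inv {k : W ≃ₗ[ZMod 2] W} (hk : k ∈ H) {u : W} (hu : u ∈ ker H y Θ) :
    k u ∈ ker H y Θ := by
  intro θ hθ f d s
  have s1 := h.conj (H.inv_mem hk) s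
  have h1 := hu _ (h.mem θ hθ _ (H.inv_mem hk)) _ _ s1
  rwa [tr_apply, inv_inv] at h1

/-- **(O2)** Two transvections with the same functional and different centres: the difference of
the centres is moved by some functional. -/
theorem Hyp.exists_move {θ θ' : W} (hθ : θ ∈ Θ) {f d d' : W →ₗ[ZMod 2] ZMod 2}
    (s : St H y θ f d) (s' : St H y θ' f d') (hf : f ≠ 0) (h1 : θ + θ' ≠ 0) (h2 : θ + θ' ≠ y) :
    ∃ ρ ∈ Θ, ∃ k e, St H y ρ k e ∧ k (θ + θ') = 1 := by
  by_contra hcon
  push Not at hcon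
  have hκ : θ + θ' ∈ ker H y Θ := fun ρ hρ k e s => (z2 _).resolve_right (hcon ρ hρ k e s)
  have hft : f θ' = 0 := by
    have := hκ θ hθ f d s
    rwa [map_add, h.fth hθ s, zero_add] at this
  obtain ⟨g, hg, e⟩ := h.addc hθ s s' hft
  have h3 : g = 1 := by
    refine h.core2 (ker H y Θ) (fun k hk u hu => h.ker_inv hk hu) hg (fun w => ?_) fun u hu => ?_
    · have : g w + w = f w • (θ + θ') + (d + d' + d θ' • f) w • y := by
        rw [e w]; linear_combination (norm := module) addself w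
      rw [this]
      exact Submodule.add_mem _ (Submodule.smul_mem _ _ hκ) (Submodule.smul_mem _ _ h.y_mem_ker)
    · rcases z2 ((d + d' + d θ' • f) u) with a | a
      · left; rw [e u, hu θ hθ f d s, a]; simp
      · right; rw [e u, hu θ hθ f d s, a]; simp
  apply hf
  ext w
  have h4 := e w
  rw [h3] at h4
  change w = _ at h4
  exact (indep h1 h2 h.y0 (a := f w) (b := (d + d' + d θ' • f) w)
    (by linear_combination (norm := module) (-1 : ZMod 2) • h4)).1

end

end Cfsg.Agent.Omega.FOne.Tvw
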