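import Cfsg.Agent.Omega.FOne.KSeven
import Cfsg.Agent.MinSimple.Geo

/-!
# (F1′), END (bb OMEGA #15003, helper299): two blocks which normalise each other and do not commute

`BS B` : the block system, `B y X` : "`X` is a block at the point `y`".
-/

set_option autoImplicit false
set_option linter.unusedSectionVars false

namespace Cfsg.Agent.Omega.FOne.End

open Subgroup Cfsg.Agent.MinSimple.Geo

variable {G : Type*} [Group G]

/-- A system of blocks. -/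
structure BS (B : G → Subgroup G → Prop) : Prop where
  mem : ∀ {y X}, B y X → y ∈ X
  ne : ∀ {y X}, B y X → y ≠ 1
  sq : ∀ {y X}, B y X → ∀ x ∈ X, x * x = 1
  card : ∀ {y X}, B y X → Nat.card X = 16
  conj : ∀ {y X}, B y X → ∀ g : G, B (g * y * g⁻¹) (cj g X)
  eq : ∀ {y X X'}, B y X → B y X' → ∀ {u}, u ∈ X → u ∈ X' → u ≠ 1 → u ≠ y → X = X'
  swap : ∀ {y X}, B y X → ∀ {u}, u ∈ X → u ≠ 1 → u ≠ y → ∃ c : G, c * y = y * c ∧ c * u * c⁻¹ = u * y
  rot : ∀ {y X}, B y X → ∀ {u a b}, u ∈ X → u ≠ 1 → u ≠ y → a ∈ X → b ∈ X →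
    (a ≠ 1 ∧ a ≠ y ∧ a ≠ u ∧ a ≠ u * y) → (b ≠ 1 ∧ b ≠ y ∧ b ≠ u ∧ b ≠ u * y) →
    ∃ c : G, c * y = y * c ∧ c * u = u * c ∧
      (c * a * c⁻¹ * b = 1 ∨ c * a * c⁻¹ * b = y ∨ c * a * c⁻¹ * b = u ∨ c * a * c⁻¹ * b = u * y)
  inv : ∀ {y X}, B y X → ∀ {c : G}, c * y = y * c → (∀ x ∈ X, c * x * c⁻¹ ∈ X) →
    (∀ x ∈ X, c * c * x = x * (c * c)) → (∃ x ∈ X, c * x ≠ x * c) →
    ∃ θ ∈ X, θ ≠ 1 ∧ θ ≠ y ∧ (∀ x ∈ X, c * x = x * c ↔ x = 1 ∨ x = y ∨ x = θ ∨ x = θ * y) ∧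
      ∀ u ∈ X, c * u = u * c → ∃ v ∈ X, c * v * c⁻¹ * v = u
  four : ∀ {y X}, B y X → ∀ {u}, u ∈ X → u ≠ 1 → u ≠ y → ∀ c : Fin 4 → G, (∀ i, c i * y = y * c i) →
    (∀ i, c i * u = u * c i) → (∀ i, ∀ x ∈ X, c i * c i * x = x * (c i * c i)) →
    (∀ i, ∃ x ∈ X, c i * x ≠ x * c i) →
    ∃ i j, i ≠ j ∧ ∀ x ∈ X, c i * x * (c i)⁻¹ = c j * x * (c j)⁻¹

namespace BS

variable {B : G → Subgroup G → Prop}

theorem inv_eq (h : BS B) {y : G} {X : Subgroup G} (hX : B y X) {x : G} (hx : x ∈ X) : x⁻¹ = x :=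
  inv_eq_of_mul_eq_one_left (h.sq hX x hx)

theorem comm (h : BS B) {y : G} {X : Subgroup G} (hX : B y X) {a b : G} (ha : a ∈ X) (hb : b ∈ X) :
    a * b = b * a := by
  have h1 := h.inv_eq hX (X.mul_mem ha hb)
  rw [mul_inv_rev, h.inv_eq hX ha, h.inv_eq hX hb] at h1
  exact h1.symm

/-- two blocks which normalise each other and do not commute -/
structure Pr (B : G → Subgroup G → Prop) (x y : G) (X' X : Subgroup G) : Prop where
  bX : B y X
  bX' : B x X'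
  hxy : x ≠ y
  n1 : ∀ a ∈ X', ∀ b ∈ X, a * b * a⁻¹ ∈ X
  n2 : ∀ b ∈ X, ∀ a ∈ X', b * a * b⁻¹ ∈ X'
  c1 : ∀ a ∈ X', a * y = y * a
  c2 : ∀ b ∈ X, b * x = x * b
  nc : ∃ a ∈ X', ∃ b ∈ X, a * b ≠ b * a

theorem Pr.symm {x y : G} {X' X : Subgroup G} (p : Pr B x y X' X) : Pr B y x X X' where
  bX := p.bX'
  bX' := p.bX
  hxy := p.hxy.symm
  n1 := p.n2
  n2 := p.n1
  c1 := p.c2
  c2 := p.c1
  nc := by
    obtain ⟨a, ha, b, hb, e⟩ := p.nc
    exact ⟨b, hb, a, ha, e.symm⟩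

/-- `X ∩ X' = C_X(a)` for every `a ∈ X'` which does not centralise `X`. -/
theorem Pr.fix (h : BS B) {x y : G} {X' X : Subgroup G} (p : Pr B x y X' X) {a : G} (ha : a ∈ X')
    (hna : ∃ b ∈ X, a * b ≠ b * a) :
    (∀ b ∈ X, a * b = b * a → b ∈ X') ∧
      ∃ θ, θ ≠ 1 ∧ θ ≠ y ∧ ∀ b, b ∈ X ∧ b ∈ X' ↔ b = 1 ∨ b = y ∨ b = θ ∨ b = θ * y := by
  have haa : ∀ b ∈ X, a * a * b = b * (a * a) := fun b _ => by
    rw [h.sq p.bX' a ha, one_mul, mul_one]
  obtain ⟨θ, hθ, θ1, θy, h1, h2⟩ := h.inv p.bX (p.c1 a ha) (p.n1 a ha) haa hna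
  have key : ∀ b ∈ X, a * b = b * a → b ∈ X' := by
    intro b hb e
    obtain ⟨v, hv, rfl⟩ := h2 b hb e
    have e1 : a * v * a⁻¹ * v = a * (v * a⁻¹ * v⁻¹) := by
      rw [h.inv_eq p.bX hv]; group
    rw [e1]
    exact X'.mul_mem ha (p.n2 v hv _ (X'.inv_mem ha))
  refine ⟨key, θ, θ1, θy, fun b => ⟨?_, ?_⟩⟩
  · rintro ⟨hb, hb'⟩
    exact (h1 b hb).mp (h.comm p.bX' ha hb')
  · intro hb
    have hbX : b ∈ X := by
      rcases hb with e | e | e | e <;> rw [e]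
      · exact X.one_mem
      · exact h.mem p.bX
      · exact hθ
      · exact X.mul_mem hθ (h.mem p.bX)
    exact ⟨hbX, key b hbX ((h1 b hbX).mpr hb)⟩

/-- `X ∩ X' = {1, x, y, xy}` -/
theorem Pr.inf (h : BS B) {x y : G} {X' X : Subgroup G} (p : Pr B x y X' X) (b : G) :
    b ∈ X ⊓ X' ↔ b = 1 ∨ b = y ∨ b = x ∨ b = x * y := by
  obtain ⟨a, ha, c, hc, hac⟩ := p.nc
  obtain ⟨-, θ, θ1, θy, h1⟩ := p.fix h ha ⟨c, hc, hac⟩
  obtain ⟨-, θ', θ1', θy', h2⟩ := p.symm.fix h hc ⟨a, ha, hac.symm⟩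
  have hx : x ∈ X ∧ x ∈ X' := by
    have := (h2 x).mpr (Or.inr (Or.inl rfl))
    exact ⟨this.2, this.1⟩
  have hy2 := h.sq p.bX y (h.mem p.bX)
  have hx1 := h.ne p.bX'
  rw [mem_inf, h1]
  rcases (h1 x).mp hx with e | e | e | e
  · exact absurd e hx1
  · exact absurd e p.hxy
  · rw [e]
  · rw [e, mul_assoc, hy2, mul_one]
    tauto

/-- an element of `X'` outside `X ∩ X'` does not centralise `X`. -/
theorem Pr.ncent (h : BS B) {x y : G} {X' X : Subgroup G} (p : Pr B x y X' X) {a : G} (ha : a ∈ X')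
    (haX : a ∉ X) : ∃ b ∈ X, a * b ≠ b * a := by
  by_contra hcon
  push Not at hcon
  obtain ⟨a₀, ha₀, c, hc, hac⟩ := p.nc
  have hinf := p.inf h
  have hyX' : y ∈ X' := ((hinf y).mpr (Or.inr (Or.inl rfl))).2
  have hxX : x ∈ X := ((hinf x).mpr (Or.inr (Or.inr (Or.inl rfl)))).1
  have hy := h.mem p.bX
  have hx := h.mem p.bX'
  have hxyc : x * y = y * x := h.comm p.bX hxX hy
  have hout : ∀ a, a ∉ X → a ≠ 1 ∧ a ≠ x ∧ a ≠ y ∧ a ≠ y * x := by
    intro a ha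
    refine ⟨?_, ?_, ?_, ?_⟩ <;> rintro rfl <;> apply ha
    · exact X.one_mem
    · exact hxX
    · exact hy
    · exact X.mul_mem hy hxX
  have ha₀X : a₀ ∉ X := fun h0 => hac (h.comm p.bX h0 hc)
  obtain ⟨g, g1, g2, hg⟩ := h.rot p.bX' hyX' (h.ne p.bX) p.hxy.symm ha ha₀ (hout a haX) (hout a₀ ha₀X)
  -- `g` normalises `X`
  have hgX : cj g X = X := by
    have e1 : g * y * g⁻¹ = y := by rw [g2]; group
    have e2 : g * x * g⁻¹ = x := by rw [g1]; group
    have b1 := h.conj p.bX g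
    rw [e1] at b1
    refine h.eq b1 p.bX (u := x) ?_ hxX (h.ne p.bX') p.hxy
    rw [← e2]; exact conj_mem_cj hxX
  have hcc : ∀ b ∈ X, (g * a * g⁻¹) * b = b * (g * a * g⁻¹) := by
    intro b hb
    rw [← hgX] at hb
    have h1 := hcon _ (mem_cj.mp hb)
    calc g * a * g⁻¹ * b = g * (a * (g⁻¹ * b * g)) * g⁻¹ := by group
      _ = g * ((g⁻¹ * b * g) * a) * g⁻¹ := by rw [h1]
      _ = b * (g * a * g⁻¹) := by group
  have hU : g * a * g⁻¹ * a₀ ∈ X := by
    rcases hg with e | e | e | e <;> rw [e]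
    · exact X.one_mem
    · exact hxX
    · exact hy
    · exact X.mul_mem hy hxX
  apply hac
  have e1 : a₀ = (g * a * g⁻¹)⁻¹ * (g * a * g⁻¹ * a₀) := by group
  have e2 : (g * a * g⁻¹)⁻¹ * c = c * (g * a * g⁻¹)⁻¹ := by
    have := hcc c hc
    calc (g * a * g⁻¹)⁻¹ * c = (g * a * g⁻¹)⁻¹ * (c * (g * a * g⁻¹)) * (g * a * g⁻¹)⁻¹ := by group
      _ = (g * a * g⁻¹)⁻¹ * ((g * a * g⁻¹) * c) * (g * a * g⁻¹)⁻¹ := by rw [this]
      _ = c * (g * a * g⁻¹)⁻¹ := by group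
  rw [e1]
  calc (g * a * g⁻¹)⁻¹ * (g * a * g⁻¹ * a₀) * c = (g * a * g⁻¹)⁻¹ * (g * a * g⁻¹ * a₀ * c) := by group
    _ = (g * a * g⁻¹)⁻¹ * (c * (g * a * g⁻¹ * a₀)) := by rw [h.comm p.bX hU hc]
    _ = ((g * a * g⁻¹)⁻¹ * c) * (g * a * g⁻¹ * a₀) := by group
    _ = (c * (g * a * g⁻¹)⁻¹) * (g * a * g⁻¹ * a₀) := by rw [e2]
    _ = c * ((g * a * g⁻¹)⁻¹ * (g * a * g⁻¹ * a₀)) := by group

/-- elements outside the intersection do not commute. -/
theorem Pr.ncomm (h : BS B) {x y : G} {X' X : Subgroup G} (p : Pr B x y X' X) {a b : G} (ha : a ∈ X')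
    (haX : a ∉ X) (hb : b ∈ X) (hbX' : b ∉ X') : a * b ≠ b * a := fun e =>
  hbX' ((p.fix h ha (p.ncent h ha haX)).1 b hb e)

/-- conjugation of pairs -/
theorem Pr.conj (h : BS B) {x y : G} {X' X : Subgroup G} (p : Pr B x y X' X) (g : G) :
    Pr B (g * x * g⁻¹) (g * y * g⁻¹) (cj g X') (cj g X) where
  bX := h.conj p.bX g
  bX' := h.conj p.bX' g
  hxy := fun e => p.hxy (by simpa using e)
  n1 := by
    rintro _ ⟨a, ha, rfl⟩ _ ⟨b, hb, rfl⟩
    have := conj_mem_cj (g := g) (p.n1 a ha b hb)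
    simpa [mul_assoc] using this
  n2 := by
    rintro _ ⟨a, ha, rfl⟩ _ ⟨b, hb, rfl⟩
    have := conj_mem_cj (g := g) (p.n2 a ha b hb)
    simpa [mul_assoc] using this
  c1 := by
    rintro _ ⟨a, ha, rfl⟩
    have := congrArg (fun w => g * w * g⁻¹) (p.c1 a ha)
    simpa [mul_assoc] using this
  c2 := by
    rintro _ ⟨a, ha, rfl⟩
    have := congrArg (fun w => g * w * g⁻¹) (p.c2 a ha)
    simpa [mul_assoc] using this
  nc := by
    obtain ⟨a, ha, b, hb, e⟩ := p.nc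
    refine ⟨_, conj_mem_cj ha, _, conj_mem_cj hb, fun e' => e ?_⟩
    have := congrArg (fun w => g⁻¹ * w * g) e'
    simpa [mul_assoc] using this

theorem cj_eq_of [Finite G] {U : Subgroup G} {g : G} (hg : ∀ z ∈ U, g * z * g⁻¹ ∈ U) : cj g U = U := by
  have h1 : cj g U ≤ U := by
    rintro _ ⟨z, hz, rfl⟩
    exact hg z hz
  refine Subgroup.eq_of_le_of_card_ge h1 ?_
  rw [card_cj]

theorem conj_eq_self {g x : G} (e : g * x = x * g) : g * x * g⁻¹ = x := by rw [e]; group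

/-- **The end**: Lemma K7 applies. -/
theorem Pr.false [Finite G] (h : BS B) {x y : G} {X' X : Subgroup G} (p : Pr B x y X' X) : False := by
  classical
  set U : Subgroup G := X ⊓ X' with hUdef
  have hU : ∀ b, b ∈ U ↔ b = 1 ∨ b = y ∨ b = x ∨ b = x * y := p.inf h
  have hyU : y ∈ U := (hU y).mpr (Or.inr (Or.inl rfl))
  have hxU : x ∈ U := (hU x).mpr (Or.inr (Or.inr (Or.inl rfl)))
  have y1 := h.ne p.bX
  have x1 := h.ne p.bX'
  have hxy := p.hxy
  have hUX : U ≤ X := inf_le_left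
  have hUX' : U ≤ X' := inf_le_right
  have ux : ∀ a ∈ U, a * a = 1 := fun a ha => h.sq p.bX a (hUX ha)
  have uc : ∀ a ∈ U, ∀ b ∈ U, a * b = b * a := fun a ha b hb => h.comm p.bX (hUX ha) (hUX hb)
  have hx2 := ux x hxU
  have hy2 := ux y hyU
  have hxyc := uc x hxU y hyU
  have xy1 : x * y ≠ 1 := fun e => hxy (by
    calc x = x * (y * y) := by rw [hy2, mul_one]
      _ = x * y * y := by group
      _ = y := by rw [e, one_mul])
  have xyx : x * y ≠ x := fun e => y1 (by simpa using e)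
  have xyy : x * y ≠ y := fun e => x1 (by simpa using e)
  have hxyU : x * y ∈ U := U.mul_mem hxU hyU
  have hyx : y * (x * y) = x := by rw [← mul_assoc, ← hxyc, mul_assoc, hy2, mul_one]
  have hxyx : x * (x * y) = y := by rw [← mul_assoc, hx2, one_mul]
  have hxy2 : x * y * y = x := by rw [mul_assoc, hy2, mul_one]
  -- the normaliser of `U`
  obtain ⟨c₁, c1y, c1x⟩ := h.swap p.bX (hUX hxU) x1 hxy
  obtain ⟨c₂, c2x, c2y⟩ := h.swap p.bX' (hUX' hyU) y1 hxy.symm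
  have c1y' := conj_eq_self c1y
  have c2x' := conj_eq_self c2x
  rw [← hxyc] at c2y
  have cm : ∀ (g a b : G), g * (a * b) * g⁻¹ = (g * a * g⁻¹) * (g * b * g⁻¹) := fun g a b => by group
  have c1xy : c₁ * (x * y) * c₁⁻¹ = x := by rw [cm, c1x, c1y', hxy2]
  have c2xy : c₂ * (x * y) * c₂⁻¹ = y := by rw [cm, c2x', c2y, hxyx]
  have n1 : cj c₁ U = U := by
    refine cj_eq_of fun z hz => ?_
    rcases (hU z).mp hz with rfl | rfl | rfl | rfl
    · simp
    · rw [c1y']; exact hyU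
    · rw [c1x]; exact hxyU
    · rw [c1xy]; exact hxU
  have n2 : cj c₂ U = U := by
    refine cj_eq_of fun z hz => ?_
    rcases (hU z).mp hz with rfl | rfl | rfl | rfl
    · simp
    · rw [c2y]; exact hxyU
    · rw [c2x']; exact hxU
    · rw [c2xy]; exact hyU
  -- all pairs are conjugate
  have hR : ∀ u ∈ U, ∀ v ∈ U, u ≠ 1 → v ≠ 1 → u ≠ v →
      ∃ g, cj g U = U ∧ g * y * g⁻¹ = u ∧ g * x * g⁻¹ = v := by
    have hmul : ∀ (g k a : G), g * k * a * (g * k)⁻¹ = g * (k * a * k⁻¹) * g⁻¹ := fun g k a => by group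
    have hn : ∀ g k : G, cj g U = U → cj k U = U → cj (g * k) U = U := fun g k hg hk => by
      rw [← cj_cj, hk, hg]
    intro u hu v hv u1 v1 uv
    rcases (hU u).mp hu with rfl | rfl | rfl | rfl <;> rcases (hU v).mp hv with rfl | rfl | rfl | rfl
    · exact absurd rfl u1
    · exact absurd rfl u1
    · exact absurd rfl u1
    · exact absurd rfl u1
    · exact absurd rfl v1
    · exact absurd rfl uv
    · exact ⟨1, cj_one U, by simp, by simp⟩
    · exact ⟨c₁, n1, c1y', c1x⟩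
    · exact absurd rfl v1
    · -- (x, y) : c₁ c₂ c₁
      refine ⟨c₁ * (c₂ * c₁), hn _ _ n1 (hn _ _ n2 n1), ?_, ?_⟩
      · rw [hmul, hmul, c1y', c2y, c1xy]
      · rw [hmul, hmul, c1x, c2xy, c1y']
    · exact absurd rfl uv
    · -- (x, xy) : c₁ c₂
      refine ⟨c₁ * c₂, hn _ _ n1 n2, ?_, ?_⟩
      · rw [hmul, c2y, c1xy]
      · rw [hmul, c2x', c1x]
    · exact absurd rfl v1
    · -- (xy, y) : c₂ c₁
      refine ⟨c₂ * c₁, hn _ _ n2 n1, ?_, ?_⟩
      · rw [hmul, c1y', c2y]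
      · rw [hmul, c1x, c2xy]
    · exact ⟨c₂, n2, c2y, c2x'⟩
    · exact absurd rfl uv
  -- the block at `u` which contains `U`
  have other : ∀ u ∈ U, u ≠ 1 → ∃ v ∈ U, v ≠ 1 ∧ v ≠ u := by
    intro u hu u1
    by_cases e : x = u
    · exact ⟨y, hyU, y1, fun e' => hxy (e.trans e'.symm)⟩
    · exact ⟨x, hxU, x1, e⟩
  have huniq : ∀ u ∈ U, u ≠ 1 → ∀ Y Y', B u Y → U ≤ Y → B u Y' → U ≤ Y' → Y = Y' := by
    intro u hu u1 Y Y' bY hY bY' hY'
    obtain ⟨v, hv, v1, vu⟩ := other u hu u1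
    exact h.eq bY bY' (hY hv) (hY' hv) v1 vu
  have hex : ∀ u ∈ U, u ≠ 1 → ∃ Y, B u Y ∧ U ≤ Y := by
    intro u hu u1
    obtain ⟨v, hv, v1, vu⟩ := other u hu u1
    obtain ⟨g, hg, g1, g2⟩ := hR u hu v hv u1 v1 vu.symm
    refine ⟨cj g X, ?_, ?_⟩
    · rw [← g1]; exact h.conj p.bX g
    · rw [← hg]; exact cj_mono hUX
  let Xf : G → Subgroup G := fun u => if hu : ∃ Y, B u Y ∧ U ≤ Y then hu.choose else ⊥
  have hXf : ∀ u ∈ U, u ≠ 1 → B u (Xf u) ∧ U ≤ Xf u := by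
    intro u hu u1
    have := hex u hu u1
    simp only [Xf, dif_pos this]
    exact this.choose_spec
  have hconj : ∀ g : G, cj g U = U → ∀ u ∈ U, u ≠ 1 → cj g (Xf u) = Xf (g * u * g⁻¹) := by
    intro g hg u hu u1
    obtain ⟨b1, b2⟩ := hXf u hu u1
    have hgu : g * u * g⁻¹ ∈ U := by
      have := conj_mem_cj (g := g) hu
      rwa [hg] at this
    have hgu1 : g * u * g⁻¹ ≠ 1 := by
      intro e; exact u1 (by simpa using e)
    obtain ⟨b3, b4⟩ := hXf _ hgu hgu1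
    refine huniq _ hgu hgu1 _ _ (h.conj b1 g) ?_ b3 b4
    conv_lhs => rw [← hg]
    exact cj_mono b2
  have hXy : Xf y = X := huniq y hyU y1 _ _ (hXf y hyU y1).1 (hXf y hyU y1).2 p.bX hUX
  have hXx : Xf x = X' := huniq x hxU x1 _ _ (hXf x hxU x1).1 (hXf x hxU x1).2 p.bX' hUX'
  have hPr : ∀ u ∈ U, ∀ v ∈ U, u ≠ 1 → v ≠ 1 → u ≠ v → Pr B v u (Xf v) (Xf u) ∧ Xf u ⊓ Xf v = U := by
    intro u hu v hv u1 v1 uv
    obtain ⟨g, hg, g1, g2⟩ := hR u hu v hv u1 v1 uv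
    have e1 := hconj g hg y hyU y1
    have e2 := hconj g hg x hxU x1
    rw [g1, hXy] at e1
    rw [g2, hXx] at e2
    have pc := p.conj h g
    rw [e1, e2, g1, g2] at pc
    refine ⟨pc, ?_⟩
    rw [← e1, ← e2, ← cj_inf, ← hUdef, hg]
  have hcent : ∀ u ∈ U, u ≠ 1 → ∀ v ∈ U, v ≠ 1 → v ≠ u → ∀ c : G, c * u = u * c → c * v = v * c →
      ∀ z ∈ U, c * z = z * c := by
    intro u hu u1 v hv v1 vu c cu cv
    obtain ⟨g, hg, g1, g2⟩ := hR u hu v hv u1 v1 vu.symm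
    intro z hz
    have hz' : g⁻¹ * z * g ∈ U := by rw [← hg] at hz; exact mem_cj.mp hz
    have e : ∀ a b : G, a = b → g * a * g⁻¹ = g * b * g⁻¹ := fun a b e => by rw [e]
    rcases (hU _).mp hz' with e1 | e1 | e1 | e1
    · have : z = 1 := by
        have := e _ _ e1
        simpa [mul_assoc] using this
      rw [this]; simp
    · have : z = u := by
        have := e _ _ e1
        rw [g1] at this
        simpa [mul_assoc] using this
      rw [this]; exact cu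
    · have : z = v := by
        have := e _ _ e1
        rw [g2] at this
        simpa [mul_assoc] using this
      rw [this]; exact cv
    · have : z = v * u := by
        have h3 : g * (x * y) * g⁻¹ = v * u := by rw [cm, g1, g2]
        have h4 : z = g * (g⁻¹ * z * g) * g⁻¹ := by group
        rw [h4, e1, h3]
      rw [this, ← mul_assoc, cv, mul_assoc, cu, mul_assoc]
  have hcardU : Nat.card U ≤ 4 := by
    have h1 : (U : Set G) = {1, y, x, x * y} := by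
      ext b
      simp only [SetLike.mem_coe, Set.mem_insert_iff, Set.mem_singleton_iff]
      exact hU b
    have h2 : Nat.card U = (U : Set G).ncard := rfl
    rw [h2, h1]
    have a1 := Set.ncard_insert_le (1 : G) {y, x, x * y}
    have a2 := Set.ncard_insert_le y {x, x * y}
    have a3 := Set.ncard_insert_le x {x * y}
    have a4 := Set.ncard_singleton (x * y)
    omega
  have hbig : ∀ u ∈ U, u ≠ 1 → ∃ a ∈ Xf u, ∃ b ∈ Xf u, a ∉ U ∧ b ∉ U ∧ a * b ∉ U := by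
    intro u hu u1
    obtain ⟨b1, b2⟩ := hXf u hu u1
    have hc16 := h.card b1
    have hfin : ∀ Y : Set G, Y.Finite := fun Y => Set.toFinite Y
    have hUc : (U : Set G).ncard ≤ 4 := hcardU
    have hXc : ((Xf u : Subgroup G) : Set G).ncard = 16 := hc16
    obtain ⟨a, ha, haU⟩ : ∃ a ∈ Xf u, a ∉ U := by
      by_contra hcon
      push Not at hcon
      have := Set.ncard_le_ncard (s := ((Xf u : Subgroup G) : Set G)) (t := (U : Set G)) hcon (hfin _)
      omega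
    obtain ⟨b, hb, hbU⟩ : ∃ b ∈ Xf u, b ∉ U ∧ a * b ∉ U := by
      by_contra hcon
      push Not at hcon
      have h1 : ((Xf u : Subgroup G) : Set G) ⊆ (U : Set G) ∪ (fun w => a⁻¹ * w) '' (U : Set G) := by
        intro b hb
        by_cases hbU : b ∈ U
        · exact Or.inl hbU
        · refine Or.inr ⟨a * b, hcon b hb hbU, ?_⟩
          show a⁻¹ * (a * b) = b
          group
      have h2 := Set.ncard_le_ncard h1 (hfin _)
      have h3 := Set.ncard_union_le (U : Set G) ((fun w => a⁻¹ * w) '' (U : Set G))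
      have h4 := Set.ncard_image_le (f := fun w => a⁻¹ * w) (hfin (U : Set G))
      omega
    exact ⟨a, ha, b, hb, haU, hbU.1, hbU.2⟩
  have hnc : ∀ u ∈ U, ∀ v ∈ U, u ≠ 1 → v ≠ 1 → u ≠ v → ∀ a ∈ Xf u, ∀ b ∈ Xf v, a ∉ U → b ∉ U →
      a * b ≠ b * a := by
    intro u hu v hv u1 v1 uv a ha b hb haU hbU e
    obtain ⟨pr, hi⟩ := hPr u hu v hv u1 v1 uv
    refine pr.ncomm h hb (fun hb' => hbU ?_) ha (fun ha' => haU ?_) e.symm
    · rw [← hi]; exact ⟨hb', hb⟩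
    · rw [← hi]; exact ⟨ha, ha'⟩
  have K : KSeven U Xf :=
    { sq := ux
      three := ⟨x, y, hxU, hyU, x1, y1, hxy, fun w hw w1 => by
        rcases (hU w).mp hw with e | e | e | e
        · exact absurd e w1
        · exact Or.inr (Or.inl e)
        · exact Or.inl e
        · exact Or.inr (Or.inr e)⟩
      trans := by
        intro u hu v hv u1 v1
        obtain ⟨u', hu', u1', uu'⟩ := other u hu u1
        obtain ⟨v', hv', v1', vv'⟩ := other v hv v1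
        obtain ⟨g, hg, g1, -⟩ := hR u hu u' hu' u1 u1' uu'.symm
        obtain ⟨k, hk, k1, -⟩ := hR v hv v' hv' v1 v1' vv'.symm
        have hn : cj (k * g⁻¹) U = U := by
          rw [← cj_cj]
          have : cj g⁻¹ U = U := by
            conv_lhs => rw [← hg]
            exact cj_inv_cj g U
          rw [this, hk]
        refine ⟨k * g⁻¹, fun z hz => ?_, ?_⟩
        · have := conj_mem_cj (g := k * g⁻¹) hz
          rwa [hn] at this
        · rw [← g1, ← k1]; group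
      le := fun u hu u1 => (hXf u hu u1).2
      xsq := fun u hu u1 a ha => h.sq (hXf u hu u1).1 a ha
      inf := by
        intro u hu v hv u1 v1 uv a ha ha'
        rw [← (hPr u hu v hv u1 v1 uv).2]
        exact ⟨ha, ha'⟩
      conj := by
        intro g hg u hu u1 a ha
        rw [← hconj g (cj_eq_of hg) u hu u1]
        exact conj_mem_cj ha
      ctrans := by
        intro u hu u1 a ha b hb haU hbU
        obtain ⟨v, hv, v1, vu⟩ := other u hu u1
        obtain ⟨b1, b2⟩ := hXf u hu u1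
        have hout : ∀ a, a ∉ U → a ≠ 1 ∧ a ≠ u ∧ a ≠ v ∧ a ≠ v * u := by
          intro a ha
          refine ⟨?_, ?_, ?_, ?_⟩ <;> intro e <;> apply ha <;> rw [e]
          · exact U.one_mem
          · exact hu
          · exact hv
          · exact U.mul_mem hv hu
        obtain ⟨c, cu, cv, hc⟩ := h.rot b1 (b2 hv) v1 vu ha hb (hout a haU) (hout b hbU)
        have hcU := hcent u hu u1 v hv v1 vu c cu cv
        have hcc : c * a * c⁻¹ * b ∈ U := by
          rcases hc with e | e | e | e <;> rw [e]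
          · exact U.one_mem
          · exact hu
          · exact hv
          · exact U.mul_mem hv hu
        refine ⟨c, hcU, _, hcc, ?_⟩
        have e1 : b * (c * a * c⁻¹ * b) = (c * a * c⁻¹ * b) * b := h.comm b1 hb (b2 hcc)
        rw [e1, mul_assoc (c * a * c⁻¹) b b, h.sq b1 b hb, mul_one]
      big := hbig
      ncomm := hnc
      ind := by
        intro u hu v hv w hw u1 v1 w1 uv uw vw g hg
        obtain ⟨b1, b2⟩ := hXf u hu u1
        obtain ⟨b3, b4⟩ := hXf v hv v1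
        obtain ⟨b5, b6⟩ := hXf w hw w1
        by_cases hgU : g ∈ U
        · refine ⟨1, one_mem _, fun a ha => ?_⟩
          rw [inv_one, one_mul]
          exact h.comm b1 (b2 hgU) ha
        obtain ⟨p₁, hp₁, p₂, hp₂, q1, q2, q3⟩ := hbig v hv v1
        obtain ⟨a₀, ha₀, -, -, ha₀U, -, -⟩ := hbig u hu u1
        have hp₃ := (Xf v).mul_mem hp₁ hp₂
        have hcen : ∀ c : G, c ∈ Xf v ∨ c ∈ Xf w → (∀ z ∈ U, c * z = z * c) ∧ c * c = 1 := by
          rintro c (hc | hc)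
          · exact ⟨fun z hz => h.comm b3 hc (b4 hz), h.sq b3 c hc⟩
          · exact ⟨fun z hz => h.comm b5 hc (b6 hz), h.sq b5 c hc⟩
        have hne : ∀ c : G, c ∉ U → (c ∈ Xf v ∨ c ∈ Xf w) → ∃ a ∈ Xf u, c * a ≠ a * c := by
          rintro c hcU (hc | hc)
          · exact ⟨a₀, ha₀, (hnc u hu v hv u1 v1 uv a₀ ha₀ c hc ha₀U hcU).symm⟩
          · exact ⟨a₀, ha₀, (hnc u hu w hw u1 w1 uw a₀ ha₀ c hc ha₀U hcU).symm⟩
        have hsame : ∀ c d : G, (∀ a ∈ Xf u, c * a * c⁻¹ = d * a * d⁻¹) →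
            ∀ a ∈ Xf u, (c⁻¹ * d) * a = a * (c⁻¹ * d) := by
          intro c d hcd a ha
          have := hcd a ha
          calc c⁻¹ * d * a = c⁻¹ * (d * a * d⁻¹) * d := by group
            _ = c⁻¹ * (c * a * c⁻¹) * d := by rw [this]
            _ = a * (c⁻¹ * d) := by group
        have hdiff : ∀ c d : G, c ∈ Xf v → d ∈ Xf v → c⁻¹ * d ∉ U →
            ¬ ∀ a ∈ Xf u, c * a * c⁻¹ = d * a * d⁻¹ := by
          intro c d hc hd hcd hh
          obtain ⟨a, ha, e⟩ := hne (c⁻¹ * d) hcd (Or.inl ((Xf v).mul_mem ((Xf v).inv_mem hc) hd))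
          exact e (hsame c d hh a ha)
        have i₁ := h.inv_eq b3 hp₁
        have i₂ := h.inv_eq b3 hp₂
        have i₃ := h.inv_eq b3 hp₃
        have s₁ := h.sq b3 _ hp₁
        have s₂ := h.sq b3 _ hp₂
        have hcomm := h.comm b3 hp₁ hp₂
        let c : Fin 4 → G := ![p₁, p₂, p₁ * p₂, g]
        have hcm : ∀ i, c i ∉ U ∧ (c i ∈ Xf v ∨ c i ∈ Xf w) := by
          intro i
          fin_cases i
          · exact ⟨q1, Or.inl hp₁⟩
          · exact ⟨q2, Or.inl hp₂⟩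
          · exact ⟨q3, Or.inl hp₃⟩
          · exact ⟨hgU, Or.inr hg⟩
        obtain ⟨i, j, hij, hagr⟩ := h.four b1 (b2 hv) v1 uv.symm c (fun i => (hcen _ (hcm i).2).1 u hu)
          (fun i => (hcen _ (hcm i).2).1 v hv)
          (fun i a _ => by rw [(hcen _ (hcm i).2).2, one_mul, mul_one])
          (fun i => hne _ (hcm i).1 (hcm i).2)
        have d01 : ¬ ∀ a ∈ Xf u, p₁ * a * p₁⁻¹ = p₂ * a * p₂⁻¹ :=
          hdiff _ _ hp₁ hp₂ (by rw [i₁]; exact q3)
        have d02 : ¬ ∀ a ∈ Xf u, p₁ * a * p₁⁻¹ = (p₁ * p₂) * a * (p₁ * p₂)⁻¹ :=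
          hdiff _ _ hp₁ hp₃ (by rw [inv_mul_cancel_left]; exact q2)
        have d12 : ¬ ∀ a ∈ Xf u, p₂ * a * p₂⁻¹ = (p₁ * p₂) * a * (p₁ * p₂)⁻¹ :=
          hdiff _ _ hp₂ hp₃ (by rw [hcomm, inv_mul_cancel_left]; exact q1)
        have sy : ∀ c d : G, (∀ a ∈ Xf u, c * a * c⁻¹ = d * a * d⁻¹) →
            ∀ a ∈ Xf u, d * a * d⁻¹ = c * a * c⁻¹ := fun c d hh a ha => (hh a ha).symm
        have fin : ∀ b : G, b ∈ Xf v → (∀ a ∈ Xf u, b * a * b⁻¹ = g * a * g⁻¹) →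
            ∃ b ∈ Xf v, ∀ x ∈ Xf u, (b⁻¹ * g) * x = x * (b⁻¹ * g) := fun b hb hh => ⟨b, hb, hsame b g hh⟩
        fin_cases i <;> fin_cases j
        · exact absurd rfl hij
        · exact absurd hagr d01
        · exact absurd hagr d02
        · exact fin p₁ hp₁ hagr
        · exact absurd (sy _ _ hagr) d01
        · exact absurd rfl hij
        · exact absurd hagr d12
        · exact fin p₂ hp₂ hagr
        · exact absurd (sy _ _ hagr) d02
        · exact absurd (sy _ _ hagr) d12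
        · exact absurd rfl hij
        · exact fin _ hp₃ hagr
        · exact fin p₁ hp₁ (sy _ _ hagr)
        · exact fin p₂ hp₂ (sy _ _ hagr)
        · exact fin _ hp₃ (sy _ _ hagr)
        · exact absurd rfl hij }
  exact K.false

/-- **No critical pair**: `W_x`, `W_y` are generated by blocks which the other one normalises. -/
theorem no_crit [Finite G] (h : BS B) {x y : G} {Wx Wy : Subgroup G} (hxy : x ≠ y)
    (c1 : ∀ a ∈ Wx, a * y = y * a) (c2 : ∀ b ∈ Wy, b * x = x * b)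
    {S S' : Set (Subgroup G)} (hS : ∀ X ∈ S, B y X ∧ X ≤ Wy ∧ ∀ a ∈ Wx, ∀ b ∈ X, a * b * a⁻¹ ∈ X)
    (hS' : ∀ X ∈ S', B x X ∧ X ≤ Wx ∧ ∀ b ∈ Wy, ∀ a ∈ X, b * a * b⁻¹ ∈ X)
    (g1 : Wy ≤ sSup S ⊔ centralizer (Wx : Set G)) (g2 : Wx ≤ sSup S' ⊔ centralizer (Wy : Set G))
    (nc : ∃ a ∈ Wx, ∃ b ∈ Wy, a * b ≠ b * a) : False := by
  by_cases hc : ∀ X ∈ S, ∀ X' ∈ S', X ≤ centralizer (X' : Set G)
  · obtain ⟨a, ha, b, hb, hab⟩ := nc
    apply hab
    have h1 : ∀ X' ∈ S', X' ≤ centralizer (Wy : Set G) := by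
      intro X' hX'
      rw [le_centralizer_iff]
      refine g1.trans (sup_le (sSup_le fun X hX => hc X hX X' hX') ?_)
      exact centralizer_le (hS' X' hX').2.1
    have h2 : Wx ≤ centralizer (Wy : Set G) := g2.trans (sup_le (sSup_le h1) le_rfl)
    exact (mem_centralizer_iff.mp (h2 ha) b hb).symm
  · push Not at hc
    obtain ⟨X, hX, X', hX', hne⟩ := hc
    obtain ⟨bX, lX, nX⟩ := hS X hX
    obtain ⟨bX', lX', nX'⟩ := hS' X' hX'
    refine Pr.false (x := x) (y := y) (X' := X') (X := X) h ⟨bX, bX', hxy, fun a ha b hb => nX a (lX' ha) b hb,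
      fun b hb a ha => nX' b (lX hb) a ha, fun a ha => c1 a (lX' ha), fun b hb => c2 b (lX hb), ?_⟩
    by_contra hcon
    push Not at hcon
    apply hne
    intro b hb
    rw [mem_centralizer_iff]
    intro a ha
    exact hcon a ha b hb

end BS

end Cfsg.Agent.Omega.FOne.End
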