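import Cfsg.Agent.Omega.FOne.Rep
import Cfsg.Agent.Omega.FOne.KSeven

/-!
# (F1'): the end (bb OMEGA #15003, helper299)

* `GB r y0 y X` : `X ≤ W_y` is a block at the point `y` (a conjugate of a block `Tvw.Blk` of `W_z`);
* `GB.eq`, `GB.swap`, `GB.rot`, `GB.inv`, `GB.four` : the facts of LEMMA TVW in `G`;
* `side_gen` : one side of a critical pair with the K-input `PSin`;
* `PR` : non-commuting blocks at `u` and `v` normalising each other: `X ∩ X' = {1, u, v, u v}`;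
* `PR.kSeven` : the configuration of Lemma K7;
* `not_cr` : there is no critical pair of flags without (F1); `fOne` : **(F1)**.
-/

set_option autoImplicit false
set_option linter.unusedSectionVars false

namespace Cfsg.Agent.Omega.FOne.GBlk

open Subgroup Cfsg Cfsg.Agent.ZN Cfsg.Agent.MinSimple.Geo Cfsg.Agent.Omega.CaseL
open Cfsg.Agent.Omega.FOne.Crit (Fl Side)
open Cfsg.Agent.Omega.FOne.Rep
open Cfsg.Agent.Omega.FOne.Tvw (Base Blk IsTv z2 addself)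
open Cfsg.Agent.Omega.NO3S.Pt (Col Pth Com Mn Cr conj_mem_cent)
open Cfsg.Agent.ZN.Block (conj_mem_of_normalizer conj_mem_of_normalizer' le_normalizer_of_forall
  mem_normalizer_of)

universe u

variable {G : Type u} [Group G] {W : Type u} [AddCommGroup W] [Module (ZMod 2) W]

/-! ### the facts at the base point -/

section bf

variable {V : Subgroup G} {z : G} (r : Rp (ws V z) W) {y0 : W} {B : Submodule (ZMod 2) W}

theorem ne_zero {w : W} (h : r.e w ≠ 1) : w ≠ 0 := fun e => h (by rw [e, r.zero])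

theorem ne_y (hy : r.e y0 = z) {w : W} (h : r.e w ≠ z) : w ≠ y0 := fun e => h (by rw [e]; exact hy)

theorem bf_swap (hy : r.e y0 = z) (hB : Blk (HH r) y0 B) {u : G} (hu : u ∈ r.sub B) (u1 : u ≠ 1)
    (uz : u ≠ z) : ∃ c ∈ centralizer ({z} : Set G), c * u * c⁻¹ = u * z := by
  obtain ⟨w, hw, rfl⟩ := hu
  obtain ⟨φ, hφ, e⟩ := hB.swap hw (ne_zero r u1) (ne_y r hy uz)
  obtain ⟨c, hc, e'⟩ := (mem_HH r).mp hφ
  refine ⟨c, hc, ?_⟩
  rw [← e', e, r.add, hy]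

theorem bf_eq [Finite W] (hy : r.e y0 = z) {B' : Submodule (ZMod 2) W} (hB : Blk (HH r) y0 B)
    (hB' : Blk (HH r) y0 B') {u : G} (hu : u ∈ r.sub B) (hu' : u ∈ r.sub B') (u1 : u ≠ 1) (uz : u ≠ z) :
    B = B' := by
  obtain ⟨w, hw, rfl⟩ := hu
  rw [r.e_mem_sub] at hu'
  exact hB.eq hB' hw hu' (ne_zero r u1) (ne_y r hy uz)

theorem bf_rot [Finite W] (hy : r.e y0 = z) (hB : Blk (HH r) y0 B) {u a b : G} (hu : u ∈ r.sub B)
    (u1 : u ≠ 1) (uz : u ≠ z) (ha : a ∈ r.sub B) (a1 : a ≠ 1) (az : a ≠ z) (au : a ≠ u) (auz : a ≠ u * z)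
    (hb : b ∈ r.sub B) (b1 : b ≠ 1) (bz : b ≠ z) (bu : b ≠ u) (buz : b ≠ u * z) :
    ∃ c ∈ centralizer ({z} : Set G), c * u * c⁻¹ = u ∧ (c * a * c⁻¹ * b = 1 ∨ c * a * c⁻¹ * b = z ∨
      c * a * c⁻¹ * b = u ∨ c * a * c⁻¹ * b = u * z) := by
  obtain ⟨w, hw, rfl⟩ := hu
  obtain ⟨p, hp, rfl⟩ := ha
  obtain ⟨q, hq, rfl⟩ := hb
  obtain ⟨φ, hφ, e, e2⟩ := hB.rot hw (ne_zero r u1) (ne_y r hy uz) hp (ne_zero r a1) (ne_y r hy az)
    (fun e => au (by rw [e])) (fun e => auz (by rw [e, r.add, hy])) hq (ne_zero r b1) (ne_y r hy bz)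
    (fun e => bu (by rw [e])) (fun e => buz (by rw [e, r.add, hy]))
  obtain ⟨c, hc, e'⟩ := (mem_HH r).mp hφ
  refine ⟨c, hc, ?_, ?_⟩
  · rw [← e', e]
  · rw [← e', ← r.add]
    rcases e2 with e2 | e2 | e2 | e2 <;> rw [e2]
    · left; exact r.zero
    · right; left; exact hy
    · right; right; left; rfl
    · right; right; right; rw [r.add, hy]

theorem bf_inv [Finite W] (hy : r.e y0 = z) (hB : Blk (HH r) y0 B) {c : G}
    (hc : c ∈ centralizer ({z} : Set G)) (hX : ∀ x ∈ r.sub B, c * x * c⁻¹ ∈ r.sub B)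
    (h2 : ∀ x ∈ r.sub B, c * (c * x * c⁻¹) * c⁻¹ = x) (hne : ∃ x ∈ r.sub B, c * x * c⁻¹ ≠ x) :
    ∃ θ ∈ r.sub B, θ ≠ 1 ∧ θ ≠ z ∧ (∀ x ∈ r.sub B, c * x * c⁻¹ = x ↔ x = 1 ∨ x = z ∨ x = θ ∨ x = θ * z) ∧
      ∀ u ∈ r.sub B, c * u * c⁻¹ = u → ∃ v ∈ r.sub B, c * v * c⁻¹ * v = u := by
  have hC := centralizer_le_normalizer_ws V z
  obtain ⟨φ, hφ, e⟩ := r.exists_im hC le_rfl hc
  have hφ' : φ ∈ HH r := by rw [← imz_self]; exact hφ
  obtain ⟨θ, hθ, θ0, θy, h3, h4⟩ := hB.inv hφ' (fun x hx => by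
      rw [← r.e_mem_sub, e]; exact hX _ (r.e_mem_sub.mpr hx))
    (fun x hx => by
      apply r.inj
      rw [e, e]; exact h2 _ (r.e_mem_sub.mpr hx))
    (by
      obtain ⟨x, ⟨w, hw, rfl⟩, hne⟩ := hne
      refine ⟨w, hw, fun e' => hne ?_⟩
      rw [← e, e'])
  refine ⟨r.e θ, r.e_mem_sub.mpr hθ, fun e => θ0 (r.eq_one.mp e), fun e => θy (r.inj (e.trans hy.symm)),
    ?_, ?_⟩
  · rintro x ⟨w, hw, rfl⟩
    rw [← e]
    constructor
    · intro h5
      rcases (h3 w hw).mp (r.inj h5) with h6 | h6 | h6 | h6 <;> rw [h6]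
      · left; exact r.zero
      · right; left; exact hy
      · right; right; left; rfl
      · right; right; right; rw [r.add, hy]
    · intro h5
      have h6 : w = 0 ∨ w = y0 ∨ w = θ ∨ w = θ + y0 := by
        rcases h5 with h5 | h5 | h5 | h5
        · left; exact r.eq_one.mp h5
        · right; left; exact r.inj (h5.trans hy.symm)
        · right; right; left; exact r.inj h5
        · right; right; right
          apply r.inj
          rw [h5, r.add, hy]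
      rw [(h3 w hw).mpr h6]
  · rintro x ⟨w, hw, rfl⟩ h5
    rw [← e] at h5
    obtain ⟨v, hv, h6⟩ := h4 w hw (r.inj h5)
    refine ⟨r.e v, r.e_mem_sub.mpr hv, ?_⟩
    rw [← e, ← r.add, h6]

theorem bf_four [Finite W] (hy : r.e y0 = z) (hB : Blk (HH r) y0 B) {u : G} (hu : u ∈ r.sub B)
    (u1 : u ≠ 1) (uz : u ≠ z) (c : Fin 4 → G) (hc : ∀ i, c i ∈ centralizer ({z} : Set G))
    (hcu : ∀ i, c i * u * (c i)⁻¹ = u) (h2 : ∀ i, ∀ x ∈ r.sub B, c i * (c i * x * (c i)⁻¹) * (c i)⁻¹ = x)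
    (hne : ∀ i, ∃ x ∈ r.sub B, c i * x * (c i)⁻¹ ≠ x) :
    ∃ i j, i ≠ j ∧ ∀ x ∈ r.sub B, c i * x * (c i)⁻¹ = c j * x * (c j)⁻¹ := by
  have hC := centralizer_le_normalizer_ws V z
  obtain ⟨w, hw, rfl⟩ := hu
  choose φ hφ e using fun i => r.exists_im hC le_rfl (hc i)
  obtain ⟨i, j, hij, h3⟩ := hB.four hw (ne_zero r u1) (ne_y r hy uz) φ
    (fun i => by rw [← imz_self]; exact hφ i)
    (fun i => r.inj (by rw [e, hcu])) (fun i x hx => by
      apply r.inj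
      rw [e, e]; exact h2 i _ (r.e_mem_sub.mpr hx))
    (fun i => by
      obtain ⟨x, ⟨w, hw, rfl⟩, hne⟩ := hne i
      refine ⟨w, hw, fun e' => hne ?_⟩
      rw [← e, e'])
  refine ⟨i, j, hij, ?_⟩
  rintro x ⟨w', hw', rfl⟩
  rw [← e, ← e, h3 w' hw']

end bf

/-! ### blocks at all points -/

section GBs

variable {V : Subgroup G} {z : G} (r : Rp (ws V z) W) (y0 : W)

/-- the module `W_y`, `y = g z g⁻¹` -/
def trr (r : Rp (ws V z) W) {g y : G} (hg : g * z * g⁻¹ = y) {V' : Subgroup G} (hV : ws V' y = ws V y) :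
    Rp (ws V' y) W where
  e w := g * r.e w * g⁻¹
  add a b := by rw [r.add]; group
  inj a b h := r.inj (by simpa using h)
  rng x := by
    rw [hV, ← hg, ← cj_ws, mem_cj, r.rng]
    constructor
    · rintro ⟨w, e⟩; exact ⟨w, by rw [e]; group⟩
    · rintro ⟨w, rfl⟩; exact ⟨w, by group⟩

theorem trr_e {g y : G} (hg : g * z * g⁻¹ = y) {V' : Subgroup G} (hV : ws V' y = ws V y) (w : W) :
    (trr r hg hV).e w = g * r.e w * g⁻¹ := rfl

theorem HH_trr {g y : G} (hg : g * z * g⁻¹ = y) {V' : Subgroup G} (hV : ws V' y = ws V y) :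
    HH (trr r hg hV) = HH r := by
  ext φ
  rw [mem_HH, mem_HH]
  constructor
  · rintro ⟨c, hc, e⟩
    refine ⟨g⁻¹ * c * g, ?_, fun w => ?_⟩
    · rw [mem_centralizer_singleton_iff] at hc ⊢
      rw [← hg] at hc
      calc g⁻¹ * c * g * z = g⁻¹ * (c * (g * z * g⁻¹)) * g := by group
        _ = g⁻¹ * (g * z * g⁻¹ * c) * g := by rw [hc]
        _ = z * (g⁻¹ * c * g) := by group
    · have := e w
      rw [trr_e, trr_e] at this
      calc r.e (φ w) = g⁻¹ * (g * r.e (φ w) * g⁻¹) * g := by group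
        _ = g⁻¹ * c * g * r.e w * (g⁻¹ * c * g)⁻¹ := by rw [this]; group
  · rintro ⟨c, hc, e⟩
    refine ⟨g * c * g⁻¹, ?_, fun w => ?_⟩
    · rw [mem_centralizer_singleton_iff] at hc ⊢
      rw [← hg]
      calc g * c * g⁻¹ * (g * z * g⁻¹) = g * (c * z) * g⁻¹ := by group
        _ = g * (z * c) * g⁻¹ := by rw [hc]
        _ = g * z * g⁻¹ * (g * c * g⁻¹) := by group
    · rw [trr_e, trr_e, e]; group

/-- `X` is a block at the point `y` -/
def GB (y : G) (X : Subgroup G) : Prop :=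
  ∃ (g : G) (hg : g * z * g⁻¹ = y) (B : Submodule (ZMod 2) W), Blk (HH r) y0 B ∧
    X = (trr r hg (V' := V) rfl).sub B

variable {r y0} {y : G} {X X' : Subgroup G}

theorem GB.at (h : GB r y0 y X) {g : G} (hg : g * z * g⁻¹ = y) :
    ∃ B : Submodule (ZMod 2) W, Blk (HH r) y0 B ∧ X = (trr r hg (V' := V) rfl).sub B := by
  obtain ⟨g', hg', B', hB', rfl⟩ := h
  have hc : g⁻¹ * g' ∈ centralizer ({z} : Set G) := by
    rw [mem_centralizer_singleton_iff]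
    calc g⁻¹ * g' * z = g⁻¹ * (g' * z * g'⁻¹) * g' := by group
      _ = g⁻¹ * (g * z * g⁻¹) * g' := by rw [hg', hg]
      _ = z * (g⁻¹ * g') := by group
  obtain ⟨φ, hφ, e⟩ := r.exists_im (centralizer_le_normalizer_ws V z) le_rfl hc
  have hφ' : φ ∈ HH r := by rw [← imz_self]; exact hφ
  refine ⟨_, hB'.map hφ', ?_⟩
  ext x
  constructor
  · rintro ⟨w, hw, rfl⟩
    refine ⟨φ w, ⟨w, hw, rfl⟩, ?_⟩
    rw [trr_e, trr_e, e]; group
  · rintro ⟨_, ⟨w, hw, rfl⟩, rfl⟩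
    refine ⟨w, hw, ?_⟩
    change g' * r.e w * g'⁻¹ = g * r.e (φ w) * g⁻¹
    rw [e]; group

theorem GB.conj (h : GB r y0 y X) (k : G) : GB r y0 (k * y * k⁻¹) (cj k X) := by
  obtain ⟨g, hg, B, hB, rfl⟩ := h
  refine ⟨k * g, by rw [← hg]; group, B, hB, ?_⟩
  ext x
  rw [mem_cj]
  constructor
  · rintro ⟨w, hw, e⟩
    refine ⟨w, hw, ?_⟩
    rw [trr_e] at e ⊢
    calc k * g * r.e w * (k * g)⁻¹ = k * (g * r.e w * g⁻¹) * k⁻¹ := by group
      _ = x := by rw [e]; group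
  · rintro ⟨w, hw, rfl⟩
    refine ⟨w, hw, ?_⟩
    rw [trr_e, trr_e]; group

variable (hy : r.e y0 = z)
include hy

theorem e_tr {g : G} (hg : g * z * g⁻¹ = y) : (trr r hg (V' := V) rfl).e y0 = y := by
  rw [trr_e, hy]; exact hg

theorem GB.y_mem (h : GB r y0 y X) : y ∈ X := by
  obtain ⟨g, hg, B, hB, rfl⟩ := h
  exact ⟨y0, hB.y_mem, e_tr hy hg⟩

omit hy in
theorem GB.le (h : GB r y0 y X) : X ≤ ws V y := by
  obtain ⟨g, hg, B, hB, rfl⟩ := h
  exact Rp.sub_le _ _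

omit hy in
theorem GB.card (h : GB r y0 y X) : Nat.card X = 16 := by
  obtain ⟨g, hg, B, hB, rfl⟩ := h
  rw [Rp.card_sub]
  exact hB.card

omit hy in
theorem GB.sq (h : GB r y0 y X) {x : G} (hx : x ∈ X) : x * x = 1 := by
  obtain ⟨g, hg, B, hB, rfl⟩ := h
  obtain ⟨w, hw, rfl⟩ := hx
  exact Rp.sq _ _

omit hy in
theorem GB.comm (h : GB r y0 y X) {a b : G} (ha : a ∈ X) (hb : b ∈ X) : a * b = b * a := by
  have h1 := h.sq (mul_mem ha hb)
  have h2 := h.sq ha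
  have h3 := h.sq hb
  calc a * b = (a * b)⁻¹ := (inv_eq_self h1).symm
    _ = b⁻¹ * a⁻¹ := by group
    _ = b * a := by rw [inv_eq_self h2, inv_eq_self h3]

theorem GB.y_ne (h : GB r y0 y X) : y ≠ 1 := by
  obtain ⟨g, hg, B, hB, rfl⟩ := h
  have h1 := hB.base.y0
  intro e
  apply h1
  rw [← r.eq_one, hy]
  rw [e] at hg
  exact conj_eq_one_iff.mp hg

theorem GB.eq [Finite G] (h : GB r y0 y X) (h' : GB r y0 y X') {u : G} (hu : u ∈ X) (hu' : u ∈ X')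
    (u1 : u ≠ 1) (uy : u ≠ y) : X = X' := by
  obtain ⟨g, hg, B, hB, rfl⟩ := h
  obtain ⟨B', hB', rfl⟩ := h'.at hg
  have : Finite W := r.finite
  have h1 : Blk (HH (trr r hg (V' := V) rfl)) y0 B := by rw [HH_trr]; exact hB
  have h2 : Blk (HH (trr r hg (V' := V) rfl)) y0 B' := by rw [HH_trr]; exact hB'
  rw [bf_eq _ (e_tr hy hg) h1 h2 hu hu' u1 uy]

theorem GB.swap (h : GB r y0 y X) {u : G} (hu : u ∈ X) (u1 : u ≠ 1) (uy : u ≠ y) :
    ∃ c ∈ centralizer ({y} : Set G), c * u * c⁻¹ = u * y := by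
  obtain ⟨g, hg, B, hB, rfl⟩ := h
  have h1 : Blk (HH (trr r hg (V' := V) rfl)) y0 B := by rw [HH_trr]; exact hB
  exact bf_swap _ (e_tr hy hg) h1 hu u1 uy

theorem GB.rot [Finite G] (h : GB r y0 y X) {u a b : G} (hu : u ∈ X) (u1 : u ≠ 1) (uz : u ≠ y)
    (ha : a ∈ X) (a1 : a ≠ 1) (az : a ≠ y) (au : a ≠ u) (auz : a ≠ u * y)
    (hb : b ∈ X) (b1 : b ≠ 1) (bz : b ≠ y) (bu : b ≠ u) (buz : b ≠ u * y) :
    ∃ c ∈ centralizer ({y} : Set G), c * u * c⁻¹ = u ∧ (c * a * c⁻¹ * b = 1 ∨ c * a * c⁻¹ * b = y ∨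
      c * a * c⁻¹ * b = u ∨ c * a * c⁻¹ * b = u * y) := by
  obtain ⟨g, hg, B, hB, rfl⟩ := h
  have : Finite W := r.finite
  have h1 : Blk (HH (trr r hg (V' := V) rfl)) y0 B := by rw [HH_trr]; exact hB
  exact bf_rot _ (e_tr hy hg) h1 hu u1 uz ha a1 az au auz hb b1 bz bu buz

theorem GB.inv [Finite G] (h : GB r y0 y X) {c : G}
    (hc : c ∈ centralizer ({y} : Set G)) (hX : ∀ x ∈ X, c * x * c⁻¹ ∈ X)
    (h2 : ∀ x ∈ X, c * (c * x * c⁻¹) * c⁻¹ = x) (hne : ∃ x ∈ X, c * x * c⁻¹ ≠ x) :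
    ∃ θ ∈ X, θ ≠ 1 ∧ θ ≠ y ∧ (∀ x ∈ X, c * x * c⁻¹ = x ↔ x = 1 ∨ x = y ∨ x = θ ∨ x = θ * y) ∧
      ∀ u ∈ X, c * u * c⁻¹ = u → ∃ v ∈ X, c * v * c⁻¹ * v = u := by
  obtain ⟨g, hg, B, hB, rfl⟩ := h
  have : Finite W := r.finite
  have h1 : Blk (HH (trr r hg (V' := V) rfl)) y0 B := by rw [HH_trr]; exact hB
  exact bf_inv _ (e_tr hy hg) h1 hc hX h2 hne

theorem GB.four [Finite G] (h : GB r y0 y X) {u : G} (hu : u ∈ X)
    (u1 : u ≠ 1) (uz : u ≠ y) (c : Fin 4 → G) (hc : ∀ i, c i ∈ centralizer ({y} : Set G))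
    (hcu : ∀ i, c i * u * (c i)⁻¹ = u) (h2 : ∀ i, ∀ x ∈ X, c i * (c i * x * (c i)⁻¹) * (c i)⁻¹ = x)
    (hne : ∀ i, ∃ x ∈ X, c i * x * (c i)⁻¹ ≠ x) :
    ∃ i j, i ≠ j ∧ ∀ x ∈ X, c i * x * (c i)⁻¹ = c j * x * (c j)⁻¹ := by
  obtain ⟨g, hg, B, hB, rfl⟩ := h
  have : Finite W := r.finite
  have h1 : Blk (HH (trr r hg (V' := V) rfl)) y0 B := by rw [HH_trr]; exact hB
  exact bf_four _ (e_tr hy hg) h1 hu u1 uz c hc hcu h2 hne

end GBs

/-! ### one side of a critical pair -/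

theorem side_tr {V : Subgroup G} {x y : G} {T' L : Subgroup G} {k : G} (S : Side V x y T' L) :
    Side (cj k V) x y T' L where
  line := by
    obtain ⟨g, hg⟩ := S.line
    exact ⟨g * k⁻¹, by rw [cj_cj, hg, inv_mul_cancel_right]⟩
  fl := S.fl
  le_o2 := by rw [ws_cj]; exact S.le_o2
  left := by rw [ws_cj, ws_cj]; exact S.left
  right := by rw [ws_cj, ws_cj]; exact S.right
  ne := by
    unfold Com
    rw [ws_cj, ws_cj]
    exact S.ne

theorem side_gen [Finite G] (hPS : PSin.{u}) (hK : IsKProper G) {T V : Subgroup G} {z : G}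
    (r : Rp (ws V z) W) {y0 : W} (hy0 : r.e y0 = z) {x y k : G} (hk : k * z * k⁻¹ = y)
    (hC : centralizer ({y} : Set G) ≠ ⊤) (hf : Fl (cj k T) (cj k V) y)
    (hxa : ∀ a ∈ ws V x, ∀ b ∈ ws V x, a * b = b * a) (hxs : ∀ a ∈ ws V x, a * a = 1)
    (S : Side V x y (cj k T) (cj k V))
    (hge : (centralizer (ws V x : Set G)).relIndex (ws V y) ≤
      (centralizer (ws V y : Set G)).relIndex (ws V x)) :
    (centralizer (ws V x : Set G)).relIndex (ws V y) = (centralizer (ws V y : Set G)).relIndex (ws V x) ∧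
      ∃ Ss : Set (Subgroup G), (∀ X ∈ Ss, GB r y0 y X ∧ ∀ a ∈ ws V x, ∀ b ∈ X, a * b * a⁻¹ ∈ X) ∧
        ∀ w ∈ ws V y, ∃ v ∈ sSup Ss, ∀ a ∈ ws V x, a * (w * v) = (w * v) * a := by
  have hWe : ws (cj k V) y = ws V y := ws_cj V k y
  have hWx : ws (cj k V) x = ws V x := ws_cj V k x
  have hy1 : (trr r hk hWe).e y0 = y := by rw [trr_e, hy0, hk]
  obtain ⟨h1, h2⟩ := side_out hf (trr r hk hWe) hPS hK hC (x := x) (by rw [hWx]; exact hxa)
    (by rw [hWx]; exact hxs) (side_tr S) hy1 (by rw [hWe, hWx]; exact hge)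
  rw [hWe, hWx] at h1
  refine ⟨h1, ?_⟩
  have hfW : Finite W := r.finite
  have hCn := centralizer_le_normalizer_ws (cj k V) y
  have hxC : ws (cj k V) x ≤ centralizer ({y} : Set G) := (side_tr (k := k) S).le_C
  obtain ⟨S', hS1, hS2⟩ := Tvw.gen (base hf (trr r hk hWe) hy1) (imz_le _ _) h2
  refine ⟨{X | ∃ B ∈ S', X = (trr r hk hWe).sub B}, ?_, ?_⟩
  · rintro X ⟨B, hB, rfl⟩
    obtain ⟨hb1, hb2⟩ := hS1 B hB
    rw [HH_trr] at hb1
    refine ⟨⟨k, hk, B, hb1, rfl⟩, ?_⟩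
    rintro a ha b ⟨w, hw, rfl⟩
    rw [← hWx] at ha
    obtain ⟨φ, hφ, e⟩ := (trr r hk hWe).exists_im hCn hxC ha
    rw [← e]
    exact ⟨φ w, hb2 φ hφ w hw, rfl⟩
  · intro w hw
    rw [← hWe] at hw
    obtain ⟨w', rfl⟩ := ((trr r hk hWe).rng w).mp hw
    obtain ⟨v', hv', hv2⟩ := hS2 w'
    refine ⟨(trr r hk hWe).e v', ?_, ?_⟩
    · have h3 : sSup S' ≤ (trr r hk hWe).mod (sSup {X | ∃ B ∈ S', X = (trr r hk hWe).sub B}) := by
        refine sSup_le fun B hB w hw => ?_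
        have h4 : (trr r hk hWe).sub B ≤ sSup {X | ∃ B ∈ S', X = (trr r hk hWe).sub B} :=
          le_sSup ⟨B, hB, rfl⟩
        exact h4 ⟨w, hw, rfl⟩
      exact h3 hv'
    · intro a ha
      rw [← hWx] at ha
      obtain ⟨φ, hφ, e⟩ := (trr r hk hWe).exists_im hCn hxC ha
      rw [← Rp.add]
      have h4 := e (w' + v')
      rw [hv2 φ hφ, eq_mul_inv_iff_mul_eq] at h4
      exact h4.symm

/-! ### pairs of blocks -/

section pairs

variable {V : Subgroup G} {z : G} {r : Rp (ws V z) W} {y0 : W}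

/-- non-commuting blocks at `u` and `v`, normalising each other -/
structure PR (r : Rp (ws V z) W) (y0 : W) (u v : G) (X X' : Subgroup G) : Prop where
  hu : GB r y0 u X
  hv : GB r y0 v X'
  ab : ∀ a ∈ ws V u, ∀ b ∈ ws V u, a * b = b * a
  cX' : ∀ b ∈ X', b * u = u * b
  cX : ∀ a ∈ X, a * v = v * a
  nX : ∀ b ∈ X', ∀ a ∈ X, b * a * b⁻¹ ∈ X
  nX' : ∀ a ∈ X, ∀ b ∈ X', a * b * a⁻¹ ∈ X'
  nc : ∃ a ∈ X, ∃ b ∈ X', a * b ≠ b * a

namespace PR

variable {u v : G} {X X' : Subgroup G}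

theorem ne (h : PR r y0 u v X X') : u ≠ v := by
  rintro rfl
  obtain ⟨a, ha, b, hb, hab⟩ := h.nc
  exact hab (h.ab a (h.hu.le ha) b (h.hv.le hb))

theorem symm (h : PR r y0 u v X X') (hab : ∀ a ∈ ws V v, ∀ b ∈ ws V v, a * b = b * a) :
    PR r y0 v u X' X where
  hu := h.hv
  hv := h.hu
  ab := hab
  cX' := h.cX
  cX := h.cX'
  nX := h.nX'
  nX' := h.nX
  nc := by
    obtain ⟨a, ha, b, hb, hab⟩ := h.nc
    exact ⟨b, hb, a, ha, fun e => hab e.symm⟩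

theorem conj (h : PR r y0 u v X X') (g : G) :
    PR r y0 (g * u * g⁻¹) (g * v * g⁻¹) (cj g X) (cj g X') where
  hu := h.hu.conj g
  hv := h.hv.conj g
  ab := by
    rw [← cj_ws]
    intro a ha b hb
    have := h.ab _ (mem_cj.mp ha) _ (mem_cj.mp hb)
    calc a * b = g * ((g⁻¹ * a * g) * (g⁻¹ * b * g)) * g⁻¹ := by group
      _ = g * ((g⁻¹ * b * g) * (g⁻¹ * a * g)) * g⁻¹ := by rw [this]
      _ = b * a := by group
  cX' := by
    intro b hb
    have := h.cX' _ (mem_cj.mp hb)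
    calc b * (g * u * g⁻¹) = g * ((g⁻¹ * b * g) * u) * g⁻¹ := by group
      _ = g * (u * (g⁻¹ * b * g)) * g⁻¹ := by rw [this]
      _ = g * u * g⁻¹ * b := by group
  cX := by
    intro b hb
    have := h.cX _ (mem_cj.mp hb)
    calc b * (g * v * g⁻¹) = g * ((g⁻¹ * b * g) * v) * g⁻¹ := by group
      _ = g * (v * (g⁻¹ * b * g)) * g⁻¹ := by rw [this]
      _ = g * v * g⁻¹ * b := by group
  nX := by
    intro b hb a ha
    rw [mem_cj] at hb ha ⊢
    have := h.nX _ hb _ ha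
    have e : g⁻¹ * (b * a * b⁻¹) * g = g⁻¹ * b * g * (g⁻¹ * a * g) * (g⁻¹ * b * g)⁻¹ := by group
    rw [e]; exact this
  nX' := by
    intro b hb a ha
    rw [mem_cj] at hb ha ⊢
    have := h.nX' _ hb _ ha
    have e : g⁻¹ * (b * a * b⁻¹) * g = g⁻¹ * b * g * (g⁻¹ * a * g) * (g⁻¹ * b * g)⁻¹ := by group
    rw [e]; exact this
  nc := by
    obtain ⟨a, ha, b, hb, hab⟩ := h.nc
    refine ⟨_, conj_mem_cj ha, _, conj_mem_cj hb, fun e => hab ?_⟩
    calc a * b = g⁻¹ * ((g * a * g⁻¹) * (g * b * g⁻¹)) * g := by group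
      _ = g⁻¹ * ((g * b * g⁻¹) * (g * a * g⁻¹)) * g := by rw [e]
      _ = b * a := by group

variable [Finite G] (hy : r.e y0 = z)
include hy

/-- the action of `c ∈ X'` on `X` -/
theorem act (h : PR r y0 u v X X') {c : G} (hc : c ∈ X') (hne : ∃ x ∈ X, c * x ≠ x * c) :
    ∃ θ ∈ X, θ ≠ 1 ∧ θ ≠ u ∧ (∀ x ∈ X, c * x = x * c ↔ x = 1 ∨ x = u ∨ x = θ ∨ x = θ * u) ∧
      ∀ x ∈ X, c * x = x * c ↔ x ∈ X' := by
  have hcc := h.hv.sq hc
  obtain ⟨θ, hθ, θ1, θu, h1, h2⟩ := h.hu.inv hy (c := c)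
    (mem_centralizer_singleton_iff.mpr (h.cX' c hc)) (fun x hx => h.nX c hc x hx)
    (fun x hx => by
      rw [inv_eq_self hcc]
      calc c * (c * x * c) * c = (c * c) * x * (c * c) := by group
        _ = x := by rw [hcc, one_mul, mul_one])
    (by
      obtain ⟨x, hx, hne⟩ := hne
      exact ⟨x, hx, fun e => hne (mul_inv_eq_iff_eq_mul.mp e)⟩)
  have key : ∀ x, c * x * c⁻¹ = x ↔ c * x = x * c := fun x => mul_inv_eq_iff_eq_mul
  refine ⟨θ, hθ, θ1, θu, fun x hx => by rw [← key]; exact h1 x hx, fun x hx => ⟨fun h3 => ?_, fun h3 => ?_⟩⟩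
  · obtain ⟨w, hw, e⟩ := h2 x hx ((key x).mpr h3)
    have h4 : c * (w * c⁻¹ * w⁻¹) ∈ X' := X'.mul_mem hc (h.nX' w hw _ (X'.inv_mem hc))
    have h5 : w⁻¹ = w := inv_eq_self (h.hu.sq hw)
    rw [h5] at h4
    rw [← e]
    have e2 : c * w * c⁻¹ * w = c * (w * c⁻¹ * w) := by group
    rw [e2]; exact h4
  · exact h.hv.comm hc h3

theorem u_mem (h : PR r y0 u v X X') : u ∈ X' := by
  obtain ⟨a, ha, b, hb, hab⟩ := h.nc
  obtain ⟨θ, -, -, -, -, h2⟩ := h.act hy hb ⟨a, ha, fun e => hab e.symm⟩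
  exact (h2 u (h.hu.y_mem hy)).mp (h.cX' b hb)

theorem v_mem (h : PR r y0 u v X X') (hab : ∀ a ∈ ws V v, ∀ b ∈ ws V v, a * b = b * a) : v ∈ X :=
  (h.symm hab).u_mem hy

/-- `X ∩ X' = {1, u, v, v u}` -/
theorem inter (h : PR r y0 u v X X') (hab : ∀ a ∈ ws V v, ∀ b ∈ ws V v, a * b = b * a) {x : G}
    (hx : x ∈ X) : x ∈ X' ↔ x = 1 ∨ x = u ∨ x = v ∨ x = v * u := by
  obtain ⟨a, ha, b, hb, hne⟩ := h.nc
  obtain ⟨θ, hθ, θ1, θu, h1, h2⟩ := h.act hy hb ⟨a, ha, fun e => hne e.symm⟩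
  have hv1 := h.v_mem hy hab
  have hv2 : v ∈ X' := h.hv.y_mem hy
  have hvθ := (h1 v hv1).mp ((h2 v hv1).mpr hv2)
  have hv0 := h.hv.y_ne hy
  have huv := h.ne
  have huu := h.hu.sq (h.hu.y_mem hy)
  rw [← h2 x hx, h1 x hx]
  rcases hvθ with e | e | e | e
  · exact absurd e hv0
  · exact absurd e.symm huv
  · rw [e]
  · have e1 : θ = v * u := by rw [e, mul_assoc, huu, mul_one]
    rw [e1, mul_assoc, huu, mul_one]
    constructor
    · rintro (h3 | h3 | h3 | h3)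
      · exact Or.inl h3
      · exact Or.inr (Or.inl h3)
      · exact Or.inr (Or.inr (Or.inr h3))
      · exact Or.inr (Or.inr (Or.inl h3))
    · rintro (h3 | h3 | h3 | h3)
      · exact Or.inl h3
      · exact Or.inr (Or.inl h3)
      · exact Or.inr (Or.inr (Or.inr h3))
      · exact Or.inr (Or.inr (Or.inl h3))

/-- an element of `X'` outside `X` which centralises `X` : then all of `X'` does -/
theorem ncomm (h : PR r y0 u v X X') (hab : ∀ a ∈ ws V v, ∀ b ∈ ws V v, a * b = b * a) {a b : G}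
    (ha : a ∈ X) (ha' : a ∉ X') (hb : b ∈ X') (hb' : b ∉ X) : a * b ≠ b * a := by
  intro e
  have huX := h.hu.y_mem hy
  have hvX' := h.hv.y_mem hy
  have hu' := h.u_mem hy
  have hv' := h.v_mem hy hab
  have hs := h.symm hab
  -- `b` centralises `X`
  have h1 : ∀ x ∈ X, b * x = x * b := by
    by_contra hcon
    push Not at hcon
    obtain ⟨θ, -, -, -, -, h2⟩ := h.act hy hb hcon
    exact ha' ((h2 a ha).mp e.symm)
  -- all of `X'` centralises `X`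
  have hout : ∀ c ∈ X', c ∉ X → c ≠ 1 ∧ c ≠ v ∧ c ≠ u ∧ c ≠ u * v := by
    intro c _ hc'
    refine ⟨?_, ?_, ?_, ?_⟩ <;> rintro rfl
    · exact hc' X.one_mem
    · exact hc' hv'
    · exact hc' huX
    · exact hc' (X.mul_mem huX hv')
  obtain ⟨p, hp, q, hq, hpq⟩ := h.nc
  have hqX : q ∉ X := fun hqX => hpq (h.hu.comm hp hqX)
  obtain ⟨b1, b2, b3, b4⟩ := hout b hb hb'
  obtain ⟨q1, q2, q3, q4⟩ := hout q hq hqX
  obtain ⟨c, hc, hcu, h3⟩ := h.hv.rot hy hu' (h.hu.y_ne hy) h.ne hb b1 b2 b3 b4 hq q1 q2 q3 q4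
  -- `c` normalises `X`
  have hcX : cj c X = X := by
    have h4 := h.hu.conj c
    rw [hcu] at h4
    refine h4.eq hy h.hu (u := v) ?_ hv' (h.hv.y_ne hy) h.ne.symm
    rw [mem_cj]
    have : c⁻¹ * v * c = v := by
      rw [mul_assoc, ← mem_centralizer_singleton_iff.mp hc, inv_mul_cancel_left]
    rw [this]; exact hv'
  -- `c b c⁻¹` centralises `X`
  have h5 : ∀ x ∈ X, (c * b * c⁻¹) * x = x * (c * b * c⁻¹) := by
    intro x hx
    rw [← hcX, mem_cj] at hx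
    have := h1 _ hx
    calc (c * b * c⁻¹) * x = c * (b * (c⁻¹ * x * c)) * c⁻¹ := by group
      _ = c * ((c⁻¹ * x * c) * b) * c⁻¹ := by rw [this]
      _ = x * (c * b * c⁻¹) := by group
  have h6 : ∀ m ∈ X, ∀ x ∈ X, m * x = x * m := fun m hm x hx => h.hu.comm hm hx
  have h7 : ∀ m, m ∈ X → c * b * c⁻¹ * q = m → False := by
    intro m hm em
    have eq1 : q = (c * b * c⁻¹)⁻¹ * m := by rw [← em]; group
    apply hpq
    have h8 := h5 p hp
    have h9 := h6 m hm p hp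
    have h10 : (c * b * c⁻¹)⁻¹ * p = p * (c * b * c⁻¹)⁻¹ := inv_comm_of h8
    rw [eq1]
    calc p * ((c * b * c⁻¹)⁻¹ * m) = (p * (c * b * c⁻¹)⁻¹) * m := by group
      _ = (c * b * c⁻¹)⁻¹ * (p * m) := by rw [← h10]; group
      _ = (c * b * c⁻¹)⁻¹ * m * p := by rw [← h9]; group
  rcases h3 with h3 | h3 | h3 | h3
  · exact h7 1 X.one_mem h3
  · exact h7 v hv' h3
  · exact h7 u huX h3
  · exact h7 (u * v) (X.mul_mem huX hv') h3

end PR

/-- The configuration of Lemma K7. -/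
structure Cf (r : Rp (ws V z) W) (y0 : W) (U : Subgroup G) (XX : G → Subgroup G) : Prop where
  gb : ∀ a ∈ U, a ≠ 1 → GB r y0 a (XX a)
  le : ∀ a ∈ U, a ≠ 1 → U ≤ XX a
  pr : ∀ a ∈ U, ∀ b ∈ U, a ≠ 1 → b ≠ 1 → a ≠ b → PR r y0 a b (XX a) (XX b)
  three : ∃ p q : G, p ∈ U ∧ q ∈ U ∧ p ≠ 1 ∧ q ≠ 1 ∧ p ≠ q ∧ ∀ w ∈ U, w ≠ 1 → w = p ∨ w = q ∨ w = p * q
  trans : ∀ a ∈ U, ∀ b ∈ U, a ≠ 1 → b ≠ 1 → ∃ g : G, (∀ x ∈ U, g * x * g⁻¹ ∈ U) ∧ g * a * g⁻¹ = b

namespace Cf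

variable {U : Subgroup G} {XX : G → Subgroup G}

theorem usq (h : Cf r y0 U XX) {a : G} (ha : a ∈ U) : a * a = 1 := by
  by_cases h1 : a = 1
  · rw [h1, mul_one]
  · exact (h.gb a ha h1).sq (h.le a ha h1 ha)

theorem other (h : Cf r y0 U XX) (a : G) : ∃ b ∈ U, b ≠ 1 ∧ b ≠ a := by
  obtain ⟨p, q, hp, hq, hp1, hq1, hpq, -⟩ := h.three
  by_cases e : p = a
  · exact ⟨q, hq, hq1, fun e' => hpq (e.trans e'.symm)⟩
  · exact ⟨p, hp, hp1, e⟩

theorem card_U (h : Cf r y0 U XX) : Nat.card U ≤ 4 := by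
  obtain ⟨p, q, hp, hq, hp1, hq1, hpq, hall⟩ := h.three
  have h1 : (U : Set G) ⊆ {1, p, q, p * q} := by
    intro w hw
    by_cases e : w = 1
    · left; exact e
    · rcases hall w hw e with e | e | e
      · right; left; exact e
      · right; right; left; exact e
      · right; right; right; exact e
  have h2 := Set.ncard_le_ncard h1 (Set.toFinite _)
  have h3 : ({1, p, q, p * q} : Set G).ncard ≤ 4 := by
    refine (Set.ncard_insert_le _ _).trans ?_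
    have := Set.ncard_insert_le p {q, p * q}
    have := Set.ncard_insert_le q {p * q}
    rw [Set.ncard_singleton] at this
    omega
  exact h2.trans h3

variable [Finite G] (hy : r.e y0 = z)
include hy

theorem inter (h : Cf r y0 U XX) {a b x : G} (ha : a ∈ U) (hb : b ∈ U) (ha1 : a ≠ 1) (hb1 : b ≠ 1)
    (hab : a ≠ b) (hx : x ∈ XX a) (hx' : x ∈ XX b) : x = 1 ∨ x = a ∨ x = b ∨ x = b * a :=
  ((h.pr a ha b hb ha1 hb1 hab).inter hy (h.pr b hb a ha hb1 ha1 hab.symm).ab hx).mp hx'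

theorem inf (h : Cf r y0 U XX) {a b x : G} (ha : a ∈ U) (hb : b ∈ U) (ha1 : a ≠ 1) (hb1 : b ≠ 1)
    (hab : a ≠ b) (hx : x ∈ XX a) (hx' : x ∈ XX b) : x ∈ U := by
  rcases h.inter hy ha hb ha1 hb1 hab hx hx' with e | e | e | e <;> rw [e]
  · exact U.one_mem
  · exact ha
  · exact hb
  · exact U.mul_mem hb ha

theorem cases (h : Cf r y0 U XX) {a b x : G} (ha : a ∈ U) (hb : b ∈ U) (ha1 : a ≠ 1) (hb1 : b ≠ 1)
    (hab : a ≠ b) (hx : x ∈ U) : x = 1 ∨ x = a ∨ x = b ∨ x = b * a :=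
  h.inter hy ha hb ha1 hb1 hab (h.le a ha ha1 hx) (h.le b hb hb1 hx)

theorem uniq (h : Cf r y0 U XX) {a : G} (ha : a ∈ U) (ha1 : a ≠ 1) {Y : Subgroup G} (hY : GB r y0 a Y)
    (hU : U ≤ Y) : Y = XX a := by
  obtain ⟨b, hb, hb1, hba⟩ := h.other a
  exact hY.eq hy (h.gb a ha ha1) (hU hb) (h.le a ha ha1 hb) hb1 hba

omit hy in
theorem cj_U (_ : Cf r y0 U XX) {g : G} (hg : ∀ x ∈ U, g * x * g⁻¹ ∈ U) : cj g U = U := by
  refine Subgroup.eq_of_le_of_card_ge ?_ ?_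
  · rintro _ ⟨v, hv, rfl⟩
    exact hg v hv
  · rw [card_cj]

theorem conj (h : Cf r y0 U XX) {g : G} (hg : ∀ x ∈ U, g * x * g⁻¹ ∈ U) {a : G} (ha : a ∈ U)
    (ha1 : a ≠ 1) {x : G} (hx : x ∈ XX a) : g * x * g⁻¹ ∈ XX (g * a * g⁻¹) := by
  have h1 : cj g (XX a) = XX (g * a * g⁻¹) := by
    refine h.uniq hy (hg a ha) (fun e => ha1 (conj_eq_one_iff.mp e)) ((h.gb a ha ha1).conj g) ?_
    rw [← h.cj_U hg]
    exact cj_mono (h.le a ha ha1)
  rw [← h1]
  exact conj_mem_cj hx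

omit hy in
theorem exists_out (h : Cf r y0 U XX) {a : G} (ha : a ∈ U) (ha1 : a ≠ 1) :
    ∃ x ∈ XX a, ∃ y ∈ XX a, x ∉ U ∧ y ∉ U ∧ x * y ∉ U := by
  have hX : Nat.card (XX a) = 16 := (h.gb a ha ha1).card
  have hU := h.card_U
  obtain ⟨x, hx, hxU⟩ : ∃ x ∈ XX a, x ∉ U := by
    by_contra hcon
    push Not at hcon
    have h1 : XX a ≤ U := hcon
    have h2 := Subgroup.card_le_of_le h1
    omega
  by_contra hcon
  push Not at hcon
  have h1 : (XX a : Set G) ⊆ (U : Set G) ∪ (fun w => x⁻¹ * w) '' (U : Set G) := by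
    intro y hy
    by_cases hyU : y ∈ U
    · left; exact hyU
    · right
      exact ⟨x * y, hcon x hx y hy hxU hyU, by group⟩
  have h2 := Set.ncard_le_ncard h1 (Set.toFinite _)
  have h3 := Set.ncard_union_le (U : Set G) ((fun w => x⁻¹ * w) '' (U : Set G))
  have h4 : ((fun w => x⁻¹ * w) '' (U : Set G)).ncard ≤ (U : Set G).ncard := Set.ncard_image_le (Set.toFinite _)
  have h5 : (U : Set G).ncard = Nat.card U := rfl
  have h6 : (XX a : Set G).ncard = Nat.card (XX a) := rfl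
  omega

theorem ncomm (h : Cf r y0 U XX) {a b : G} (ha : a ∈ U) (hb : b ∈ U) (ha1 : a ≠ 1) (hb1 : b ≠ 1)
    (hab : a ≠ b) {x y : G} (hx : x ∈ XX a) (hyy : y ∈ XX b) (hxU : x ∉ U) (hyU : y ∉ U) :
    x * y ≠ y * x :=
  (h.pr a ha b hb ha1 hb1 hab).ncomm hy (h.pr b hb a ha hb1 ha1 hab.symm).ab hx
    (fun e => hxU (h.inf hy ha hb ha1 hb1 hab hx e)) hyy
    (fun e => hyU (h.inf hy ha hb ha1 hb1 hab e hyy))

/-- **the configuration of Lemma K7** -/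
theorem kSeven (h : Cf r y0 U XX) : KSeven U XX where
  sq a ha := h.usq ha
  three := h.three
  trans a ha b hb ha1 hb1 := h.trans a ha b hb ha1 hb1
  le := h.le
  xsq a ha ha1 x hx := (h.gb a ha ha1).sq hx
  inf a ha b hb ha1 hb1 hab x hx hx' := h.inf hy ha hb ha1 hb1 hab hx hx'
  conj g hg a ha ha1 x hx := h.conj hy hg ha ha1 hx
  ctrans := by
    intro a ha ha1 x hx w hw hxU hwU
    obtain ⟨b, hb, hb1, hba⟩ := h.other a
    have hbX := h.le a ha ha1 hb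
    have hout : ∀ x, x ∉ U → x ≠ 1 ∧ x ≠ a ∧ x ≠ b ∧ x ≠ b * a := fun x hxo =>
      ⟨fun e => hxo (by rw [e]; exact U.one_mem), fun e => hxo (by rw [e]; exact ha),
        fun e => hxo (by rw [e]; exact hb), fun e => hxo (by rw [e]; exact U.mul_mem hb ha)⟩
    obtain ⟨x1, x2, x3, x4⟩ := hout x hxU
    obtain ⟨w1, w2, w3, w4⟩ := hout w hwU
    obtain ⟨c, hc, hcb, h1⟩ := (h.gb a ha ha1).rot hy hbX hb1 hba hx x1 x2 x3 x4 hw w1 w2 w3 w4
    have hca : c * a = a * c := mem_centralizer_singleton_iff.mp hc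
    have hcb' : c * b = b * c := mul_inv_eq_iff_eq_mul.mp hcb
    refine ⟨c, ?_, ?_⟩
    · intro m hm
      rcases h.cases hy ha hb ha1 hb1 hba.symm hm with e | e | e | e <;> rw [e]
      · simp
      · exact hca
      · exact hcb'
      · rw [← mul_assoc, hcb', mul_assoc, hca, ← mul_assoc]
    · have h2 : ∀ m ∈ U, c * x * c⁻¹ * w = m → ∃ z ∈ U, c * x * c⁻¹ = w * z := by
        intro m hm e
        refine ⟨m, hm, ?_⟩
        have hww := (h.gb a ha ha1).sq hw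
        have h3 := (h.gb a ha ha1).comm (h.le a ha ha1 hm) hw
        rw [← h3, ← e]
        calc c * x * c⁻¹ = c * x * c⁻¹ * (w * w) := by rw [hww, mul_one]
          _ = c * x * c⁻¹ * w * w := by group
      rcases h1 with e | e | e | e
      · exact h2 _ U.one_mem e
      · exact h2 _ ha e
      · exact h2 _ hb e
      · exact h2 _ (U.mul_mem hb ha) e
  big a ha ha1 := h.exists_out ha ha1
  ncomm a ha b hb ha1 hb1 hab x hx y hyy hxU hyU := h.ncomm hy ha hb ha1 hb1 hab hx hyy hxU hyU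
  ind := by
    intro u hu v hv w hw hu1 hv1 hw1 huv huw hvw g hg
    by_cases hgU : g ∈ U
    · refine ⟨1, one_mem _, fun x hx => ?_⟩
      rw [inv_one, one_mul]
      exact (h.gb u hu hu1).comm (h.le u hu hu1 hgU) hx
    obtain ⟨a, ha, b, hb, haU, hbU, habU⟩ := h.exists_out hv hv1
    obtain ⟨x0, hx0, -, -, hx0U, -, -⟩ := h.exists_out hu hu1
    have hgv := h.gb v hv hv1
    have hgw := h.gb w hw hw1
    have hab' : a * b ∈ XX v := mul_mem ha hb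
    -- elements of `XX v`, `XX w` outside `U`
    have key : ∀ c : G, (c ∈ XX v ∨ c ∈ XX w) → c ∉ U → (c ∈ centralizer ({u} : Set G)) ∧
        c * v * c⁻¹ = v ∧ (∀ x ∈ XX u, c * (c * x * c⁻¹) * c⁻¹ = x) ∧ ∃ x ∈ XX u, c * x * c⁻¹ ≠ x := by
      intro c hc hcU
      have hcm : ∀ m ∈ U, c * m = m * c := by
        intro m hm
        rcases hc with hc | hc
        · exact hgv.comm hc (h.le v hv hv1 hm)
        · exact hgw.comm hc (h.le w hw hw1 hm)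
      have hcc : c * c = 1 := by
        rcases hc with hc | hc
        · exact hgv.sq hc
        · exact hgw.sq hc
      refine ⟨mem_centralizer_singleton_iff.mpr (hcm u hu), ?_, ?_, x0, hx0, ?_⟩
      · rw [hcm v hv, mul_inv_cancel_right]
      · intro x _
        rw [inv_eq_self hcc]
        calc c * (c * x * c) * c = (c * c) * x * (c * c) := by group
          _ = x := by rw [hcc, one_mul, mul_one]
      · intro e
        have e1 := mul_inv_eq_iff_eq_mul.mp e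
        rcases hc with hc | hc
        · exact h.ncomm hy hu hv hu1 hv1 huv hx0 hc hx0U hcU e1.symm
        · exact h.ncomm hy hu hw hu1 hw1 huw hx0 hc hx0U hcU e1.symm
    let c : Fin 4 → G := ![g, a, b, a * b]
    have hc : ∀ i, (c i ∈ XX v ∨ c i ∈ XX w) ∧ c i ∉ U := by
      intro i
      fin_cases i
      · exact ⟨Or.inr hg, hgU⟩
      · exact ⟨Or.inl ha, haU⟩
      · exact ⟨Or.inl hb, hbU⟩
      · exact ⟨Or.inl hab', habU⟩
    obtain ⟨i, j, hij, h1⟩ := (h.gb u hu hu1).four hy (h.le u hu hu1 hv) hv1 huv.symm c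
      (fun i => (key _ (hc i).1 (hc i).2).1) (fun i => (key _ (hc i).1 (hc i).2).2.1)
      (fun i => (key _ (hc i).1 (hc i).2).2.2.1) (fun i => (key _ (hc i).1 (hc i).2).2.2.2)
    have h2 : ∀ s t : G, (∀ x ∈ XX u, s * x * s⁻¹ = t * x * t⁻¹) → ∀ x ∈ XX u, (s⁻¹ * t) * x = x * (s⁻¹ * t) := by
      intro s t hst x hx
      have := hst x hx
      calc s⁻¹ * t * x = s⁻¹ * (t * x * t⁻¹) * t := by group
        _ = s⁻¹ * (s * x * s⁻¹) * t := by rw [this]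
        _ = x * (s⁻¹ * t) := by group
    have h3 : ∀ s t : G, (∀ x ∈ XX u, s * x * s⁻¹ = t * x * t⁻¹) → s⁻¹ * t ∈ XX v → s⁻¹ * t ∉ U → False := by
      intro s t hst h4 h5
      exact h.ncomm hy hu hv hu1 hv1 huv hx0 h4 hx0U h5 (h2 s t hst x0 hx0).symm
    have hin : ∀ s ∈ XX v, s⁻¹ = s := fun s hs => inv_eq_self (hgv.sq hs)
    have haa := hgv.sq ha
    have hbb := hgv.sq hb
    have hcom := hgv.comm ha hb
    -- two elements of `XX v` do not agree on `XX u`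
    have h12 : ¬ ∀ x ∈ XX u, a * x * a⁻¹ = b * x * b⁻¹ := by
      intro e
      refine h3 a b e ?_ ?_
      · rw [hin a ha]; exact hab'
      · rw [hin a ha]; exact habU
    have h13 : ¬ ∀ x ∈ XX u, a * x * a⁻¹ = a * b * x * (a * b)⁻¹ := by
      intro e
      refine h3 a (a * b) e ?_ ?_
      · rw [inv_mul_cancel_left]; exact hb
      · rw [inv_mul_cancel_left]; exact hbU
    have h23 : ¬ ∀ x ∈ XX u, b * x * b⁻¹ = a * b * x * (a * b)⁻¹ := by
      intro e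
      refine h3 b (a * b) e ?_ ?_
      · rw [hcom, inv_mul_cancel_left]; exact ha
      · rw [hcom, inv_mul_cancel_left]; exact haU
    have hres : ∀ b' ∈ XX v, (∀ x ∈ XX u, b' * x * b'⁻¹ = g * x * g⁻¹) →
        ∃ b ∈ XX v, ∀ x ∈ XX u, b⁻¹ * g * x = x * (b⁻¹ * g) := fun b' hb' e => ⟨b', hb', h2 b' g e⟩
    fin_cases i <;> fin_cases j
    · exact absurd rfl hij
    · exact hres a ha fun x hx => (h1 x hx).symm
    · exact hres b hb fun x hx => (h1 x hx).symm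
    · exact hres (a * b) hab' fun x hx => (h1 x hx).symm
    · exact hres a ha fun x hx => h1 x hx
    · exact absurd rfl hij
    · exact absurd (fun x hx => h1 x hx) h12
    · exact absurd (fun x hx => h1 x hx) h13
    · exact hres b hb fun x hx => h1 x hx
    · exact absurd (fun x hx => (h1 x hx).symm) h12
    · exact absurd rfl hij
    · exact absurd (fun x hx => h1 x hx) h23
    · exact hres (a * b) hab' fun x hx => h1 x hx
    · exact absurd (fun x hx => (h1 x hx).symm) h13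
    · exact absurd (fun x hx => (h1 x hx).symm) h23
    · exact absurd rfl hij

end Cf

end pairs

end Cfsg.Agent.Omega.FOne.GBlk
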