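import Cfsg.Agent.Omega.FOne.GBlk

/-!
# (F1'): the end, main theorem

* `exists_cf` : a pair of non-commuting blocks gives the configuration of Lemma K7;
* `not_pr` : there is none;
* `not_cr` : **there is no critical pair of flags without (F1)**, from the K-input `Rep.PSin`;
* `fOne` : **(F1)** for `NO3S.Hyp S P`, `|V_P| = 4`.
-/

set_option autoImplicit false
set_option linter.unusedSectionVars false

namespace Cfsg.Agent.Omega.FOne.Main

open Subgroup Cfsg Cfsg.Agent.ZN Cfsg.Agent.MinSimple.Geo Cfsg.Agent.Omega.CaseL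
open Cfsg.Agent.Omega.FOne.Crit (Fl Side)
open Cfsg.Agent.Omega.FOne.Rep Cfsg.Agent.Omega.FOne.GBlk
open Cfsg.Agent.Omega.NO3S.Pt (Col Pth Com Mn Cr conj_mem_cent)
open Cfsg.Agent.ZN.Block (conj_mem_of_normalizer conj_mem_of_normalizer' le_normalizer_of_forall
  mem_normalizer_of)

universe u

variable {G : Type u} [Group G] {W : Type u} [AddCommGroup W] [Module (ZMod 2) W]

section pairs

variable {V : Subgroup G} {z : G} {r : Rp (ws V z) W} {y0 : W} [Finite G] (hy : r.e y0 = z)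
  {p q : G} {X X' : Subgroup G} (h : PR r y0 p q X X') (hab : ∀ a ∈ ws V q, ∀ b ∈ ws V q, a * b = b * a)
include hy h hab

omit [Finite G] hy h hab in
/-- `U = X ∩ X'` -/
theorem cj_eq_of {U : Subgroup G} [Finite G] {g : G} (hg : ∀ x ∈ U, g * x * g⁻¹ ∈ U) : cj g U = U := by
  refine Subgroup.eq_of_le_of_card_ge ?_ ?_
  · rintro _ ⟨v, hv, rfl⟩
    exact hg v hv
  · rw [card_cj]

theorem mem_inf_iff {x : G} : x ∈ X ⊓ X' ↔ x = 1 ∨ x = p ∨ x = q ∨ x = q * p := by
  constructor
  · rintro ⟨h1, h2⟩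
    exact (h.inter hy hab h1).mp h2
  · intro h1
    have hp := h.hu.y_mem hy
    have hq := h.v_mem hy hab
    have h2 : x ∈ X := by
      rcases h1 with e | e | e | e <;> rw [e]
      · exact X.one_mem
      · exact hp
      · exact hq
      · exact X.mul_mem hq hp
    exact ⟨h2, (h.inter hy hab h2).mpr h1⟩

/-- an element centralising `p` and swapping `q` -/
theorem exists_swap1 : ∃ c : G, (∀ x ∈ X ⊓ X', c * x * c⁻¹ ∈ X ⊓ X') ∧ c * p * c⁻¹ = p ∧ c * q * c⁻¹ = q * p := by
  have hp := h.hu.y_mem hy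
  have hq := h.v_mem hy hab
  obtain ⟨c, hc, e⟩ := h.hu.swap hy hq (h.hv.y_ne hy) h.ne.symm
  have e0 : c * p * c⁻¹ = p := by
    rw [mem_centralizer_singleton_iff.mp hc, mul_inv_cancel_right]
  have hpp := h.hu.sq hp
  refine ⟨c, fun x hx => ?_, e0, e⟩
  rw [mem_inf_iff hy h hab] at hx ⊢
  rcases hx with e1 | e1 | e1 | e1 <;> rw [e1]
  · left; group
  · right; left; exact e0
  · right; right; right; exact e
  · right; right; left
    have : c * (q * p) * c⁻¹ = (c * q * c⁻¹) * (c * p * c⁻¹) := by group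
    rw [this, e, e0, mul_assoc, hpp, mul_one]

/-- an element centralising `q` and swapping `p` -/
theorem exists_swap2 : ∃ c : G, (∀ x ∈ X ⊓ X', c * x * c⁻¹ ∈ X ⊓ X') ∧ c * p * c⁻¹ = q * p ∧ c * q * c⁻¹ = q := by
  have hp := h.hu.y_mem hy
  have hq := h.v_mem hy hab
  have hqp := h.hu.comm hq hp
  obtain ⟨c, hc, e⟩ := h.hv.swap hy (h.u_mem hy) (h.hu.y_ne hy) h.ne
  have e0 : c * q * c⁻¹ = q := by
    rw [mem_centralizer_singleton_iff.mp hc, mul_inv_cancel_right]
  rw [← hqp] at e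
  have hqq := h.hu.sq hq
  refine ⟨c, fun x hx => ?_, e, e0⟩
  rw [mem_inf_iff hy h hab] at hx ⊢
  rcases hx with e1 | e1 | e1 | e1 <;> rw [e1]
  · left; group
  · right; right; right; exact e
  · right; right; left; exact e0
  · right; left
    have : c * (q * p) * c⁻¹ = (c * q * c⁻¹) * (c * p * c⁻¹) := by group
    rw [this, e, e0, ← mul_assoc, hqq, one_mul]

/-- `N(U)` is transitive on the pairs of different involutions of `U`. -/
theorem exists_pair {a b : G} (ha : a ∈ X ⊓ X') (hb : b ∈ X ⊓ X') (ha1 : a ≠ 1) (hb1 : b ≠ 1)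
    (hne : a ≠ b) : ∃ g : G, (∀ x ∈ X ⊓ X', g * x * g⁻¹ ∈ X ⊓ X') ∧ g * p * g⁻¹ = a ∧ g * q * g⁻¹ = b := by
  obtain ⟨c, hc, c1, c2⟩ := exists_swap1 hy h hab
  obtain ⟨d, hd, d1, d2⟩ := exists_swap2 hy h hab
  have hp := h.hu.y_mem hy
  have hq := h.v_mem hy hab
  have hqp := h.hu.comm hq hp
  have hpp := h.hu.sq hp
  have hqq := h.hu.sq hq
  let PP : G → G → Prop := fun a b =>
    ∃ g : G, (∀ x ∈ X ⊓ X', g * x * g⁻¹ ∈ X ⊓ X') ∧ g * p * g⁻¹ = a ∧ g * q * g⁻¹ = b
  have step : ∀ k, (∀ x ∈ X ⊓ X', k * x * k⁻¹ ∈ X ⊓ X') → ∀ a b, PP a b → PP (k * a * k⁻¹) (k * b * k⁻¹) := by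
    rintro k hk a b ⟨g, hg, rfl, rfl⟩
    refine ⟨k * g, fun x hx => ?_, by group, by group⟩
    have := hk _ (hg x hx)
    have e : k * (g * x * g⁻¹) * k⁻¹ = k * g * x * (k * g)⁻¹ := by group
    rwa [e] at this
  have s0 : PP p q := ⟨1, fun x hx => by simpa using hx, by group, by group⟩
  have cqp : c * (q * p) * c⁻¹ = q := by
    have : c * (q * p) * c⁻¹ = (c * q * c⁻¹) * (c * p * c⁻¹) := by group
    rw [this, c1, c2, mul_assoc, hpp, mul_one]
  have dqp : d * (q * p) * d⁻¹ = p := by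
    have : d * (q * p) * d⁻¹ = (d * q * d⁻¹) * (d * p * d⁻¹) := by group
    rw [this, d1, d2, ← mul_assoc, hqq, one_mul]
  have s1 : PP p (q * p) := by have := step c hc _ _ s0; rwa [c1, c2] at this
  have s2 : PP (q * p) q := by have := step d hd _ _ s0; rwa [d1, d2] at this
  have s3 : PP q (q * p) := by have := step c hc _ _ s2; rwa [cqp, c2] at this
  have s4 : PP (q * p) p := by have := step d hd _ _ s1; rwa [d1, dqp] at this
  have s5 : PP q p := by have := step d hd _ _ s3; rwa [d2, dqp] at this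
  have ha' := (mem_inf_iff hy h hab).mp ha
  have hb' := (mem_inf_iff hy h hab).mp hb
  rcases ha' with rfl | rfl | rfl | rfl
  · exact absurd rfl ha1
  · rcases hb' with rfl | rfl | rfl | rfl
    · exact absurd rfl hb1
    · exact absurd rfl hne
    · exact s0
    · exact s1
  · rcases hb' with rfl | rfl | rfl | rfl
    · exact absurd rfl hb1
    · exact s5
    · exact absurd rfl hne
    · exact s3
  · rcases hb' with rfl | rfl | rfl | rfl
    · exact absurd rfl hb1
    · exact s4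
    · exact s2
    · exact absurd rfl hne

/-- **the configuration of Lemma K7** -/
theorem exists_cf : ∃ XX : G → Subgroup G, Cf r y0 (X ⊓ X') XX := by
  classical
  have hp := h.hu.y_mem hy
  have hq := h.v_mem hy hab
  have hq1 := h.hv.y_ne hy
  have hp1 := h.hu.y_ne hy
  have hpq := h.ne
  set U : Subgroup G := X ⊓ X' with hU
  have hmem := fun x => mem_inf_iff hy h hab (x := x)
  have hpU : p ∈ U := (hmem p).mpr (Or.inr (Or.inl rfl))
  have hqU : q ∈ U := (hmem q).mpr (Or.inr (Or.inr (Or.inl rfl)))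
  have hoth : ∀ a, ∃ b ∈ U, b ≠ 1 ∧ b ≠ a := by
    intro a
    by_cases e : p = a
    · exact ⟨q, hqU, hq1, fun e' => hpq (e.trans e'.symm)⟩
    · exact ⟨p, hpU, hp1, e⟩
  have huniq : ∀ {a : G} {Y Y' : Subgroup G}, GB r y0 a Y → GB r y0 a Y' → U ≤ Y → U ≤ Y' → Y = Y' := by
    intro a Y Y' hY hY' h1 h2
    obtain ⟨b, hb, hb1, hba⟩ := hoth a
    exact hY.eq hy hY' (h1 hb) (h2 hb) hb1 hba
  let XX : G → Subgroup G := fun a => if h : ∃ Y, GB r y0 a Y ∧ U ≤ Y then h.choose else ⊥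
  have hXX : ∀ {a : G} {Y : Subgroup G}, GB r y0 a Y → U ≤ Y → XX a = Y := by
    intro a Y hY h1
    have hex : ∃ Y, GB r y0 a Y ∧ U ≤ Y := ⟨Y, hY, h1⟩
    have e : XX a = hex.choose := dif_pos hex
    rw [e]
    exact huniq hex.choose_spec.1 hY hex.choose_spec.2 h1
  have hpair : ∀ a ∈ U, ∀ b ∈ U, a ≠ 1 → b ≠ 1 → a ≠ b → PR r y0 a b (XX a) (XX b) ∧ U ≤ XX a := by
    intro a ha b hb ha1 hb1 hne
    obtain ⟨g, hg, rfl, rfl⟩ := exists_pair hy h hab ha hb ha1 hb1 hne
    have h1 := h.conj g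
    have h0 : cj g U = U := cj_eq_of hg
    have h2 : U ≤ cj g X := by
      have := cj_mono (g := g) (inf_le_left : U ≤ X)
      rwa [h0] at this
    have h3 : U ≤ cj g X' := by
      have := cj_mono (g := g) (inf_le_right : U ≤ X')
      rwa [h0] at this
    rw [hXX h1.hu h2, hXX h1.hv h3]
    exact ⟨h1, h2⟩
  refine ⟨XX, ?_, ?_, fun a ha b hb ha1 hb1 hne => (hpair a ha b hb ha1 hb1 hne).1, ?_, ?_⟩
  · intro a ha ha1
    obtain ⟨b, hb, hb1, hba⟩ := hoth a
    exact (hpair a ha b hb ha1 hb1 hba.symm).1.hu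
  · intro a ha ha1
    obtain ⟨b, hb, hb1, hba⟩ := hoth a
    exact (hpair a ha b hb ha1 hb1 hba.symm).2
  · refine ⟨p, q, hpU, hqU, hp1, hq1, hpq, fun w hw hw1 => ?_⟩
    rcases (hmem w).mp hw with e | e | e | e
    · exact absurd e hw1
    · exact Or.inl e
    · exact Or.inr (Or.inl e)
    · right; right; rw [e]; exact h.hu.comm hq hp
  · intro a ha b hb ha1 hb1
    by_cases e : a = b
    · exact ⟨1, fun x hx => by simpa using hx, by rw [e]; group⟩
    · obtain ⟨g, hg, e1, e2⟩ := exists_pair hy h hab ha hb ha1 hb1 e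
      obtain ⟨k, hk, k1, k2⟩ := exists_pair hy h hab hb ha hb1 ha1 (Ne.symm e)
      -- `g` maps `p` to `a`, `k` maps `p` to `b`
      refine ⟨k * g⁻¹, fun x hx => ?_, ?_⟩
      · have h1 : g⁻¹ * x * g ∈ U := by
          have h2 : x ∈ cj g U := by rw [cj_eq_of hg]; exact hx
          exact mem_cj.mp h2
        have := hk _ h1
        have e' : k * (g⁻¹ * x * g) * k⁻¹ = k * g⁻¹ * x * (k * g⁻¹)⁻¹ := by group
        rwa [e'] at this
      · rw [← e1, ← k1]; group

theorem not_pr : False := by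
  obtain ⟨XX, hc⟩ := exists_cf hy h hab
  exact (hc.kSeven hy).false

end pairs

/-! ### the main theorem -/

/-- **No critical pair of flags without (F1).** -/
theorem not_cr [Finite G] (hPS : PSin.{u}) (hK : IsKProper G) {T V : Subgroup G} {z : G} (h : Fl T V z)
    (hC : centralizer ({z} : Set G) ≠ ⊤) {n : ℕ} {x y : G} (hcr : Cr V (n + 1) x y) : False := by
  have hxC : Col V x x := hcr.path.left
  have hyC : Col V y y := hcr.path.right
  have hxa := h.ws_comm hxC
  have hxs := h.ws_sq hxC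
  have hya := h.ws_comm hyC
  have hys := h.ws_sq hyC
  obtain ⟨⟨k, hk, S⟩, ⟨k', hk', S'⟩⟩ := Crit.sides h hcr
  have hCy : ∀ {g y : G}, g * z * g⁻¹ = y → centralizer ({y} : Set G) ≠ ⊤ := by
    rintro g y rfl e
    apply hC
    rw [← cj_centralizer_singleton] at e
    rw [eq_top_iff]
    intro a _
    have : g * a * g⁻¹ ∈ cj g (centralizer ({z} : Set G)) := by rw [e]; exact mem_top _
    rw [mem_cj] at this
    have e' : g⁻¹ * (g * a * g⁻¹) * g = a := by group
    rwa [e'] at this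
  obtain ⟨W, i1, i2, ⟨r⟩⟩ := exists_rp (h.ab) (h.sqz)
  obtain ⟨y0, hy0⟩ := (r.rng z).mp h.z_mem_ws
  have hf : Fl (cj k T) (cj k V) y := by have := h.conj k; rwa [hk] at this
  have hf' : Fl (cj k' T) (cj k' V) x := by have := h.conj k'; rwa [hk'] at this
  -- both sides are exact
  have heq : (centralizer (ws V x : Set G)).relIndex (ws V y) =
      (centralizer (ws V y : Set G)).relIndex (ws V x) := by
    rcases le_total ((centralizer (ws V x : Set G)).relIndex (ws V y))
      ((centralizer (ws V y : Set G)).relIndex (ws V x)) with hle | hle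
    · exact (side_gen hPS hK r hy0 hk (hCy hk) hf hxa hxs S hle).1
    · exact (side_gen hPS hK r hy0 hk' (hCy hk') hf' hya hys S' hle).1.symm
  obtain ⟨-, Ss, hS1, hS2⟩ := side_gen hPS hK r hy0 hk (hCy hk) hf hxa hxs S heq.le
  obtain ⟨-, Ss', hS1', hS2'⟩ := side_gen hPS hK r hy0 hk' (hCy hk') hf' hya hys S' heq.ge
  -- non-commuting blocks
  obtain ⟨X, hX, X', hX', hnc⟩ : ∃ X ∈ Ss, ∃ X' ∈ Ss', ∃ a ∈ X, ∃ b ∈ X', a * b ≠ b * a := by
    by_contra hcon
    push Not at hcon
    have h1 : sSup Ss ≤ centralizer ((sSup Ss' : Subgroup G) : Set G) := by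
      refine sSup_le fun X hX => ?_
      rw [le_centralizer_iff]
      refine sSup_le fun X' hX' => ?_
      intro b hb
      rw [mem_centralizer_iff]
      intro a ha
      exact hcon X hX X' hX' a ha b hb
    have h2 : sSup Ss ≤ ws V y := sSup_le fun X hX => (hS1 X hX).1.le
    have h3 : sSup Ss' ≤ ws V x := sSup_le fun X hX => (hS1' X hX).1.le
    apply hcr.ne
    intro a ha b hb
    obtain ⟨v, hv, hv1⟩ := hS2 b hb
    obtain ⟨v', hv', hv1'⟩ := hS2' a ha
    -- `a * v = v * a`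
    have e1 : v' * v = v * v' := (mem_centralizer_iff.mp (h1 hv) v' hv')
    have e2 : v * (a * v') = a * v' * v := hv1' v (h2 hv)
    have e3 : a * v = v * a := by
      have : a = a * v' * v'⁻¹ := by group
      have e4 : v'⁻¹ * v = v * v'⁻¹ := inv_comm_of e1
      calc a * v = (a * v') * (v'⁻¹ * v) := by group
        _ = (a * v' * v) * v'⁻¹ := by rw [e4]; group
        _ = v * (a * v') * v'⁻¹ := by rw [e2]
        _ = v * a := by group
    have e5 := hv1 a ha
    have e6 : a * v⁻¹ = v⁻¹ * a := comm_inv_of e3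
    calc a * b = (a * (b * v)) * v⁻¹ := by group
      _ = (b * v) * (a * v⁻¹) := by rw [e5]; group
      _ = b * a := by rw [e6]; group
  obtain ⟨hg, hn⟩ := hS1 X hX
  obtain ⟨hg', hn'⟩ := hS1' X' hX'
  have hXle := hg.le
  have hXle' := hg'.le
  have hWxC : ∀ b ∈ ws V x, b * y = y * b := fun b hb => mem_centralizer_singleton_iff.mp (S.le_C hb)
  have hWyC : ∀ b ∈ ws V y, b * x = x * b := fun b hb => mem_centralizer_singleton_iff.mp (S'.le_C hb)
  exact not_pr hy0 (p := y) (q := x)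
    { hu := hg
      hv := hg'
      ab := hya
      cX' := fun b hb => hWxC b (hXle' hb)
      cX := fun a ha => hWyC a (hXle ha)
      nX := fun b hb a ha => hn b (hXle' hb) a ha
      nX' := fun a ha b hb => hn' a (hXle ha) b hb
      nc := hnc } hxa

/-- **(F1)**, `|V_P| = 4`, from the K-input (PS'). -/
theorem fOne (hPS : PSin.{u}) [Finite G] {S : Sylow 2 G} {P : Subgroup G} (h : NO3S.Hyp S P)
    (hc : Nat.card (zl (S : Subgroup G) P) = 4) {z : G} (hz : z ∈ zc (S : Subgroup G)) (hz1 : z ≠ 1) :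
    ∃ k ∈ kq (zl (S : Subgroup G) P) z, k ∉ centralizer (zl (S : Subgroup G) P : Set G) := by
  by_contra hcon
  push Not at hcon
  have hf := Fl.of_hyp h hc hz hz1 hcon
  obtain ⟨n, x, y, hcr⟩ := Crit.exists_cr hf (Crit.nonLoc_of_hyp h hc hz hz1)
  refine not_cr hPS h.ctx.kproper hf ?_ hcr
  intro e
  have hs := h.ctx.simple
  have h1 : z ∈ center G := by
    rw [mem_center_iff]
    intro g
    have : g ∈ centralizer ({z} : Set G) := by rw [e]; exact mem_top g
    exact mem_centralizer_singleton_iff.mp this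
  rcases hs.eq_bot_or_eq_top_of_normal (center G) inferInstance with h2 | h2
  · rw [h2, mem_bot] at h1
    exact hz1 h1
  · apply h.ctx.nonComm
    refine ⟨⟨fun a b => ?_⟩⟩
    have : a ∈ center G := by rw [h2]; exact mem_top a
    exact (mem_center_iff.mp this b).symm

end Cfsg.Agent.Omega.FOne.Main
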