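import Cfsg.Agent.Omega.FOne.Main
import Cfsg.Agent.Omega.NO3S.TwoOne.Main

/-!
# (F1) for the leaf `TwoOne`: helper391's Prop `FOneP` from the K-input (PS')
-/

set_option autoImplicit false

namespace Cfsg.Agent.Omega.FOne.Plug

open Cfsg Cfsg.Agent.Omega.Frame

universe u

/-- **(F1)**, in the form used by `TwoOne` / `TwoFar` / `TwoMid`. -/
theorem fOneP (K : Cls.{u}) (hPS : Rep.PSin.{u}) : NO3S.TwoOne.FOneP K :=
  fun _ _ _ _ _ _ h hc _ hz hz1 => Or.inl (Main.fOne hPS h hc hz hz1)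

end Cfsg.Agent.Omega.FOne.Plug
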