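import Cfsg.Agent.Omega.FOne.Crit
import Cfsg.Agent.Omega.FOne.TvwGen
import Cfsg.Agent.OddHalf.Known

/-!
# (F1'): transfer from the flag `(z, V)` to the module `W_z` (with helper299)

* `Rp E W` : the elementary abelian group `E ≤ G` written as an `𝔽₂`-space `W` (`exists_rp`);
* `Rp.rho` : the action of `C ≤ N_G(E)` on `W`, `Rp.im r D` : the image of `D`; `card_im` : its order is
  `|D : C_D(E)|`;
* `PSin` : **the K-input (PS')** of bb OMEGA #15003 about modules;
* `base` : `Base H y` for `H` = the image of `C_G(z)`, `y` = the vector of `z`;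
* `side_out` : `PSin` for one side of a critical pair.
-/

set_option autoImplicit false
set_option linter.unusedSectionVars false

namespace Cfsg.Agent.Omega.FOne.Rep

open Subgroup Cfsg Cfsg.Agent.ZN Cfsg.Agent.MinSimple.Geo Cfsg.Agent.Omega.CaseL
open Cfsg.Agent.Omega.FOne.Crit (Fl Side)
open Cfsg.Agent.Omega.FOne.Tvw (Base Blk IsTv z2 addself)
open Cfsg.Agent.Omega.NO3S.Pt (Col Pth Com Mn Cr conj_mem_cent)
open Cfsg.Agent.ZN.Block (conj_mem_of_normalizer conj_mem_of_normalizer' le_normalizer_of_forall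
  mem_normalizer_of)

universe u

variable {G : Type u} [Group G]

/-- `E` written additively, as an `𝔽₂`-space -/
structure Rp (E : Subgroup G) (W : Type u) [AddCommGroup W] [Module (ZMod 2) W] where
  e : W → G
  add : ∀ a b, e (a + b) = e a * e b
  inj : Function.Injective e
  rng : ∀ g, g ∈ E ↔ ∃ w, e w = g

theorem exists_rp {E : Subgroup G} (hab : ∀ a ∈ E, ∀ b ∈ E, a * b = b * a) (hsq : ∀ a ∈ E, a * a = 1) :
    ∃ (W : Type u) (_ : AddCommGroup W) (_ : Module (ZMod 2) W), Nonempty (Rp E W) := by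
  let _ : CommGroup E :=
    { (inferInstance : Group E) with mul_comm := fun a b => Subtype.ext (hab a a.2 b b.2) }
  have h2 : ∀ x : Additive E, 2 • x = 0 := by
    intro x
    rw [two_nsmul]
    exact congrArg Additive.ofMul (Subtype.ext (hsq _ (Additive.toMul x).2) :
      (Additive.toMul x) * (Additive.toMul x) = 1)
  let _ : Module (ZMod 2) (Additive E) := AddCommGroup.zmodModule h2
  refine ⟨Additive E, inferInstance, inferInstance, ⟨?_⟩⟩
  exact
    { e := fun w => ((Additive.toMul w : E) : G)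
      add := fun _ _ => rfl
      inj := fun a b h => Additive.toMul.injective (Subtype.ext h)
      rng := fun g => ⟨fun h => ⟨Additive.ofMul ⟨g, h⟩, rfl⟩, by rintro ⟨w, rfl⟩; exact (Additive.toMul w).2⟩ }

namespace Rp

variable {E : Subgroup G} {W : Type u} [AddCommGroup W] [Module (ZMod 2) W] (r : Rp E W)

theorem mem (w : W) : r.e w ∈ E := (r.rng _).mpr ⟨w, rfl⟩

theorem zero : r.e 0 = 1 := by
  have := r.add 0 0
  rw [add_zero] at this
  exact left_eq_mul.mp this

theorem eq_one {w : W} : r.e w = 1 ↔ w = 0 := by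
  constructor
  · intro h; exact r.inj (by rw [h, r.zero])
  · rintro rfl; exact r.zero

theorem sq (w : W) : r.e w * r.e w = 1 := by rw [← r.add, addself, r.zero]

theorem inv (w : W) : (r.e w)⁻¹ = r.e w := inv_eq_of_mul_eq_one_left (r.sq w)

include r in
theorem finite [Finite G] : Finite W := Finite.of_injective r.e r.inj

include r in
theorem card : Nat.card W = Nat.card E := by
  refine Nat.card_eq_of_bijective (fun w => (⟨r.e w, r.mem w⟩ : E)) ⟨?_, ?_⟩
  · intro a b h
    exact r.inj (congrArg Subtype.val h)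
  · rintro ⟨g, hg⟩
    obtain ⟨w, rfl⟩ := (r.rng g).mp hg
    exact ⟨w, rfl⟩

/-- the vector of an element of `E` -/
noncomputable def pre (g : G) (hg : g ∈ E) : W := ((r.rng g).mp hg).choose

theorem e_pre {g : G} (hg : g ∈ E) : r.e (r.pre g hg) = g := ((r.rng g).mp hg).choose_spec

theorem conj_mem {g : G} (hg : g ∈ normalizer (E : Set G)) (w : W) : g * r.e w * g⁻¹ ∈ E :=
  (mem_normalizer_iff.mp hg _).mp (r.mem w)

/-- the action of `g ∈ N_G(E)` -/
noncomputable def act {g : G} (hg : g ∈ normalizer (E : Set G)) (w : W) : W :=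
  r.pre (g * r.e w * g⁻¹) (r.conj_mem hg w)

theorem e_act {g : G} (hg : g ∈ normalizer (E : Set G)) (w : W) : r.e (r.act hg w) = g * r.e w * g⁻¹ :=
  r.e_pre _

/-- the linear map of `g ∈ N_G(E)` -/
noncomputable def lin {g : G} (hg : g ∈ normalizer (E : Set G)) : W ≃ₗ[ZMod 2] W where
  toFun := r.act hg
  map_add' a b := by
    apply r.inj
    rw [r.add, r.e_act, r.e_act, r.e_act, r.add]
    group
  map_smul' c w := by
    rcases z2 c with rfl | rfl
    · rw [zero_smul, RingHom.id_apply, zero_smul]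
      apply r.inj
      rw [r.e_act, r.zero]; group
    · rw [one_smul, RingHom.id_apply, one_smul]
  invFun := r.act (inv_mem hg)
  left_inv w := by
    apply r.inj
    rw [r.e_act, r.e_act]; group
  right_inv w := by
    apply r.inj
    rw [r.e_act, r.e_act]; group

theorem e_lin {g : G} (hg : g ∈ normalizer (E : Set G)) (w : W) : r.e (r.lin hg w) = g * r.e w * g⁻¹ :=
  r.e_act hg w

/-- the action of `C ≤ N_G(E)` -/
noncomputable def rho (C : Subgroup G) (hC : C ≤ normalizer (E : Set G)) : C →* (W ≃ₗ[ZMod 2] W) where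
  toFun c := r.lin (hC c.2)
  map_one' := by
    ext w
    apply r.inj
    rw [r.e_lin]
    simp
  map_mul' a b := by
    ext w
    apply r.inj
    change r.e (r.lin (hC (a * b).2) w) = r.e (r.lin (hC a.2) (r.lin (hC b.2) w))
    rw [r.e_lin, r.e_lin, r.e_lin]
    push_cast
    group

variable {C : Subgroup G} (hC : C ≤ normalizer (E : Set G))

theorem e_rho (c : C) (w : W) : r.e (r.rho C hC c w) = c * r.e w * (c : G)⁻¹ := r.e_lin _ w

theorem rho_eq_one_iff (c : C) : r.rho C hC c = 1 ↔ (c : G) ∈ centralizer (E : Set G) := by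
  rw [mem_centralizer_iff]
  constructor
  · intro h g hg
    obtain ⟨w, rfl⟩ := (r.rng g).mp hg
    have h1 := r.e_rho hC c w
    rw [h] at h1
    change r.e w = _ at h1
    rw [eq_mul_inv_iff_mul_eq] at h1
    exact h1
  · intro h
    ext w
    apply r.inj
    rw [r.e_rho]
    change _ = r.e w
    rw [← h _ (r.mem w), mul_inv_cancel_right]

theorem ker_rho : (r.rho C hC).ker = (centralizer (E : Set G)).subgroupOf C := by
  ext c
  rw [MonoidHom.mem_ker, r.rho_eq_one_iff hC, mem_subgroupOf]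

/-- the image of `D ∩ C` -/
noncomputable def im (D : Subgroup G) : Subgroup (W ≃ₗ[ZMod 2] W) := (D.subgroupOf C).map (r.rho C hC)

theorem mem_im {D : Subgroup G} (hD : D ≤ C) {φ : W ≃ₗ[ZMod 2] W} :
    φ ∈ r.im hC D ↔ ∃ g ∈ D, ∀ w, r.e (φ w) = g * r.e w * g⁻¹ := by
  constructor
  · rintro ⟨c, hc, rfl⟩
    exact ⟨c, mem_subgroupOf.mp hc, fun w => r.e_rho hC c w⟩
  · rintro ⟨g, hg, h⟩
    refine ⟨⟨g, hD hg⟩, mem_subgroupOf.mpr hg, ?_⟩
    ext w
    apply r.inj
    rw [h w, r.e_rho]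

theorem im_mono {D D' : Subgroup G} (h : D ≤ D') : r.im hC D ≤ r.im hC D' :=
  map_mono fun _ hx => mem_subgroupOf.mpr (h (mem_subgroupOf.mp hx))

theorem im_self : r.im hC C = (r.rho C hC).range := by
  rw [im, subgroupOf_self, MonoidHom.range_eq_map]

theorem card_im {D : Subgroup G} (hD : D ≤ C) :
    Nat.card (r.im hC D) = (centralizer (E : Set G)).relIndex D := by
  rw [im, ← relIndex_ker, r.ker_rho, relIndex_subgroupOf hD]

theorem exists_im {D : Subgroup G} (hD : D ≤ C) {g : G} (hg : g ∈ D) :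
    ∃ φ ∈ r.im hC D, ∀ w, r.e (φ w) = g * r.e w * g⁻¹ :=
  ⟨r.rho C hC ⟨g, hD hg⟩, ⟨_, mem_subgroupOf.mpr hg, rfl⟩, fun w => r.e_rho hC _ w⟩

theorem isPGroup_im {D : Subgroup G} (hp : IsPGroup 2 D) : IsPGroup 2 (r.im hC D) :=
  (hp.comap_of_injective _ (subtype_injective C)).map _

/-- the subgroup of `G` of a submodule -/
def sub (B : Submodule (ZMod 2) W) : Subgroup G where
  carrier := {g | ∃ w ∈ B, r.e w = g}
  one_mem' := ⟨0, B.zero_mem, r.zero⟩
  mul_mem' := by
    rintro _ _ ⟨a, ha, rfl⟩ ⟨b, hb, rfl⟩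
    exact ⟨a + b, B.add_mem ha hb, r.add a b⟩
  inv_mem' := by
    rintro _ ⟨a, ha, rfl⟩
    exact ⟨a, ha, (r.inv a).symm⟩

theorem mem_sub {B : Submodule (ZMod 2) W} {g : G} : g ∈ r.sub B ↔ ∃ w ∈ B, r.e w = g := Iff.rfl

theorem e_mem_sub {B : Submodule (ZMod 2) W} {w : W} : r.e w ∈ r.sub B ↔ w ∈ B := by
  constructor
  · rintro ⟨v, hv, e⟩
    rwa [← r.inj e]
  · intro h; exact ⟨w, h, rfl⟩

theorem sub_le (B : Submodule (ZMod 2) W) : r.sub B ≤ E := by
  rintro _ ⟨w, -, rfl⟩
  exact r.mem w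

theorem sub_mono {B B' : Submodule (ZMod 2) W} (h : B ≤ B') : r.sub B ≤ r.sub B' := by
  rintro _ ⟨w, hw, rfl⟩
  exact ⟨w, h hw, rfl⟩

theorem card_sub (B : Submodule (ZMod 2) W) : Nat.card (r.sub B) = Nat.card B := by
  symm
  refine Nat.card_eq_of_bijective (fun w : B => (⟨r.e w, r.e_mem_sub.mpr w.2⟩ : r.sub B)) ⟨?_, ?_⟩
  · intro a b h
    exact Subtype.ext (r.inj (congrArg Subtype.val h))
  · rintro ⟨_, w, hw, rfl⟩
    exact ⟨⟨w, hw⟩, rfl⟩

/-- the submodule of a subgroup -/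
def mod (D : Subgroup G) : Submodule (ZMod 2) W where
  carrier := {w | r.e w ∈ D}
  zero_mem' := by
    change r.e 0 ∈ D
    rw [r.zero]; exact D.one_mem
  add_mem' := by
    intro a b ha hb
    change r.e (a + b) ∈ D
    rw [r.add]; exact D.mul_mem ha hb
  smul_mem' := by
    intro c w hw
    change r.e (c • w) ∈ D
    rcases z2 c with rfl | rfl
    · rw [zero_smul, r.zero]; exact D.one_mem
    · rw [one_smul]; exact hw

theorem mem_mod {D : Subgroup G} {w : W} : w ∈ r.mod D ↔ r.e w ∈ D := Iff.rfl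

theorem sub_mod {D : Subgroup G} (hD : D ≤ E) : r.sub (r.mod D) = D := by
  ext g
  constructor
  · rintro ⟨w, hw, rfl⟩; exact hw
  · intro hg
    obtain ⟨w, rfl⟩ := (r.rng g).mp (hD hg)
    exact ⟨w, hg, rfl⟩

theorem card_mod {D : Subgroup G} (hD : D ≤ E) : Nat.card (r.mod D) = Nat.card D := by
  rw [← r.card_sub, r.sub_mod hD]

/-- conjugation of `sub B` by an element of `C` -/
theorem cj_sub {g : G} {φ : W ≃ₗ[ZMod 2] W} (h : ∀ w, r.e (φ w) = g * r.e w * g⁻¹)
    (B : Submodule (ZMod 2) W) : cj g (r.sub B) = r.sub (B.map (φ : W →ₗ[ZMod 2] W)) := by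
  ext x
  rw [mem_cj]
  constructor
  · rintro ⟨w, hw, e⟩
    refine ⟨φ w, ⟨w, hw, rfl⟩, ?_⟩
    rw [h w, e]; group
  · rintro ⟨_, ⟨w, hw, rfl⟩, rfl⟩
    refine ⟨w, hw, ?_⟩
    change r.e w = g⁻¹ * r.e (φ w) * g
    rw [h w]; group

end Rp

/-! ### the module of a flag -/

/-- non-abelian simple sections of the image of a proper subgroup are known -/
theorem known_range {G : Type u} [Group G] (hK : IsKProper G) {C : Subgroup G} (hC : C ≠ ⊤) {Y : Type u}
    [Group Y] (f : C →* Y) : IsKGroupWith IsKnownSimple' f.range := by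
  intro L N _ hs hna
  let g : ↥(L.comap f.rangeRestrict) →* L ⧸ N :=
    (QuotientGroup.mk' N).comp (f.rangeRestrict.subgroupComap L)
  have hg : Function.Surjective g := by
    refine (QuotientGroup.mk'_surjective N).comp ?_
    rintro ⟨y, hy⟩
    obtain ⟨x, rfl⟩ := f.rangeRestrict_surjective y
    exact ⟨⟨x, hy⟩, rfl⟩
  let e : ↥(L.comap f.rangeRestrict) ⧸ g.ker ≃* L ⧸ N := QuotientGroup.quotientKerEquivOfSurjective g hg
  have hs' := OddHalf.Known.isSimple_congr e.symm hs
  have hna' : ¬ IsMulCommutative (↥(L.comap f.rangeRestrict) ⧸ g.ker) := by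
    intro h
    apply hna
    refine ⟨⟨fun a b => ?_⟩⟩
    apply e.symm.injective
    rw [map_mul, map_mul]
    exact h.is_comm.comm _ _
  exact OddHalf.Known.isKnownSimple'_congr e hna' (hK C hC _ g.ker hs' hna')

variable {T V : Subgroup G} {z : G} {W : Type u} [AddCommGroup W] [Module (ZMod 2) W]

/-- the image `H` of `C_G(z)` -/
noncomputable abbrev HH (r : Rp (ws V z) W) : Subgroup (W ≃ₗ[ZMod 2] W) :=
  (r.rho (centralizer ({z} : Set G)) (centralizer_le_normalizer_ws V z)).range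

/-- the image of `D ≤ C_G(z)` -/
noncomputable abbrev imz (r : Rp (ws V z) W) (D : Subgroup G) : Subgroup (W ≃ₗ[ZMod 2] W) :=
  r.im (centralizer_le_normalizer_ws V z) D

theorem imz_self (r : Rp (ws V z) W) : imz r (centralizer ({z} : Set G)) = HH r := r.im_self _

theorem mem_HH (r : Rp (ws V z) W) {φ : W ≃ₗ[ZMod 2] W} :
    φ ∈ HH r ↔ ∃ g ∈ centralizer ({z} : Set G), ∀ w, r.e (φ w) = g * r.e w * g⁻¹ := by
  rw [← imz_self, r.mem_im _ le_rfl]

theorem imz_le (r : Rp (ws V z) W) (D : Subgroup G) : imz r D ≤ HH r := by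
  rintro _ ⟨c, -, rfl⟩
  exact ⟨c, rfl⟩

/-- **`Base H y`** -/
theorem base [Finite G] (h : Fl T V z) (r : Rp (ws V z) W) {y : W} (hy : r.e y = z) : Base (HH r) y where
  y0 := by
    rintro rfl
    rw [r.zero] at hy
    exact h.ln.z_ne hy.symm
  fix := by
    intro φ hφ
    obtain ⟨g, hg, e⟩ := (mem_HH r).mp hφ
    apply r.inj
    rw [e, hy, h.ln.z_comm hg, mul_inv_cancel_right]
  faith := by
    intro φ hφ h1
    obtain ⟨g, hg, e⟩ := (mem_HH r).mp hφ
    have h2 : g ∈ centralizer (ws V z : Set G) := by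
      refine h.faith hg fun w hw => ?_
      obtain ⟨w, rfl⟩ := (r.rng w).mp hw
      rw [← e w, r.inv]
      rcases h1 w with e1 | e1
      · rw [e1, r.sq]; exact one_mem _
      · rw [e1, r.add, hy]
        have : r.e w * z * r.e w = z * (r.e w * r.e w) := by
          rw [← mul_assoc, h.ab _ (r.mem w) _ h.z_mem_ws]
        rw [this, r.sq, mul_one]
        exact mem_zpowers z
    ext w
    apply r.inj
    rw [e w]
    change _ = r.e w
    rw [← mem_centralizer_iff.mp h2 _ (r.mem w), mul_inv_cancel_right]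
  core := by
    intro N hN hn hp
    have hC := centralizer_le_normalizer_ws V z
    set C := centralizer ({z} : Set G) with hCd
    let ρ := r.rho C hC
    let M' : Subgroup C := N.comap ρ
    let M : Subgroup G := M'.map C.subtype
    have hM : M ≤ C := map_subtype_le _
    have hmem : ∀ c : C, (c : G) ∈ M ↔ ρ c ∈ N := by
      intro c
      constructor
      · rintro ⟨d, hd, e⟩
        have : d = c := Subtype.ext e
        rw [← this]; exact hd
      · intro hc; exact ⟨c, hc, rfl⟩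
    have hnorm : C ≤ normalizer (M : Set G) := by
      refine le_normalizer_of_forall fun c hc m hm => ?_
      have h1 := (hmem ⟨m, hM hm⟩).mp hm
      have h2 : ρ (⟨c, hc⟩ * ⟨m, hM hm⟩ * ⟨c, hc⟩⁻¹) ∈ N := by
        rw [map_mul, map_mul, map_inv]
        exact hn _ ⟨_, rfl⟩ _ h1
      exact (hmem _).mpr h2
    have hMs : M.subgroupOf C = M' := by
      ext c
      rw [mem_subgroupOf, hmem]
      rfl
    have himN : (M.subgroupOf C).map ρ = N := by
      rw [hMs]
      exact map_comap_eq_self hN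
    have hNf : Finite N := by
      have : Finite W := r.finite
      have : Finite (W ≃ₗ[ZMod 2] W) := DFunLike.finite _
      exact inferInstance
    obtain ⟨k, hk⟩ := (IsPGroup.iff_card (p := 2)).mp hp
    have h3 : (centralizer (ws V z : Set G)).relIndex M = 2 ^ k := by
      rw [← r.card_im hC hM, ← hk]
      change Nat.card ((M.subgroupOf C).map ρ) = _
      rw [himN]
    have h4 := h.red hM hnorm h3
    rw [eq_bot_iff]
    intro φ hφ
    obtain ⟨c, rfl⟩ := hN hφ
    rw [mem_bot]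
    exact (r.rho_eq_one_iff hC c).mpr (h4 ((hmem c).mpr hφ))

/-! ### the K-input -/

/-- **The K-input (PS')** (bb OMEGA #15003, helper299): `H` acts on the `𝔽₂`-space `W`, fixes `y`, is faithful on
`W / y`, `O₂(H) = 1`; `T` is a Sylow 2-subgroup with `C_W(T) = {0, y}`, `L` of order 4 contains `y`, is
`T`-invariant, its elements outside `y` are swapped by `T`, and its conjugates generate `W`; `A` is a quadratic
elementary abelian subgroup of `O₂(C_H(L))` with `|W : C_W(A)| ≤ |A|`.  Then equality holds, and `A` is generated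
by transvections of `W / y` whose centres have swapped lifts.  `H` is a K-group. -/
def PSin : Prop :=
  ∀ (W : Type u) [AddCommGroup W] [Module (ZMod 2) W] [Finite W] (H : Subgroup (W ≃ₗ[ZMod 2] W)) (y : W)
    (T A N : Subgroup (W ≃ₗ[ZMod 2] W)) (L : Submodule (ZMod 2) W),
    IsKGroupWith IsKnownSimple' H → Base H y →
    T ≤ H → IsPGroup 2 T → ¬ 2 ∣ T.relIndex H → (∀ w, (∀ t ∈ T, t w = w) → w = 0 ∨ w = y) →
    Nat.card L = 4 → y ∈ L → (∀ t ∈ T, ∀ v ∈ L, t v ∈ L) →
    (∀ v ∈ L, v ≠ 0 → v ≠ y → ∃ t ∈ T, t v = v + y) →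
    (∀ U : Submodule (ZMod 2) W, (∀ h ∈ H, ∀ v ∈ L, h v ∈ U) → U = ⊤) →
    N ≤ H → IsPGroup 2 N → (∀ n ∈ N, ∀ v ∈ L, n v = v) →
    (∀ h ∈ H, (∀ v ∈ L, h v ∈ L) → ∀ n ∈ N, h * n * h⁻¹ ∈ N) →
    A ≤ N → A ≠ ⊥ → (∀ a ∈ A, a * a = 1) → (∀ a ∈ A, ∀ b ∈ A, a * b = b * a) →
    (∀ a ∈ A, ∀ b ∈ A, ∀ w, b (a w + w) = a w + w) →
    Nat.card W ≤ Nat.card A * Nat.card {w : W // ∀ a ∈ A, a w = w} →
    Nat.card W = Nat.card A * Nat.card {w : W // ∀ a ∈ A, a w = w} ∧
      A ≤ Subgroup.closure {g | g ∈ A ∧ IsTv H y g}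

section out

variable [Finite G] (h : Fl T V z) (r : Rp (ws V z) W) {y : W} (hy : r.e y = z)
include h

omit [Finite G] in
theorem cent_V_le : centralizer (V : Set G) ≤ centralizer ({z} : Set G) := by
  intro c hc
  rw [mem_centralizer_singleton_iff]
  exact (mem_centralizer_iff.mp hc z h.ln.z_mem).symm

omit h [Finite G] in
theorem not_dvd_im {D : Subgroup G} (hD : ¬ 2 ∣ D.relIndex (centralizer ({z} : Set G))) :
    ¬ 2 ∣ (imz r D).relIndex (HH r) := by
  have h1 : (imz r D).relIndex (HH r) ∣ D.relIndex (centralizer ({z} : Set G)) := by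
    rw [HH, MonoidHom.range_eq_map, imz, Rp.im, relIndex_map_map, top_sup_eq, relIndex_top_right]
    exact index_dvd_of_le le_sup_left
  exact fun h2 => hD (h2.trans h1)

omit [Finite G] in
theorem e_eq_z_iff {w : W} (hy : r.e y = z) : r.e w = z ↔ w = y :=
  ⟨fun e => r.inj (e.trans hy.symm), fun e => by rw [e]; exact hy⟩

theorem fix_im (hy : r.e y = z) {w : W} (hw : ∀ t ∈ imz r T, t w = w) : w = 0 ∨ w = y := by
  rcases h.fix (r.mem w) (fun t ht => by
    obtain ⟨φ, hφ, e⟩ := r.exists_im (centralizer_le_normalizer_ws V z) h.ln.T_le ht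
    have := e w
    rw [hw φ hφ, eq_mul_inv_iff_mul_eq] at this
    exact this.symm) with e | e
  · left; exact r.eq_one.mp e
  · right; exact (e_eq_z_iff h r hy).mp e

theorem swap_im (hy : r.e y = z) {v : W} (hv : r.e v ∈ V) (v0 : v ≠ 0) (vy : v ≠ y) :
    ∃ t ∈ imz r T, t v = v + y := by
  by_contra hcon
  push Not at hcon
  have : ∀ t ∈ imz r T, t v = v := by
    intro φ hφ
    obtain ⟨t, ht, e⟩ := (r.mem_im _ h.ln.T_le).mp hφ
    rcases h.ln.conj_cases h.ln.z_mem hv h.ln.z_ne (h.ln.z_comm (h.ln.T_le ht)) (h.ln.T_norm ht) with e1 | e1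
    · apply r.inj; rw [e, e1]
    · exfalso
      apply hcon φ hφ
      apply r.inj
      rw [e, e1, r.add, hy, h.ln.comm h.ln.z_mem hv]
  rcases fix_im h r hy this with e | e
  · exact v0 e
  · exact vy e

theorem mem_normalizer_V {g : G} (hg : ∀ v ∈ V, g * v * g⁻¹ ∈ V) : g ∈ normalizer (V : Set G) := by
  rw [mem_normalizer_iff_cj]
  refine Subgroup.eq_of_le_of_card_ge ?_ ?_
  · rintro _ ⟨v, hv, rfl⟩
    exact hg v hv
  · rw [card_cj]

theorem side_out (hPS : PSin.{u}) (hK : IsKProper G) (hC : centralizer ({z} : Set G) ≠ ⊤) {x : G}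
    (hxa : ∀ a ∈ ws V x, ∀ b ∈ ws V x, a * b = b * a) (hxs : ∀ a ∈ ws V x, a * a = 1)
    (S : Side V x z T V) (hy : r.e y = z)
    (hge : (centralizer (ws V x : Set G)).relIndex (ws V z) ≤
      (centralizer (ws V z : Set G)).relIndex (ws V x)) :
    (centralizer (ws V x : Set G)).relIndex (ws V z) = (centralizer (ws V z : Set G)).relIndex (ws V x) ∧
      imz r (ws V x) ≤ Subgroup.closure {g | g ∈ imz r (ws V x) ∧ IsTv (HH r) y g} := by
  classical
  have hfW : Finite W := r.finite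
  have hCn := centralizer_le_normalizer_ws V z
  have hVW := h.ln.V_le_ws
  have hcV := cent_V_le h
  have ho2 : o2 (centralizer (V : Set G)) ≤ centralizer ({z} : Set G) := (o2_le _).trans hcV
  have hxC : ws V x ≤ centralizer ({z} : Set G) := S.le_C
  set A := imz r (ws V x) with hA
  have hcardA : Nat.card A = (centralizer (ws V z : Set G)).relIndex (ws V x) := r.card_im hCn hxC
  set α := (centralizer (ws V z : Set G)).relIndex (ws V x) with hα
  set α' := (centralizer (ws V x : Set G)).relIndex (ws V z) with hα'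
  -- the fixed points
  have hK0 : Nat.card (centralizer (ws V x : Set G) ⊓ ws V z : Subgroup G) * α' = Nat.card W := by
    rw [r.card, hα', ← inf_relIndex_right]
    have := relIndex_bot_left (centralizer (ws V x : Set G) ⊓ ws V z)
    rw [← this, relIndex_mul_relIndex ⊥ _ _ bot_le inf_le_right, relIndex_bot_left]
  have hK1 : Nat.card (centralizer (ws V x : Set G) ⊓ ws V z : Subgroup G) ≤
      Nat.card {w : W // ∀ a ∈ A, a w = w} := by
    refine Nat.card_le_card_of_injective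
      (fun k => ⟨r.pre k.1 k.2.2, fun a ha => ?_⟩) ?_
    · obtain ⟨g, hg, e⟩ := (r.mem_im hCn hxC).mp ha
      apply r.inj
      rw [e, r.e_pre k.2.2, mem_centralizer_iff.mp k.2.1 g hg, mul_inv_cancel_right]
    · intro k k' e
      have e1 := congrArg (fun t => r.e (Subtype.val t)) e
      simp only [r.e_pre] at e1
      exact Subtype.ext e1
  have hmain := hPS W (HH r) y (imz r T) A (imz r (o2 (centralizer (V : Set G)))) (r.mod V)
    (known_range hK hC _) (base h r hy) (imz_le r T) (r.isPGroup_im _ h.ln.two) (not_dvd_im r h.ln.T_syl)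
    (fun w hw => fix_im h r hy hw) (by rw [r.card_mod hVW]; exact h.ln.card_V)
    (by rw [r.mem_mod, hy]; exact h.ln.z_mem) ?_ (fun v hv v0 vy => swap_im h r hy hv v0 vy) ?_
    (imz_le r _) (r.isPGroup_im _ (isPGroup_o2 _)) ?_ ?_ (r.im_mono hCn S.le_o2) ?_ ?_ ?_ ?_ ?_
  · obtain ⟨h1, h2⟩ := hmain
    refine ⟨le_antisymm hge ?_, h2⟩
    rw [← hK0, hcardA] at h1
    have hpos : 0 < Nat.card (centralizer (ws V x : Set G) ⊓ ws V z : Subgroup G) := Nat.card_pos
    have h3 : α * Nat.card (centralizer (ws V x : Set G) ⊓ ws V z : Subgroup G) ≤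
        Nat.card (centralizer (ws V x : Set G) ⊓ ws V z : Subgroup G) * α' := by
      rw [h1]; exact Nat.mul_le_mul_left _ hK1
    rw [mul_comm] at h3
    exact Nat.le_of_mul_le_mul_left h3 hpos
  · -- `T` normalises `L`
    intro φ hφ v hv
    obtain ⟨t, ht, e⟩ := (r.mem_im hCn h.ln.T_le).mp hφ
    rw [r.mem_mod, e]
    exact (mem_normalizer_iff.mp (h.ln.T_norm ht) _).mp hv
  · -- generation
    intro U hU
    have h1 : ws V z ≤ r.sub U := by
      refine ws_le fun L' hL' => ?_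
      obtain ⟨c, hc, rfl⟩ := h.ln.exists_of_mem_lines hL'
      obtain ⟨φ, hφ, e⟩ := r.exists_im hCn le_rfl hc
      rintro _ ⟨v, hv, rfl⟩
      obtain ⟨w, rfl⟩ := (r.rng v).mp (hVW hv)
      refine ⟨φ w, hU φ ?_ w hv, e w⟩
      rw [← imz_self]; exact hφ
    rw [eq_top_iff]
    intro w _
    exact r.e_mem_sub.mp (h1 (r.mem w))
  · intro φ hφ v hv
    obtain ⟨n, hn, e⟩ := (r.mem_im hCn ho2).mp hφ
    apply r.inj
    rw [e, ← mem_centralizer_iff.mp (o2_le _ hn) _ hv, mul_inv_cancel_right]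
  · intro φ hφ hL ν hν
    obtain ⟨g, hg, e⟩ := (mem_HH r).mp hφ
    obtain ⟨n, hn, e'⟩ := (r.mem_im hCn ho2).mp hν
    have hgV : g ∈ normalizer (V : Set G) := by
      refine mem_normalizer_V h fun v hv => ?_
      obtain ⟨w, rfl⟩ := (r.rng v).mp (hVW hv)
      rw [← e]; exact hL w hv
    have h1 : g * n * g⁻¹ ∈ o2 (centralizer (V : Set G)) :=
      conj_mem_of_normalizer ((normalizer_le_normalizer_centralizer V).trans (normalizer_le_normalizer_o2 _))
        hgV hn
    refine (r.mem_im hCn ho2).mpr ⟨_, h1, fun w => ?_⟩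
    have e2 : r.e (φ (φ⁻¹ w)) = r.e w := by rw [Tvw.ap_inv]
    have e3 : r.e (φ⁻¹ w) = g⁻¹ * r.e w * g := by
      rw [e] at e2
      rw [← e2]; group
    change r.e (φ (ν (φ⁻¹ w))) = _
    rw [e, e', e3]; group
  · intro hbot
    apply S.ne
    intro a ha b hb
    obtain ⟨w, rfl⟩ := (r.rng b).mp hb
    obtain ⟨φ, hφ, e⟩ := r.exists_im hCn hxC ha
    have h1 : φ = 1 := by
      have : φ ∈ A := hφ
      rw [hbot, mem_bot] at this
      exact this
    have h2 := e w
    rw [h1] at h2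
    change r.e w = _ at h2
    rw [eq_mul_inv_iff_mul_eq] at h2
    exact h2.symm
  · intro φ hφ
    obtain ⟨a, ha, e⟩ := (r.mem_im hCn hxC).mp hφ
    ext w
    apply r.inj
    change r.e (φ (φ w)) = r.e w
    have h1 := hxs a ha
    rw [e, e, inv_eq_of_mul_eq_one_left h1]
    calc a * (a * r.e w * a) * a = (a * a) * r.e w * (a * a) := by group
      _ = r.e w := by rw [h1, one_mul, mul_one]
  · intro φ hφ ψ hψ
    obtain ⟨a, ha, e⟩ := (r.mem_im hCn hxC).mp hφ
    obtain ⟨b, hb, e'⟩ := (r.mem_im hCn hxC).mp hψ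
    ext w
    apply r.inj
    change r.e (φ (ψ w)) = r.e (ψ (φ w))
    rw [e, e', e', e]
    have h1 := hxa a ha b hb
    calc a * (b * r.e w * b⁻¹) * a⁻¹ = (a * b) * r.e w * (a * b)⁻¹ := by group
      _ = b * (a * r.e w * a⁻¹) * b⁻¹ := by rw [h1]; group
  · intro φ hφ ψ hψ w
    obtain ⟨a, ha, e⟩ := (r.mem_im hCn hxC).mp hφ
    obtain ⟨b, hb, e'⟩ := (r.mem_im hCn hxC).mp hψ
    apply r.inj
    rw [e', r.add, e]
    have h1 := S.left a ha _ (r.mem w)
    rw [r.inv] at h1
    rw [hxa b hb _ h1, mul_inv_cancel_right]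
  · rw [← hK0, hcardA, mul_comm]
    exact Nat.mul_le_mul hge hK1

end out

end Cfsg.Agent.Omega.FOne.Rep
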