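import Cfsg.Agent.Omega.FOne.End
import Cfsg.Agent.Omega.FOne.Rep

/-!
# (F1′): the block system of `G` from the blocks of the module `W_z` (helper299)
-/

set_option autoImplicit false
set_option linter.unusedSectionVars false

namespace Cfsg.Agent.Omega.FOne.Tr

open Subgroup Cfsg.Agent.MinSimple.Geo
open Cfsg.Agent.Omega.FOne.End (BS)

section

variable {G : Type*} [Group G]

/-- The block facts at the base point. -/
structure BZ (z : G) (B0 : Subgroup G → Prop) : Prop where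
  ne : z ≠ 1
  mem : ∀ {X}, B0 X → z ∈ X
  sq : ∀ {X}, B0 X → ∀ x ∈ X, x * x = 1
  card : ∀ {X}, B0 X → Nat.card X = 16
  conj : ∀ {X}, B0 X → ∀ c : G, c * z = z * c → B0 (cj c X)
  eq : ∀ {X X'}, B0 X → B0 X' → ∀ {u}, u ∈ X → u ∈ X' → u ≠ 1 → u ≠ z → X = X'
  swap : ∀ {X}, B0 X → ∀ {u}, u ∈ X → u ≠ 1 → u ≠ z → ∃ c : G, c * z = z * c ∧ c * u * c⁻¹ = u * z
  rot : ∀ {X}, B0 X → ∀ {u a b}, u ∈ X → u ≠ 1 → u ≠ z → a ∈ X → b ∈ X →
    (a ≠ 1 ∧ a ≠ z ∧ a ≠ u ∧ a ≠ u * z) → (b ≠ 1 ∧ b ≠ z ∧ b ≠ u ∧ b ≠ u * z) →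
    ∃ c : G, c * z = z * c ∧ c * u = u * c ∧
      (c * a * c⁻¹ * b = 1 ∨ c * a * c⁻¹ * b = z ∨ c * a * c⁻¹ * b = u ∨ c * a * c⁻¹ * b = u * z)
  inv : ∀ {X}, B0 X → ∀ {c : G}, c * z = z * c → (∀ x ∈ X, c * x * c⁻¹ ∈ X) →
    (∀ x ∈ X, c * c * x = x * (c * c)) → (∃ x ∈ X, c * x ≠ x * c) →
    ∃ θ ∈ X, θ ≠ 1 ∧ θ ≠ z ∧ (∀ x ∈ X, c * x = x * c ↔ x = 1 ∨ x = z ∨ x = θ ∨ x = θ * z) ∧
      ∀ u ∈ X, c * u = u * c → ∃ v ∈ X, c * v * c⁻¹ * v = u
  four : ∀ {X}, B0 X → ∀ {u}, u ∈ X → u ≠ 1 → u ≠ z → ∀ c : Fin 4 → G, (∀ i, c i * z = z * c i) →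
    (∀ i, c i * u = u * c i) → (∀ i, ∀ x ∈ X, c i * c i * x = x * (c i * c i)) →
    (∀ i, ∃ x ∈ X, c i * x ≠ x * c i) →
    ∃ i j, i ≠ j ∧ ∀ x ∈ X, c i * x * (c i)⁻¹ = c j * x * (c j)⁻¹

/-- the block system of `G` -/
def bs (z : G) (B0 : Subgroup G → Prop) (y : G) (X : Subgroup G) : Prop :=
  ∃ g : G, g * z * g⁻¹ = y ∧ B0 (cj g⁻¹ X)

theorem BZ.bs {z : G} {B0 : Subgroup G → Prop} (h : BZ z B0) : BS (bs z B0) where
  mem := by
    rintro _ X ⟨g, rfl, hX⟩
    have := h.mem hX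
    rw [mem_cj] at this
    simpa using this
  ne := by
    rintro _ X ⟨g, rfl, hX⟩ e
    exact h.ne (by simpa using e)
  sq := by
    rintro _ X ⟨g, rfl, hX⟩ x hx
    have h1 := h.sq hX (g⁻¹ * x * g) (by rw [mem_cj]; simpa [mul_assoc] using hx)
    have h2 : g⁻¹ * x * g * (g⁻¹ * x * g) = g⁻¹ * (x * x) * g := by group
    rw [h2] at h1
    calc x * x = g * (g⁻¹ * (x * x) * g) * g⁻¹ := by group
      _ = 1 := by rw [h1]; group
  card := by
    rintro _ X ⟨g, rfl, hX⟩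
    have := h.card hX
    rwa [card_cj] at this
  conj := by
    rintro _ X ⟨g, rfl, hX⟩ k
    refine ⟨k * g, by group, ?_⟩
    rw [cj_cj]
    have : (k * g)⁻¹ * k = g⁻¹ := by group
    rw [this]; exact hX
  eq := by
    rintro _ X X' ⟨g, rfl, hX⟩ ⟨g', e, hX'⟩ u hu hu' u1 uy
    have hc : (g⁻¹ * g') * z = z * (g⁻¹ * g') := by
      calc (g⁻¹ * g') * z = g⁻¹ * (g' * z * g'⁻¹) * g' := by group
        _ = g⁻¹ * (g * z * g⁻¹) * g' := by rw [e]
        _ = z * (g⁻¹ * g') := by group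
    have h1 := h.conj hX' _ hc
    rw [cj_cj, mul_assoc, mul_inv_cancel, mul_one] at h1
    have h2 := h.eq hX h1 (u := g⁻¹ * u * g) (by rw [mem_cj]; simpa [mul_assoc] using hu)
      (by rw [mem_cj]; simpa [mul_assoc] using hu')
      (fun e => u1 (by simpa [mul_assoc] using congrArg (fun w => g * w * g⁻¹) e))
      (fun e => uy (by
        have := congrArg (fun w => g * w * g⁻¹) e
        simpa [mul_assoc] using this))
    have h3 := congrArg (cj g) h2
    rwa [cj_cj_inv, cj_cj_inv] at h3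
  swap := by
    rintro _ X ⟨g, rfl, hX⟩ u hu u1 uy
    set e := MulAut.conj g with he
    have e1 : ∀ a, e a = g * a * g⁻¹ := fun a => rfl
    have hm : ∀ a, a ∈ cj g⁻¹ X ↔ e a ∈ X := fun a => by rw [mem_cj, inv_inv]; rfl
    rw [← e1] at uy ⊢
    obtain ⟨u, rfl⟩ := e.surjective u
    rw [← hm] at hu
    obtain ⟨c, c1, c2⟩ := h.swap hX hu (fun e' => u1 (by rw [e', map_one])) (fun e' => uy (by rw [e']))
    refine ⟨e c, ?_, ?_⟩
    · rw [← map_mul, c1, map_mul]
    · rw [← map_inv, ← map_mul, ← map_mul, c2, map_mul]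
  rot := by
    rintro _ X ⟨g, rfl, hX⟩ u a b hu u1 uy ha hb ⟨a1, a2, a3, a4⟩ ⟨b1, b2, b3, b4⟩
    set e := MulAut.conj g with he
    have e1 : ∀ a, e a = g * a * g⁻¹ := fun a => rfl
    have hm : ∀ a, a ∈ cj g⁻¹ X ↔ e a ∈ X := fun a => by rw [mem_cj, inv_inv]; rfl
    rw [← e1] at uy a2 a4 b2 b4 ⊢
    obtain ⟨u, rfl⟩ := e.surjective u
    obtain ⟨a, rfl⟩ := e.surjective a
    obtain ⟨b, rfl⟩ := e.surjective b
    rw [← hm] at hu ha hb
    obtain ⟨c, c1, c2, c3⟩ := h.rot hX hu (fun e' => u1 (by rw [e', map_one])) (fun e' => uy (by rw [e']))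
      ha hb ⟨fun e' => a1 (by rw [e', map_one]), fun e' => a2 (by rw [e']), fun e' => a3 (by rw [e']),
        fun e' => a4 (by rw [e', map_mul])⟩
      ⟨fun e' => b1 (by rw [e', map_one]), fun e' => b2 (by rw [e']), fun e' => b3 (by rw [e']),
        fun e' => b4 (by rw [e', map_mul])⟩
    refine ⟨e c, ?_, ?_, ?_⟩
    · rw [← map_mul, c1, map_mul]
    · rw [← map_mul, c2, map_mul]
    · rw [← map_inv, ← map_mul, ← map_mul, ← map_mul, ← map_mul]
      rcases c3 with c3 | c3 | c3 | c3 <;> rw [c3]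
      · left; exact map_one e
      · right; left; rfl
      · right; right; left; rfl
      · right; right; right; rfl
  inv := by
    rintro _ X ⟨g, rfl, hX⟩ c cy hn h2 hne
    set e := MulAut.conj g with he
    have e1 : ∀ a, e a = g * a * g⁻¹ := fun a => rfl
    have hm : ∀ a, a ∈ cj g⁻¹ X ↔ e a ∈ X := fun a => by rw [mem_cj, inv_inv]; rfl
    rw [← e1] at cy ⊢
    obtain ⟨c, rfl⟩ := e.surjective c
    obtain ⟨θ, hθ, t1, t2, t3, t4⟩ := h.inv hX (c := c) (e.injective (by rw [map_mul, cy, map_mul]))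
      (fun x hx => by
        rw [hm, map_mul, map_mul, map_inv]
        exact hn _ ((hm x).mp hx))
      (fun x hx => e.injective (by
        rw [map_mul, map_mul, map_mul, map_mul]
        exact h2 _ ((hm x).mp hx)))
      (by
        obtain ⟨x, hx, hne⟩ := hne
        obtain ⟨x, rfl⟩ := e.surjective x
        exact ⟨x, (hm x).mpr hx, fun e' => hne (by rw [← map_mul, e', map_mul])⟩)
    refine ⟨e θ, (hm θ).mp hθ, fun e' => t1 (e.injective (by rw [e', map_one])),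
      fun e' => t2 (e.injective e'), ?_, ?_⟩
    · intro x hx
      obtain ⟨x, rfl⟩ := e.surjective x
      have := t3 x ((hm x).mpr hx)
      have e2 : e x = 1 ↔ x = 1 := by rw [← map_one e, e.injective.eq_iff, map_one]
      rw [← map_mul, ← map_mul, e.injective.eq_iff, this, ← map_mul, e.injective.eq_iff, e.injective.eq_iff,
        e.injective.eq_iff, e2]
    · intro u hu hcu
      obtain ⟨u, rfl⟩ := e.surjective u
      obtain ⟨v, hv, hvu⟩ := t4 u ((hm u).mpr hu) (e.injective (by rw [map_mul, hcu, map_mul]))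
      refine ⟨e v, (hm v).mp hv, ?_⟩
      rw [← map_inv, ← map_mul, ← map_mul, ← map_mul, hvu]
  four := by
    rintro _ X ⟨g, rfl, hX⟩ u hu u1 uy c cy cu h2 hne
    set e := MulAut.conj g with he
    have e1 : ∀ a, e a = g * a * g⁻¹ := fun a => rfl
    have hm : ∀ a, a ∈ cj g⁻¹ X ↔ e a ∈ X := fun a => by rw [mem_cj, inv_inv]; rfl
    rw [← e1] at uy
    simp only [← e1] at cy
    obtain ⟨u, rfl⟩ := e.surjective u
    rw [← hm] at hu
    obtain ⟨i, j, hij, hag⟩ := h.four hX hu (fun e' => u1 (by rw [e', map_one])) (fun e' => uy (by rw [e']))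
      (fun i => e.symm (c i))
      (fun i => e.injective (by rw [map_mul, map_mul, MulEquiv.apply_symm_apply]; exact cy i))
      (fun i => e.injective (by rw [map_mul, map_mul, MulEquiv.apply_symm_apply]; exact cu i))
      (fun i x hx => e.injective (by
        rw [map_mul, map_mul, map_mul, map_mul, MulEquiv.apply_symm_apply]
        exact h2 i _ ((hm x).mp hx)))
      (fun i => by
        obtain ⟨x, hx, hne⟩ := hne i
        obtain ⟨x, rfl⟩ := e.surjective x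
        exact ⟨x, (hm x).mpr hx, fun e' => hne (by
          have := congrArg e e'
          rwa [map_mul, map_mul, MulEquiv.apply_symm_apply] at this)⟩)
    refine ⟨i, j, hij, fun x hx => ?_⟩
    obtain ⟨x, rfl⟩ := e.surjective x
    have := congrArg e (hag x ((hm x).mpr hx))
    simpa using this

end

/-! ### blocks of the module -/

section

open Cfsg.Agent.Omega.FOne.Tvw (Base Blk IsTv)
open Cfsg.Agent.Omega.FOne.Crit (Fl Side)
open Cfsg.Agent.Omega.FOne.Rep

universe u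

variable {G : Type u} [Group G] {T V : Subgroup G} {z : G} {W : Type u} [AddCommGroup W] [Module (ZMod 2) W]

/-- the blocks at `z` -/
def b0 (r : Rp (ws V z) W) (y : W) (X : Subgroup G) : Prop := ∃ Y, Blk (HH r) y Y ∧ X = r.sub Y

variable [Finite G] (h : Fl T V z) (r : Rp (ws V z) W) {y : W} (hy : r.e y = z)
include h hy

theorem bz : BZ z (b0 r y) := by
  have hb := base h r hy
  have : Finite W := r.finite
  have ycomm : ∀ {c : G}, c * z = z * c → c ∈ centralizer ({z} : Set G) := fun hc =>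
    mem_centralizer_singleton_iff.mpr hc
  -- the linear map of an element of `C(z)`
  have hlin : ∀ {c : G}, c * z = z * c → ∃ φ ∈ HH r, ∀ w, r.e (φ w) = c * r.e w * c⁻¹ := by
    intro c hc
    obtain ⟨φ, h1, h2⟩ := r.exists_im (centralizer_le_normalizer_ws V z) le_rfl (ycomm hc)
    refine ⟨φ, ?_, h2⟩
    rw [← imz_self]; exact h1
  have hback : ∀ {φ : W ≃ₗ[ZMod 2] W}, φ ∈ HH r → ∃ c, c * z = z * c ∧ ∀ w, r.e (φ w) = c * r.e w * c⁻¹ := by
    intro φ hφ
    obtain ⟨c, hc, e⟩ := (mem_HH r).mp hφ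
    exact ⟨c, mem_centralizer_singleton_iff.mp hc, e⟩
  have hcomm : ∀ {c : G} {φ : W ≃ₗ[ZMod 2] W} (_ : ∀ w, r.e (φ w) = c * r.e w * c⁻¹) (w : W),
      c * r.e w = r.e w * c ↔ φ w = w := by
    intro c φ e w
    rw [← r.inj.eq_iff, e w]
    constructor
    · intro e'; rw [e']; group
    · intro e'
      calc c * r.e w = c * r.e w * c⁻¹ * c := by group
        _ = r.e w * c := by rw [e']
  exact
    { ne := h.ln.z_ne
      mem := by
        rintro _ ⟨Y, hY, rfl⟩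
        exact ⟨y, hY.y_mem, hy⟩
      sq := by
        rintro _ ⟨Y, hY, rfl⟩ _ ⟨w, -, rfl⟩
        exact r.sq w
      card := by
        rintro _ ⟨Y, hY, rfl⟩
        rw [r.card_sub]; exact hY.card
      conj := by
        rintro _ ⟨Y, hY, rfl⟩ c hc
        obtain ⟨φ, hφ, e⟩ := hlin hc
        exact ⟨_, hY.map hφ, r.cj_sub e Y⟩
      eq := by
        rintro _ _ ⟨Y, hY, rfl⟩ ⟨Y', hY', rfl⟩ _ ⟨u, hu, rfl⟩ ⟨u', hu', e⟩ u1 uz
        rw [r.inj e] at hu'
        rw [hY.eq hY' hu hu' (fun e => u1 (r.eq_one.mpr e)) (fun e => uz (by rw [e, hy]))]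
      swap := by
        rintro _ ⟨Y, hY, rfl⟩ _ ⟨u, hu, rfl⟩ u1 uz
        obtain ⟨φ, hφ, e⟩ := hY.swap hu (fun e => u1 (r.eq_one.mpr e)) (fun e => uz (by rw [e, hy]))
        obtain ⟨c, hc, e'⟩ := hback hφ
        exact ⟨c, hc, by rw [← e', e, r.add, hy]⟩
      rot := by
        rintro _ ⟨Y, hY, rfl⟩ _ _ _ ⟨u, hu, rfl⟩ u1 uz ⟨a, ha, rfl⟩ ⟨b, hb, rfl⟩ ⟨a1, a2, a3, a4⟩
          ⟨b1, b2, b3, b4⟩
        have n1 : ∀ {w : W}, r.e w ≠ 1 → w ≠ 0 := fun h e => h (r.eq_one.mpr e)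
        have n2 : ∀ {w : W}, r.e w ≠ z → w ≠ y := fun h e => h (by rw [e, hy])
        have n3 : ∀ {w : W}, r.e w ≠ r.e u → w ≠ u := fun h e => h (by rw [e])
        have n4 : ∀ {w : W}, r.e w ≠ r.e u * z → w ≠ u + y := fun h e => h (by rw [e, r.add, hy])
        obtain ⟨φ, hφ, e1, e2⟩ := hY.rot hu (n1 u1) (n2 uz) ha (n1 a1) (n2 a2) (n3 a3) (n4 a4)
          hb (n1 b1) (n2 b2) (n3 b3) (n4 b4)
        obtain ⟨c, hc, e'⟩ := hback hφ
        refine ⟨c, hc, (hcomm e' u).mpr e1, ?_⟩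
        rw [← e', ← r.add]
        rcases e2 with e2 | e2 | e2 | e2 <;> rw [e2]
        · left; exact r.zero
        · right; left; exact hy
        · right; right; left; rfl
        · right; right; right; rw [r.add, hy]
      inv := by
        rintro _ ⟨Y, hY, rfl⟩ c hc hn h2 hne
        obtain ⟨φ, hφ, e⟩ := hlin hc
        obtain ⟨θ, hθ, t1, t2, t3, t4⟩ := hY.inv hφ
          (fun w hw => by
            have := hn _ (r.e_mem_sub.mpr hw)
            rw [← e] at this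
            exact r.e_mem_sub.mp this)
          (fun w hw => by
            apply r.inj
            rw [e, e]
            have := h2 _ (r.e_mem_sub.mpr hw)
            calc c * (c * r.e w * c⁻¹) * c⁻¹ = (c * c * r.e w) * (c * c)⁻¹ := by group
              _ = r.e w := by rw [this]; group)
          (by
            obtain ⟨_, ⟨w, hw, rfl⟩, hne⟩ := hne
            exact ⟨w, hw, fun e' => hne ((hcomm e w).mpr e')⟩)
        refine ⟨r.e θ, r.e_mem_sub.mpr hθ, fun e => t1 (r.eq_one.mp e),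
          fun e => t2 (r.inj (by rw [e, hy])), ?_, ?_⟩
        · rintro _ ⟨w, hw, rfl⟩
          rw [hcomm e w, t3 w hw, r.eq_one, r.inj.eq_iff]
          have e1 : r.e w = z ↔ w = y := ⟨fun e => r.inj (e.trans hy.symm), fun e => by rw [e, hy]⟩
          have e2 : r.e w = r.e θ * z ↔ w = θ + y :=
            ⟨fun e => r.inj (by rw [e, r.add, hy]), fun e => by rw [e, r.add, hy]⟩
          rw [e1, e2]
        · rintro _ ⟨w, hw, rfl⟩ hcw
          obtain ⟨v, hv, e'⟩ := t4 w hw ((hcomm e w).mp hcw)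
          exact ⟨r.e v, r.e_mem_sub.mpr hv, by rw [← e, ← r.add, e']⟩
      four := by
        rintro _ ⟨Y, hY, rfl⟩ _ ⟨u, hu, rfl⟩ u1 uz c cz cu h2 hne
        choose φ hφ e using fun i => hlin (cz i)
        obtain ⟨i, j, hij, hag⟩ := hY.four hu (fun e => u1 (r.eq_one.mpr e)) (fun e => uz (by rw [e, hy]))
          φ hφ (fun i => (hcomm (e i) u).mp (cu i))
          (fun i w hw => by
            apply r.inj
            rw [e, e]
            have := h2 i _ (r.e_mem_sub.mpr hw)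
            calc c i * (c i * r.e w * (c i)⁻¹) * (c i)⁻¹ = (c i * c i * r.e w) * (c i * c i)⁻¹ := by group
              _ = r.e w := by rw [this]; group)
          (fun i => by
            obtain ⟨_, ⟨w, hw, rfl⟩, hne⟩ := hne i
            exact ⟨w, hw, fun e' => hne ((hcomm (e i) w).mpr e')⟩)
        refine ⟨i, j, hij, ?_⟩
        rintro _ ⟨w, hw, rfl⟩
        rw [← e i, ← e j, hag w hw] }

/-- the blocks of one side -/
theorem gen_side {D : Subgroup G} (hD : D ≤ centralizer ({z} : Set G))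
    (hgen : imz r D ≤ Subgroup.closure {g | g ∈ imz r D ∧ IsTv (HH r) y g}) :
    ∃ S : Set (Subgroup G), (∀ X ∈ S, bs z (b0 r y) z X ∧ X ≤ ws V z ∧ ∀ a ∈ D, ∀ b ∈ X, a * b * a⁻¹ ∈ X) ∧
      ws V z ≤ sSup S ⊔ centralizer (D : Set G) := by
  have hb := base h r hy
  have : Finite W := r.finite
  have hCn := centralizer_le_normalizer_ws V z
  obtain ⟨S, hS, hg⟩ := Tvw.gen hb (imz_le r D) hgen
  refine ⟨{X | ∃ Y ∈ S, X = r.sub Y}, ?_, ?_⟩
  · rintro _ ⟨Y, hY, rfl⟩
    obtain ⟨hY1, hY2⟩ := hS Y hY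
    refine ⟨⟨1, by group, ?_⟩, r.sub_le Y, ?_⟩
    · rw [inv_one, cj_one]
      exact ⟨Y, hY1, rfl⟩
    · rintro a ha _ ⟨w, hw, rfl⟩
      obtain ⟨φ, hφ, e⟩ := r.exists_im hCn hD ha
      rw [← e]
      exact r.e_mem_sub.mpr (hY2 φ hφ w hw)
  · intro g hg'
    obtain ⟨w, rfl⟩ := (r.rng g).mp hg'
    obtain ⟨v, hv, hvw⟩ := hg w
    have h1 : sSup S ≤ r.mod (sSup {X | ∃ Y ∈ S, X = r.sub Y}) := by
      refine sSup_le fun Y hY w hw => ?_
      rw [r.mem_mod]
      exact (le_sSup (⟨Y, hY, rfl⟩ : r.sub Y ∈ {X | ∃ Y ∈ S, X = r.sub Y}) : r.sub Y ≤ _)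
        (r.e_mem_sub.mpr hw)
    have h2 : r.e v ∈ sSup {X | ∃ Y ∈ S, X = r.sub Y} := h1 hv
    have h3 : r.e (w + v) ∈ centralizer (D : Set G) := by
      rw [mem_centralizer_iff]
      intro a ha
      obtain ⟨φ, hφ, e⟩ := r.exists_im hCn hD ha
      have := e (w + v)
      rw [hvw φ hφ] at this
      calc a * r.e (w + v) = (a * r.e (w + v) * a⁻¹) * a := by group
        _ = r.e (w + v) * a := by rw [← this]
    have e1 : r.e w = r.e v * r.e (w + v) := by
      rw [← r.add]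
      congr 1
      have := Tvw.addself v
      calc w = w + (v + v) := by rw [this, add_zero]
        _ = v + (w + v) := by abel
    rw [e1]
    exact mul_mem (mem_sup_left h2) (mem_sup_right h3)

end

end Cfsg.Agent.Omega.FOne.Tr
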