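import Cfsg.Agent.Omega.FOne.TvwCoord

/-!
# Lemma TVW (bb OMEGA #15003, helper299): the blocks
-/

set_option autoImplicit false
set_option linter.unusedSectionVars false

namespace Cfsg.Agent.Omega.FOne.Tvw

theorem dadd : ∀ a b x : T3, dot (a + b) x = dot a x + dot b x := by decide

theorem dadd' : ∀ a b x : T3, dot a (b + x) = dot a b + dot a x := by decide

theorem dot_zero (k : T3) : dot k 0 = 0 := by simp [dot]

theorem zero_dot (c : T3) : dot 0 c = 0 := by simp [dot]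

set_option synthInstance.maxSize 1000 in
set_option synthInstance.maxHeartbeats 400000 in
theorem dec4 : ∀ b c : T3, b ≠ 0 → c ≠ 0 → b ≠ c → ∃ f : T3, dot f b = 0 ∧ dot f c = 1 := by decide

def sm (e : ZMod 2) (c : T3) : T3 := (e * c.1, e * c.2.1, e * c.2.2)

def lin (a b c z : T3) : T3 := sm z.1 a + sm z.2.1 b + sm z.2.2 c

set_option maxRecDepth 100000 in
set_option synthInstance.maxSize 1000 in
set_option synthInstance.maxHeartbeats 400000 in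
theorem dec5 : ∀ a b c : T3, lin a b c a = (1, 0, 0) → lin a b c b = (0, 1, 0) → lin a b c c = (0, 0, 1) →
    (a ≠ (1, 0, 0) ∨ b ≠ (0, 1, 0) ∨ c ≠ (0, 0, 1)) →
    ∃ k u : T3, (k ≠ 0 ∧ u ≠ 0) ∧ dot k u = 0 ∧ a = (1, 0, 0) + sm k.1 u ∧ b = (0, 1, 0) + sm k.2.1 u ∧
      c = (0, 0, 1) + sm k.2.2 u := by decide

set_option synthInstance.maxSize 1000 in
set_option synthInstance.maxHeartbeats 400000 in
theorem dec6 : ∀ u a b : T3, (u ≠ 0 ∧ a ≠ 0 ∧ a ≠ u) → (b ≠ 0 ∧ b ≠ u ∧ a + b ≠ 0) → a + b ≠ u →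
    ∃ k : T3, dot k a = 0 ∧ dot k u = 0 ∧ dot k b = 1 := by decide

set_option synthInstance.maxSize 1000 in
set_option synthInstance.maxHeartbeats 400000 in
theorem dec7 : ∀ u a k k' : T3, (u ≠ 0 ∧ a ≠ 0 ∧ a ≠ u) → (dot k a = 0 ∧ dot k u = 0) →
    (k' ≠ 0 ∧ k' ≠ k ∧ k ≠ 0) → dot k' a = 0 → dot k' u = 1 := by decide

set_option synthInstance.maxSize 1000 in
set_option synthInstance.maxHeartbeats 400000 in
/-- two different functionals with the common kernel `⟨c⟩`. -/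
theorem dec8 : ∀ c k k' a : T3, (c ≠ 0 ∧ k ≠ 0 ∧ k' ≠ 0 ∧ k ≠ k') → (dot k c = 0 ∧ dot k' c = 0) →
    (dot k a = 0 ∧ dot k' a = 0) → a = 0 ∨ a = c := by decide

set_option synthInstance.maxSize 1000 in
set_option synthInstance.maxHeartbeats 400000 in
theorem dec9 : ∀ k k' : T3, (k ≠ 0 ∧ k' ≠ 0 ∧ k ≠ k') → ∀ e e' : ZMod 2, ∃ a : T3, dot k a = e ∧ dot k' a = e' := by
  decide

/-- a functional which is not killed by a vector: among `1, 2, 1+2` one is killed. -/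
theorem dec10 : ∀ a b : ZMod 2, a = 0 ∨ b = 0 ∨ a + b = 0 := by decide

theorem dec11 : ∀ c : T3, (∀ k : T3, dot k c = 0) → c = 0 := by decide

theorem dec12 : ∀ k k' : T3, (∀ c : T3, dot k c = dot k' c) → k = k' := by decide

theorem dec13 : ∀ k : T3, k ≠ 0 → ∃ c : T3, c ≠ 0 ∧ dot k c = 0 := by decide

theorem t3add : ∀ a b : T3, a + b = 0 → a = b := by decide

theorem t3self : ∀ a : T3, a + a = 0 := by decide

variable {W : Type*} [AddCommGroup W] [Module (ZMod 2) W]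

/-- The hypotheses on `(H, y)` alone. -/
structure Base (H : Subgroup (W ≃ₗ[ZMod 2] W)) (y : W) : Prop where
  y0 : y ≠ 0
  fix : ∀ h ∈ H, h y = y
  faith : ∀ h ∈ H, (∀ w, h w = w ∨ h w = w + y) → h = 1
  core : ∀ N : Subgroup (W ≃ₗ[ZMod 2] W), N ≤ H → (∀ h ∈ H, ∀ n ∈ N, h * n * h⁻¹ ∈ N) →
    IsPGroup 2 N → N = ⊥

/-- `g` is a transvection of `W/⟨y⟩` whose centre has swapped lifts. -/
def IsTv (H : Subgroup (W ≃ₗ[ZMod 2] W)) (y : W) (g : W ≃ₗ[ZMod 2] W) : Prop :=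
  ∃ (θ : W) (f d : W →ₗ[ZMod 2] ZMod 2), θ ≠ 0 ∧ θ ≠ y ∧ f ≠ 0 ∧ (∀ w, g w = w + f w • θ + d w • y) ∧
    ∃ h ∈ H, h θ = θ + y

variable {H : Subgroup (W ≃ₗ[ZMod 2] W)} {y : W}

theorem Base.hyp (b : Base H y) {θ : W} (h0 : θ ≠ 0) (hy : θ ≠ y) (hs : ∃ h ∈ H, h θ = θ + y) :
    Hyp H y {ρ | ∃ h ∈ H, h θ = ρ} where
  y0 := b.y0
  fix := b.fix
  faith := b.faith
  core := b.core
  th0 := by
    rintro _ ⟨h, -, rfl⟩ e
    exact h0 (by rw [← map_zero h] at e; exact h.injective e)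
  thy := by
    rintro _ ⟨h, hh, rfl⟩ e
    rw [← b.fix h hh] at e
    exact hy (h.injective e)
  trans := by
    rintro _ ⟨h, hh, rfl⟩ _ ⟨k, hk, rfl⟩
    refine ⟨k * h⁻¹, H.mul_mem hk (H.inv_mem hh), ?_⟩
    rw [LinearEquiv.mul_apply, inv_ap]
  mem := by
    rintro _ ⟨h, hh, rfl⟩ g hg
    exact ⟨g * h, H.mul_mem hg hh, rfl⟩
  swap := by
    rintro _ ⟨h, hh, rfl⟩
    obtain ⟨s, hs, e⟩ := hs
    refine ⟨h * s, H.mul_mem hh hs, ?_⟩
    rw [LinearEquiv.mul_apply, e, map_add, b.fix h hh]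

theorem Hyp.base {Θ : Set W} (h : Hyp H y Θ) : Base H y := ⟨h.y0, h.fix, h.faith, h.core⟩

theorem tv_smul (t1 t2 t3 : W) (e : ZMod 2) (c : T3) : tv t1 t2 t3 (e • c) = e • tv t1 t2 t3 c := by
  simp only [tv, Prod.smul_fst, Prod.smul_snd, smul_eq_mul]; module

/-- the submodule `{tv c + e y}` -/
def blk (y t1 t2 t3 : W) : Submodule (ZMod 2) W where
  carrier := {w | ∃ (c : T3) (e : ZMod 2), w = tv t1 t2 t3 c + e • y}
  zero_mem' := ⟨0, 0, by rw [tv_zero, zero_smul, add_zero]⟩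
  add_mem' := by
    rintro _ _ ⟨c, e, rfl⟩ ⟨c', e', rfl⟩
    exact ⟨c + c', e + e', by rw [tv_add]; module⟩
  smul_mem' := by
    rintro a _ ⟨c, e, rfl⟩
    exact ⟨a • c, a * e, by rw [tv_smul]; module⟩

theorem mem_blk {y t1 t2 t3 w : W} : w ∈ blk y t1 t2 t3 ↔ ∃ (c : T3) (e : ZMod 2), w = tv t1 t2 t3 c + e • y :=
  Iff.rfl

theorem tv_mem_blk (y t1 t2 t3 : W) (c : T3) : tv t1 t2 t3 c ∈ blk y t1 t2 t3 :=
  ⟨c, 0, by rw [zero_smul, add_zero]⟩

theorem y_mem_blk (y t1 t2 t3 : W) : y ∈ blk y t1 t2 t3 := ⟨0, 1, by rw [tv_zero, one_smul, zero_add]⟩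

variable {Θ : Set W}

namespace Fr

variable [Finite W] (h : Hyp H y Θ) {t1 t2 t3 : W} {p1 p2 p3 : W →ₗ[ZMod 2] ZMod 2}
  (F : Fr H y Θ t1 t2 t3 p1 p2 p3)
include h F

omit [Finite W] in
theorem cd_y : cd p1 p2 p3 y = 0 := by
  apply dec11
  intro k
  rw [← F.p_y h k, pv_apply]

omit h F [Finite W] in
theorem cd_add (v w : W) : cd p1 p2 p3 (v + w) = cd p1 p2 p3 v + cd p1 p2 p3 w := by
  simp [cd]

omit h F [Finite W] in
theorem cd_smul (e : ZMod 2) (w : W) : cd p1 p2 p3 (e • w) = e • cd p1 p2 p3 w := by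
  simp [cd]

omit [Finite W] in
theorem cd_tv (c : T3) (e : ZMod 2) : cd p1 p2 p3 (tv t1 t2 t3 c + e • y) = c := by
  rw [cd_add, cd_smul, F.cd_y h, smul_zero, add_zero]
  exact F.coord c

omit [Finite W] in
theorem blk_iff {w : W} : w ∈ blk y t1 t2 t3 ↔
    w = tv t1 t2 t3 (cd p1 p2 p3 w) ∨ w = tv t1 t2 t3 (cd p1 p2 p3 w) + y := by
  constructor
  · rintro ⟨c, e, rfl⟩
    rw [F.cd_tv h]
    rcases z2 e with rfl | rfl
    · left; rw [zero_smul, add_zero]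
    · right; rw [one_smul]
  · rintro (e | e)
    · rw [e]; exact tv_mem_blk _ _ _ _ _
    · rw [e]; exact (blk y t1 t2 t3).add_mem (tv_mem_blk _ _ _ _ _) (y_mem_blk _ _ _ _)

omit [Finite W] in
theorem cd_ne_zero {w : W} (hw : w ∈ blk y t1 t2 t3) (h0 : w ≠ 0) (hy : w ≠ y) : cd p1 p2 p3 w ≠ 0 := by
  intro e
  rcases (F.blk_iff h).mp hw with h1 | h1 <;> rw [e, tv_zero] at h1
  · exact h0 h1
  · exact hy (by rw [h1, zero_add])

omit [Finite W] in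
theorem blk_mem {w : W} (hw : w ∈ blk y t1 t2 t3) (h0 : w ≠ 0) (hy : w ≠ y) : w ∈ Θ := by
  have hc := F.cd_ne_zero h hw h0 hy
  rcases (F.blk_iff h).mp hw with h1 | h1 <;> rw [h1]
  · exact F.mem h hc
  · exact h.swap _ (F.mem h hc)

theorem mem_blk_of {σ : W} (hσ : σ ∈ Θ) (hb : cd p1 p2 p3 σ ≠ 0) : σ ∈ blk y t1 t2 t3 :=
  (F.blk_iff h).mpr (F.eq_tv h hσ hb)

omit [Finite W] in
/-- two elements of the block with the same coordinates. -/
theorem eq_or {v w : W} (hv : v ∈ blk y t1 t2 t3) (hw : w ∈ blk y t1 t2 t3)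
    (e : cd p1 p2 p3 v = cd p1 p2 p3 w) : v = w ∨ v = w + y := by
  rcases (F.blk_iff h).mp hv with h1 | h1 <;> rcases (F.blk_iff h).mp hw with h2 | h2 <;> rw [h1, h2, e]
  · left; rfl
  · right; rw [add_assoc, addself, add_zero]
  · right; rfl
  · left; rfl

/-- relation between two elements of the block. -/
theorem rel {u w : W} (hu : u ∈ blk y t1 t2 t3) (u0 : u ≠ 0) (uy : u ≠ y)
    (hw : w ∈ blk y t1 t2 t3) (w0 : w ≠ 0) (wy : w ≠ y) (h1 : w ≠ u) (h2 : w ≠ u + y) : Rel H y u w := by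
  have cu := F.cd_ne_zero h hu u0 uy
  have cw := F.cd_ne_zero h hw w0 wy
  have hne : cd p1 p2 p3 u ≠ cd p1 p2 p3 w := by
    intro e
    rcases F.eq_or h hw hu e.symm with a | a
    · exact h1 a
    · exact h2 a
  obtain ⟨k, k1, k2⟩ := dec4 _ _ cu cw hne
  obtain ⟨d, s⟩ := F.st_of h (F.blk_mem h hu u0 uy) cu k1
  exact ⟨_, d, s, by rw [pv_apply]; exact k2⟩

omit [Finite W] in
theorem card : Nat.card (blk y t1 t2 t3) = 16 := by
  let φ : T3 × ZMod 2 → blk y t1 t2 t3 := fun c => ⟨tv t1 t2 t3 c.1 + c.2 • y, c.1, c.2, rfl⟩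
  have hφ : Function.Bijective φ := by
    constructor
    · rintro ⟨c, e⟩ ⟨c', e'⟩ hh
      have h1 : tv t1 t2 t3 c + e • y = tv t1 t2 t3 c' + e' • y := congrArg Subtype.val hh
      have h2 := congrArg (cd p1 p2 p3) h1
      rw [F.cd_tv h, F.cd_tv h] at h2
      subst h2
      have h3 := add_left_cancel h1
      rcases z2 e with rfl | rfl <;> rcases z2 e' with rfl | rfl
      · rfl
      · exfalso; simp at h3; exact h.y0 h3.symm
      · exfalso; simp at h3; exact h.y0 h3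
      · rfl
    · rintro ⟨_, c, e, rfl⟩
      exact ⟨(c, e), rfl⟩
  rw [← Nat.card_eq_of_bijective φ hφ]
  simp

omit [Finite W] in
/-- conjugation of a frame. -/
theorem conj {g : W ≃ₗ[ZMod 2] W} (hg : g ∈ H) :
    Fr H y Θ (g t1) (g t2) (g t3) (tr g p1) (tr g p2) (tr g p3) where
  m1 := h.mem _ F.m1 g hg
  m2 := h.mem _ F.m2 g hg
  m3 := h.mem _ F.m3 g hg
  a11 := by rw [tr_ap]; exact F.a11
  a12 := by rw [tr_ap]; exact F.a12
  a13 := by rw [tr_ap]; exact F.a13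
  a21 := by rw [tr_ap]; exact F.a21
  a22 := by rw [tr_ap]; exact F.a22
  a23 := by rw [tr_ap]; exact F.a23
  a31 := by rw [tr_ap]; exact F.a31
  a32 := by rw [tr_ap]; exact F.a32
  a33 := by rw [tr_ap]; exact F.a33
  s12 := by obtain ⟨d, s⟩ := F.s12; exact ⟨_, h.conj hg s⟩
  s13 := by obtain ⟨d, s⟩ := F.s13; exact ⟨_, h.conj hg s⟩
  s21 := by obtain ⟨d, s⟩ := F.s21; exact ⟨_, h.conj hg s⟩
  s23 := by obtain ⟨d, s⟩ := F.s23; exact ⟨_, h.conj hg s⟩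
  s31 := by obtain ⟨d, s⟩ := F.s31; exact ⟨_, h.conj hg s⟩
  s32 := by obtain ⟨d, s⟩ := F.s32; exact ⟨_, h.conj hg s⟩

end Fr

/-- `X` is a block. -/
def Blk (H : Subgroup (W ≃ₗ[ZMod 2] W)) (y : W) (X : Submodule (ZMod 2) W) : Prop :=
  ∃ Θ, Hyp H y Θ ∧ ∃ (t1 t2 t3 : W) (p1 p2 p3 : W →ₗ[ZMod 2] ZMod 2), Fr H y Θ t1 t2 t3 p1 p2 p3 ∧
    X = blk y t1 t2 t3

namespace Blk

variable [Finite W] {X X' : Submodule (ZMod 2) W}

omit [Finite W] in
theorem y_mem (B : Blk H y X) : y ∈ X := by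
  obtain ⟨Θ, h, t1, t2, t3, p1, p2, p3, F, rfl⟩ := B
  exact y_mem_blk _ _ _ _

omit [Finite W] in
theorem card (B : Blk H y X) : Nat.card X = 16 := by
  obtain ⟨Θ, h, t1, t2, t3, p1, p2, p3, F, rfl⟩ := B
  exact F.card h

omit [Finite W] in
theorem map (B : Blk H y X) {g : W ≃ₗ[ZMod 2] W} (hg : g ∈ H) : Blk H y (X.map (g : W →ₗ[ZMod 2] W)) := by
  obtain ⟨Θ, h, t1, t2, t3, p1, p2, p3, F, rfl⟩ := B
  refine ⟨Θ, h, _, _, _, _, _, _, F.conj h hg, ?_⟩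
  have e : ∀ (c : T3) (e : ZMod 2), g (tv t1 t2 t3 c + e • y) = tv (g t1) (g t2) (g t3) c + e • y := by
    intro c e
    simp only [tv, map_add, map_smul, h.fix g hg]
  ext w
  constructor
  · rintro ⟨_, ⟨c, a, rfl⟩, rfl⟩
    exact ⟨c, a, e c a⟩
  · rintro ⟨c, a, rfl⟩
    exact ⟨_, ⟨c, a, rfl⟩, e c a⟩

/-- the orbit of a block through `u`. -/
theorem orbit_eq {Θ Θ' : Set W} (h : Hyp H y Θ) (h' : Hyp H y Θ') {u : W} (hu : u ∈ Θ) (hu' : u ∈ Θ') :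
    Θ = Θ' := by
  ext w
  constructor
  · intro hw
    obtain ⟨g, hg, rfl⟩ := h.trans u hu w hw
    exact h'.mem u hu' g hg
  · intro hw
    obtain ⟨g, hg, rfl⟩ := h'.trans u hu' w hw
    exact h.mem u hu g hg

theorem le_of (B : Blk H y X) (B' : Blk H y X') {u : W} (hu : u ∈ X) (hu' : u ∈ X') (u0 : u ≠ 0)
    (uy : u ≠ y) : X ≤ X' := by
  obtain ⟨Θ, h, t1, t2, t3, p1, p2, p3, F, rfl⟩ := B
  obtain ⟨Θ', h', t1', t2', t3', p1', p2', p3', F', rfl⟩ := B'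
  have m := F.blk_mem h hu u0 uy
  have m' := F'.blk_mem h' hu' u0 uy
  obtain rfl := orbit_eq h h' m m'
  intro w hw
  have cu' := F'.cd_ne_zero h hu' u0 uy
  by_cases w0 : w = 0
  · rw [w0]; exact Submodule.zero_mem _
  by_cases wy : w = y
  · rw [wy]; exact y_mem_blk _ _ _ _
  by_cases h1 : w = u
  · rw [h1]; exact hu'
  by_cases h2 : w = u + y
  · rw [h2]; exact Submodule.add_mem _ hu' (y_mem_blk _ _ _ _)
  have hwΘ := F.blk_mem h hw w0 wy
  have r := F.rel h hu u0 uy hw w0 wy h1 h2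
  exact F'.mem_blk_of h hwΘ (F'.cd_ne_of_rel h m cu' hwΘ (h.rel_symm m hwΘ r))

/-- **(eq)** -/
theorem eq (B : Blk H y X) (B' : Blk H y X') {u : W} (hu : u ∈ X) (hu' : u ∈ X') (u0 : u ≠ 0)
    (uy : u ≠ y) : X = X' :=
  le_antisymm (B.le_of B' hu hu' u0 uy) (B'.le_of B hu' hu u0 uy)

omit [Finite W] in
/-- **(swap)** -/
theorem swap (B : Blk H y X) {u : W} (hu : u ∈ X) (u0 : u ≠ 0) (uy : u ≠ y) : ∃ g ∈ H, g u = u + y := by
  obtain ⟨Θ, h, t1, t2, t3, p1, p2, p3, F, rfl⟩ := B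
  have m := F.blk_mem h hu u0 uy
  exact h.trans u m _ (h.swap u m)

omit [Finite W] in
theorem base (B : Blk H y X) : Base H y := by
  obtain ⟨Θ, h, -⟩ := B
  exact h.base

omit [Finite W] in
theorem ne_of {g : W ≃ₗ[ZMod 2] W} (b : Base H y) (hg : g ∈ H) {u : W} (u0 : u ≠ 0) (uy : u ≠ y) :
    g u ≠ 0 ∧ g u ≠ y := by
  constructor
  · intro e; rw [← map_zero g] at e; exact u0 (g.injective e)
  · intro e
    have := b.fix g hg
    rw [← this] at e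
    exact uy (g.injective (by rw [e, this]))

/-- an element which maps one vector of the block into the block normalises the block. -/
theorem inv_of (B : Blk H y X) {g : W ≃ₗ[ZMod 2] W} (hg : g ∈ H) {u : W} (hu : u ∈ X) (u0 : u ≠ 0)
    (uy : u ≠ y) (hgu : g u ∈ X) {x : W} (hx : x ∈ X) : g x ∈ X := by
  obtain ⟨n0, ny⟩ := ne_of B.base hg u0 uy
  have := (B.map hg).eq B ⟨u, hu, rfl⟩ hgu n0 ny
  rw [← this]
  exact ⟨x, hx, rfl⟩

/-- every element of `H` which is trivial on the block modulo `y` is trivial on the block. -/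
theorem triv (B : Blk H y X) {g : W ≃ₗ[ZMod 2] W} (hg : g ∈ H) (ht : ∀ x ∈ X, g x = x ∨ g x = x + y)
    {x : W} (hx : x ∈ X) : g x = x := by
  obtain ⟨Θ, h, t1, t2, t3, p1, p2, p3, F, rfl⟩ := B
  by_cases x0 : x = 0
  · rw [x0, map_zero]
  by_cases xy : x = y
  · rw [xy]; exact h.fix g hg
  have hm := F.blk_mem h hx x0 xy
  have hc := F.cd_ne_zero h hx x0 xy
  -- all functionals of the block are `g`-invariant
  have key : ∀ k : T3, k ≠ 0 → tr g (pv p1 p2 p3 k) = pv p1 p2 p3 k := by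
    intro k hk
    obtain ⟨c, c0, hkc⟩ := dec13 k hk
    obtain ⟨d, s⟩ := F.st h c0 hkc
    have s' := h.conj hg s
    have hθ := F.mem h c0
    have cθ : Fr.cd p1 p2 p3 (tv t1 t2 t3 c) ≠ 0 := by
      rw [show Fr.cd p1 p2 p3 (tv t1 t2 t3 c) = c from F.coord c]; exact c0
    have : ∃ d', St H y (tv t1 t2 t3 c) (tr g (pv p1 p2 p3 k)) d' := by
      rcases ht _ (tv_mem_blk y t1 t2 t3 c) with e | e
      · rw [e] at s'; exact ⟨_, s'⟩
      · rw [e] at s'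
        exact st_lift s' (Or.inr (by rw [add_assoc, addself, add_zero]))
    obtain ⟨d', s''⟩ := this
    obtain ⟨k', hk', -⟩ := F.eq_pv h hθ cθ s''
    rw [hk']
    congr 1
    apply dec12
    intro a
    rw [← F.pv_tv k', ← F.pv_tv k, ← hk']
    rcases ht _ (tv_mem_blk y t1 t2 t3 a) with e | e
    · conv_lhs => rw [← e]
      rw [tr_ap]
    · have e1 : tv t1 t2 t3 a = g (tv t1 t2 t3 a + y) := by
        rw [map_add, e, h.fix g hg, add_assoc, addself, add_zero]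
      conv_lhs => rw [e1]
      rw [tr_ap, map_add, F.p_y h, add_zero]
  rcases ht x hx with e | e
  · exact e
  exfalso
  obtain ⟨k, -, c, k0, -, -, hk, -⟩ := dec3 _ hc
  obtain ⟨d, s⟩ := F.st_of h hm hc hk
  obtain ⟨k', rfl, k'0, -, -⟩ := F.d_eq h hm hc k0 s
  have s' := h.conj hg s
  rw [key k k0, key k' k'0, e] at s'
  have s2 := st_shift1 s
  have := h.uniqd (h.swap _ hm) s2 s'
  have h2 : pv p1 p2 p3 k = 0 := by linear_combination (norm := module) this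
  exact F.pv_ne k0 h2

end Blk

end Cfsg.Agent.Omega.FOne.Tvw
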