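import Cfsg.Agent.Omega.FOne.TvwFrame
import Mathlib.Algebra.Group.Prod

/-!
# Lemma TVW (bb OMEGA #15003, helper299): coordinates of the frame
-/

set_option autoImplicit false
set_option linter.unusedSectionVars false

namespace Cfsg.Agent.Omega.FOne.Tvw

abbrev T3 := ZMod 2 × ZMod 2 × ZMod 2

def dot (k c : T3) : ZMod 2 := k.1 * c.1 + k.2.1 * c.2.1 + k.2.2 * c.2.2

set_option synthInstance.maxSize 1000 in
set_option synthInstance.maxHeartbeats 400000 in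
theorem dec1 : ∀ k b : T3, b ≠ 0 → k ≠ 0 → dot k b = 0 →
    ∃ c f : T3, c ≠ 0 ∧ dot k c = 0 ∧ dot f c = 0 ∧ dot f b = 1 := by decide

theorem dec2 : ∀ k : T3, k ≠ 0 → ∃ c : T3, c ≠ 0 ∧ dot k c = 1 := by decide

theorem dec3 : ∀ b : T3, b ≠ 0 → ∃ k₁ k₂ c : T3, k₁ ≠ 0 ∧ k₂ ≠ 0 ∧ c ≠ 0 ∧ dot k₁ b = 0 ∧ dot k₂ b = 0 ∧
    dot k₁ c = 0 ∧ dot k₂ c = 1 := by decide

variable {W : Type*} [AddCommGroup W] [Module (ZMod 2) W]
variable {H : Subgroup (W ≃ₗ[ZMod 2] W)} {y : W} {Θ : Set W}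

def tv (t1 t2 t3 : W) (c : T3) : W := c.1 • t1 + c.2.1 • t2 + c.2.2 • t3

def pv (p1 p2 p3 : W →ₗ[ZMod 2] ZMod 2) (k : T3) : W →ₗ[ZMod 2] ZMod 2 :=
  k.1 • p1 + k.2.1 • p2 + k.2.2 • p3

theorem tv_add (t1 t2 t3 : W) (c c' : T3) : tv t1 t2 t3 (c + c') = tv t1 t2 t3 c + tv t1 t2 t3 c' := by
  simp only [tv, Prod.fst_add, Prod.snd_add]; module

theorem pv_add (p1 p2 p3 : W →ₗ[ZMod 2] ZMod 2) (c c' : T3) :
    pv p1 p2 p3 (c + c') = pv p1 p2 p3 c + pv p1 p2 p3 c' := by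
  simp only [pv, Prod.fst_add, Prod.snd_add]; module

theorem tv_zero (t1 t2 t3 : W) : tv t1 t2 t3 0 = 0 := by simp [tv]

theorem pv_zero (p1 p2 p3 : W →ₗ[ZMod 2] ZMod 2) : pv p1 p2 p3 0 = 0 := by simp [pv]

theorem pv_apply (p1 p2 p3 : W →ₗ[ZMod 2] ZMod 2) (k : T3) (w : W) :
    pv p1 p2 p3 k w = dot k (p1 w, p2 w, p3 w) := by
  simp [pv, dot]

namespace Fr

variable [Finite W] (h : Hyp H y Θ) {t1 t2 t3 : W} {p1 p2 p3 : W →ₗ[ZMod 2] ZMod 2}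
  (F : Fr H y Θ t1 t2 t3 p1 p2 p3)
include h F

omit h [Finite W] in
theorem coord (c : T3) : (p1 (tv t1 t2 t3 c), p2 (tv t1 t2 t3 c), p3 (tv t1 t2 t3 c)) = c := by
  obtain ⟨a, b, c⟩ := c
  simp [tv, F.a11, F.a12, F.a13, F.a21, F.a22, F.a23, F.a31, F.a32, F.a33]

omit h [Finite W] in
theorem pv_tv (k c : T3) : pv p1 p2 p3 k (tv t1 t2 t3 c) = dot k c := by
  rw [pv_apply, F.coord]

omit h [Finite W] in
theorem pv_inj {k k' : T3} (e : pv p1 p2 p3 k = pv p1 p2 p3 k') : k = k' := by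
  by_contra hne
  have h1 : k + k' ≠ 0 := by
    intro h2
    apply hne
    have : ∀ a b : T3, a + b = 0 → a = b := by decide
    exact this _ _ h2
  obtain ⟨c, -, hc⟩ := dec2 _ h1
  rw [← F.pv_tv, pv_add, e, faddself] at hc
  exact zero_ne_one hc

omit h [Finite W] in
theorem pv_ne {k : T3} (hk : k ≠ 0) : pv p1 p2 p3 k ≠ 0 := by
  intro e
  rw [← pv_zero p1 p2 p3] at e
  exact hk (F.pv_inj e)

omit [Finite W] in
theorem p_y (k : T3) : pv p1 p2 p3 k y = 0 := by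
  obtain ⟨d, s⟩ := F.s21
  obtain ⟨d', s'⟩ := F.s12
  obtain ⟨d'', s''⟩ := F.s13
  rw [pv_apply, h.fy F.m2 s, h.fy F.m1 s', h.fy F.m1 s'']
  simp [dot]

omit [Finite W] in
/-- **(G1)** -/
theorem mem {c : T3} (hc : c ≠ 0) : tv t1 t2 t3 c ∈ Θ := by
  have m12 := (h.cjx F.m1 F.m2 F.s12 F.s21 F.a22 F.a11).1
  have m13 := (h.cjx F.m1 F.m3 F.s13 F.s31 F.a33 F.a11).1
  have m23 := (h.cjx F.m2 F.m3 F.s23 F.s32 F.a33 F.a22).1
  have m123 := h.movx m12 F.s31 (by rw [map_add, F.a11, F.a12, add_zero])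
  have e : t3 + (t1 + t2) = t1 + t2 + t3 := by abel
  rw [e] at m123
  obtain ⟨a, b, c⟩ := c
  rcases z2 a with rfl | rfl <;> rcases z2 b with rfl | rfl <;> rcases z2 c with rfl | rfl <;>
    simp only [tv, zero_smul, one_smul, zero_add, add_zero]
  · exact absurd rfl hc
  · exact F.m3
  · exact F.m2
  · exact m23
  · exact F.m1
  · exact m13
  · exact m12
  · exact m123

omit [Finite W] in
/-- **(G2)** -/
theorem st {c k : T3} (hc : c ≠ 0) (hk : dot k c = 0) :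
    ∃ d, St H y (tv t1 t2 t3 c) (pv p1 p2 p3 k) d := by
  have m12 := (h.cjx F.m1 F.m2 F.s12 F.s21 F.a22 F.a11).1
  have m13 := (h.cjx F.m1 F.m3 F.s13 F.s31 F.a33 F.a11).1
  have m23 := (h.cjx F.m2 F.m3 F.s23 F.s32 F.a33 F.a22).1
  have x123 := h.addx F.m1 F.s12 F.s13
  have x213 := h.addx F.m2 F.s21 F.s23
  have x312 := h.addx F.m3 F.s31 F.s32
  have y123 := h.addcx F.m1 F.s13 F.s23 F.a32
  have y132 := h.addcx F.m1 F.s12 F.s32 F.a23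
  have y231 := h.addcx F.m2 F.s21 F.s31 F.a13
  have z12 := (h.cjx F.m1 F.m2 F.s12 F.s21 F.a22 F.a11).2
  have z13 := (h.cjx F.m1 F.m3 F.s13 F.s31 F.a33 F.a11).2
  have z23 := (h.cjx F.m2 F.m3 F.s23 F.s32 F.a33 F.a22).2
  rw [add_comm p2 p1] at z12
  rw [add_comm p3 p1] at z13
  rw [add_comm p3 p2] at z23
  have w12 := h.addx m12 z12 y123
  have w13 := h.addx m13 z13 y132
  have w23 := h.addx m23 y231 z23
  have e1 : p1 + p3 + p2 = p1 + p2 + p3 := by abel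
  have e2 : p1 + (p2 + p3) = p1 + p2 + p3 := by abel
  rw [e1] at w13
  rw [e2] at w23
  have v12 := h.addcx m12 z12 x312 (by rw [LinearMap.add_apply, F.a13, F.a23, add_zero])
  have v13 := h.addcx m13 z13 x213 (by rw [LinearMap.add_apply, F.a12, F.a32, add_zero])
  have v23 := h.addcx m23 z23 x123 (by rw [LinearMap.add_apply, F.a21, F.a31, add_zero])
  have e3 : t1 + t3 + t2 = t1 + t2 + t3 := by abel
  have e4 : t2 + t3 + t1 = t1 + t2 + t3 := by abel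
  rw [e3] at v13
  rw [e4] at v23
  obtain ⟨a, b, c⟩ := c
  obtain ⟨p, q, r⟩ := k
  have s12 := F.s12
  have s13 := F.s13
  have s21 := F.s21
  have s23 := F.s23
  have s31 := F.s31
  have s32 := F.s32
  rcases z2 a with rfl | rfl <;> rcases z2 b with rfl | rfl <;> rcases z2 c with rfl | rfl <;>
    rcases z2 p with rfl | rfl <;> rcases z2 q with rfl | rfl <;> rcases z2 r with rfl | rfl <;>
    simp only [tv, pv, zero_smul, one_smul, zero_add, add_zero] <;>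
    first
      | exact absurd rfl hc
      | exact absurd hk (by decide)
      | exact ⟨0, st_zero⟩
      | assumption

omit h [Finite W] in
theorem tv_ne_zero {c : T3} (hc : c ≠ 0) : tv t1 t2 t3 c ≠ 0 := by
  intro e
  have h1 := F.coord c
  rw [e, map_zero, map_zero, map_zero] at h1
  exact hc h1.symm

/-- coordinates of an element. -/
abbrev cd (p1 p2 p3 : W →ₗ[ZMod 2] ZMod 2) (w : W) : T3 := (p1 w, p2 w, p3 w)

/-- **(G3)** -/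
theorem st_of {σ : W} (hσ : σ ∈ Θ) (hb : cd p1 p2 p3 σ ≠ 0) {k : T3}
    (hk : dot k (cd p1 p2 p3 σ) = 0) : ∃ d, St H y σ (pv p1 p2 p3 k) d := by
  by_cases h0 : k = 0
  · rw [h0, pv_zero]; exact ⟨0, st_zero⟩
  obtain ⟨c, f, hc, h1, h2, h3⟩ := dec1 k _ hb h0 hk
  obtain ⟨d, s⟩ := F.st h hc h2
  obtain ⟨d', s'⟩ := F.st h hc h1
  exact h.share (F.mem h hc) hσ ⟨_, d, s, by rw [pv_apply]; exact h3⟩ s' (F.pv_ne h0)
    (by rw [pv_apply]; exact hk)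

/-- **(G4)** -/
theorem eq_pv {σ : W} (hσ : σ ∈ Θ) (hb : cd p1 p2 p3 σ ≠ 0) {f d : W →ₗ[ZMod 2] ZMod 2}
    (s : St H y σ f d) : ∃ k : T3, f = pv p1 p2 p3 k ∧ dot k (cd p1 p2 p3 σ) = 0 := by
  obtain ⟨k₁, k₂, c, n1, n2, hc, a1, a2, b1, b2⟩ := dec3 _ hb
  obtain ⟨d₁, s₁⟩ := F.st_of h hσ hb a1
  obtain ⟨d₂, s₂⟩ := F.st_of h hσ hb a2
  have r : Rel H y σ (tv t1 t2 t3 c) := ⟨_, _, s₂, by rw [F.pv_tv]; exact b2⟩
  have hτ := F.mem h hc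
  have kz : (0 : T3) = 0 := rfl
  have dz : dot 0 (cd p1 p2 p3 σ) = 0 := by simp [dot]
  have uk : ∀ g e : W →ₗ[ZMod 2] ZMod 2, St H y σ g e → g (tv t1 t2 t3 c) = 0 →
      g = 0 ∨ g = pv p1 p2 p3 k₁ := by
    intro g e sg hg
    by_cases g0 : g = 0
    · exact Or.inl g0
    · exact Or.inr (h.uniq_kill hσ hτ r sg s₁ hg (by rw [F.pv_tv]; exact b1) g0 (F.pv_ne n1))
  have dadd : ∀ a b x : T3, dot (a + b) x = dot a x + dot b x := by decide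
  rcases z2 (f (tv t1 t2 t3 c)) with a | a
  · rcases uk f d s a with h1 | h1
    · exact ⟨0, by rw [h1, pv_zero], dz⟩
    · exact ⟨k₁, h1, a1⟩
  · have s3 := h.add hσ s s₂
    rcases uk _ _ s3 (by rw [LinearMap.add_apply, a, F.pv_tv, b2]; rfl) with h1 | h1
    · exact ⟨k₂, feq_of_add h1, a2⟩
    · refine ⟨k₁ + k₂, ?_, by rw [dadd, a1, a2, add_zero]⟩
      rw [pv_add, ← h1]
      linear_combination (norm := module) (-1 : ZMod 2) • faddself (pv p1 p2 p3 k₂)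

theorem cd_ne_of_rel {σ ρ : W} (hσ : σ ∈ Θ) (hb : cd p1 p2 p3 σ ≠ 0) (hρ : ρ ∈ Θ)
    (r : Rel H y ρ σ) : cd p1 p2 p3 ρ ≠ 0 := by
  obtain ⟨f, d, s, hf⟩ := h.rel_symm hρ hσ r
  obtain ⟨k, rfl, -⟩ := F.eq_pv h hσ hb s
  intro e
  rw [pv_apply] at hf
  rw [show (p1 ρ, p2 ρ, p3 ρ) = (0 : T3) from e] at hf
  simp [dot] at hf

/-- **(G5)** -/
theorem eq_tv {σ : W} (hσ : σ ∈ Θ) (hb : cd p1 p2 p3 σ ≠ 0) :
    σ = tv t1 t2 t3 (cd p1 p2 p3 σ) ∨ σ = tv t1 t2 t3 (cd p1 p2 p3 σ) + y := by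
  set b := cd p1 p2 p3 σ with hbdef
  by_contra hcon
  push Not at hcon
  have hτ := F.mem h hb
  obtain ⟨k₁, k₂, c, n1, -, -, a1, -⟩ := dec3 _ hb
  obtain ⟨d₁, s₁⟩ := F.st h hb a1
  obtain ⟨d₂, s₂⟩ := F.st_of h hσ hb a1
  obtain ⟨ρ, hρ, k', e, sρ, h1⟩ := h.exists_move hτ s₁ s₂ (F.pv_ne n1)
    (fun e => hcon.1 (eq_of_add_eq_zero' e).symm)
    (fun e => hcon.2 (by
      rw [← e]
      linear_combination (norm := module) (-1 : ZMod 2) • addself (tv t1 t2 t3 b)))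
  have hcτ : cd p1 p2 p3 (tv t1 t2 t3 b) ≠ 0 := by
    rw [show cd p1 p2 p3 (tv t1 t2 t3 b) = b from F.coord b]; exact hb
  have hρc : cd p1 p2 p3 ρ ≠ 0 := by
    rw [map_add] at h1
    rcases z2 (k' (tv t1 t2 t3 b)) with a | a
    · rw [a, zero_add] at h1
      exact F.cd_ne_of_rel h hσ hb hρ ⟨k', e, sρ, h1⟩
    · exact F.cd_ne_of_rel h hτ hcτ hρ ⟨k', e, sρ, a⟩
  obtain ⟨k, rfl, -⟩ := F.eq_pv h hρ hρc sρ
  rw [map_add, F.pv_tv, pv_apply] at h1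
  rw [show (p1 σ, p2 σ, p3 σ) = b from rfl, z2add] at h1
  exact zero_ne_one h1

/-- **(G6)** the second functional. -/
theorem d_eq {σ : W} (hσ : σ ∈ Θ) (hb : cd p1 p2 p3 σ ≠ 0) {k : T3} (hk : k ≠ 0)
    {d : W →ₗ[ZMod 2] ZMod 2} (s : St H y σ (pv p1 p2 p3 k) d) :
    ∃ k' : T3, d = pv p1 p2 p3 k' ∧ k' ≠ 0 ∧ k' ≠ k ∧ dot k' (cd p1 p2 p3 σ) = 0 := by
  have hne := F.pv_ne hk
  obtain ⟨n1, n2⟩ := h.d_ne hσ s hne
  obtain ⟨θ', hθ', h1⟩ := h.exists_one hσ s hne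
  have hdσ := h.dth hσ s
  obtain ⟨θ₁, hθ₁, or1, d₁, s₁, hd₁⟩ := h.norm hσ s h1
  have hb₁ : cd p1 p2 p3 θ₁ ≠ 0 := by
    have hy : ∀ k, pv p1 p2 p3 k y = 0 := fun k => F.p_y h k
    rcases or1 with rfl | rfl
    · exact hb
    · have e1 : p1 y = 0 := by have := hy (1, 0, 0); simpa [pv] using this
      have e2 : p2 y = 0 := by have := hy (0, 1, 0); simpa [pv] using this
      have e3 : p3 y = 0 := by have := hy (0, 0, 1); simpa [pv] using this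
      simp only [cd, map_add, e1, e2, e3, add_zero]
      exact hb
  have r : Rel H y θ₁ θ' := ⟨_, _, s₁, h1⟩
  obtain ⟨g, e, sg, ng, hg⟩ := h.exists_kill hθ₁ r
  have h2 := h.delta_eq hθ₁ hθ' s₁ h1 hd₁ sg ng hg
  obtain ⟨k₁, hk₁, -⟩ := F.eq_pv h hθ₁ hb₁ sg
  have key : ∃ k', d = pv p1 p2 p3 k' := by
    rcases or1 with rfl | rfl
    · exact ⟨k₁, by rw [h.uniqd hσ s s₁, h2, hk₁]⟩
    · have s2 := st_shift1 s₁
      rw [add_assoc, addself, add_zero] at s2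
      refine ⟨k₁ + k, ?_⟩
      rw [h.uniqd hσ s s2, pv_add, h2, hk₁]
  obtain ⟨k', hk'⟩ := key
  refine ⟨k', hk', ?_, ?_, ?_⟩
  · rintro rfl
    exact n1 (by rw [hk', pv_zero])
  · rintro rfl
    exact n2 hk'
  · rw [hk', pv_apply] at hdσ
    exact hdσ

end Fr

end Cfsg.Agent.Omega.FOne.Tvw
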