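import Cfsg.Agent.Omega.FOne.TvwTwo

/-!
# Lemma TVW (bb OMEGA #15003, helper299): step (7), the frame of `SL₃(2)`
-/

set_option autoImplicit false
set_option linter.unusedSectionVars false

namespace Cfsg.Agent.Omega.FOne.Tvw

variable {W : Type*} [AddCommGroup W] [Module (ZMod 2) W]
variable {H : Subgroup (W ≃ₗ[ZMod 2] W)} {y : W} {Θ : Set W}

theorem st_lift {θ ρ : W} {f d : W →ₗ[ZMod 2] ZMod 2} (s : St H y θ f d) (hor : ρ = θ ∨ ρ = θ + y) :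
    ∃ d', St H y ρ f d' := by
  rcases hor with rfl | rfl
  · exact ⟨d, s⟩
  · exact ⟨_, st_shift1 s⟩

theorem lift_symm {θ ρ : W} (hor : ρ = θ ∨ ρ = θ + y) : θ = ρ ∨ θ = ρ + y := by
  rcases hor with rfl | rfl
  · exact Or.inl rfl
  · right; rw [add_assoc, addself, add_zero]

theorem f_lift {θ ρ : W} {f : W →ₗ[ZMod 2] ZMod 2} (hf : f y = 0) (hor : ρ = θ ∨ ρ = θ + y) :
    f ρ = f θ := by
  rcases hor with rfl | rfl
  · rfl
  · rw [map_add, hf, add_zero]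

variable [Finite W] (h : Hyp H y Θ)
include h

theorem Hyp.uniqd {θ : W} (hθ : θ ∈ Θ) {f d d' : W →ₗ[ZMod 2] ZMod 2} (s : St H y θ f d)
    (s' : St H y θ f d') : d = d' := by
  have h1 := h.add hθ s s'
  rw [faddself] at h1
  exact feq_of_add (h.uniq h1)

/-- **(7a)** -/
theorem Hyp.delta_eq {θ θ' : W} (hθ : θ ∈ Θ) (hθ' : θ' ∈ Θ) {f d g e : W →ₗ[ZMod 2] ZMod 2}
    (s : St H y θ f d) (hf : f θ' = 1) (hd : d θ' = 0) (sg : St H y θ g e) (hg : g ≠ 0)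
    (hg' : g θ' = 0) : d = g := by
  have r : Rel H y θ θ' := ⟨f, d, s, hf⟩
  have s1 := h.add hθ s sg
  have e1 := h.five hθ hθ' s s1 hf (by rw [LinearMap.add_apply, hf, hg', add_zero])
    (fun e => hg (by simpa using e.symm))
  have e0 : d + (d + e) = e := by linear_combination (norm := module) faddself d
  rw [e0] at e1
  obtain ⟨ρ, hρ, hgρ⟩ := h.exists_one hθ sg hg
  have r2 : Rel H y θ ρ := ⟨g, e, sg, hgρ⟩
  obtain ⟨g₂, e₂, s₂, n₂, hg₂⟩ := h.exists_kill hθ r2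
  have s3 := h.add hθ sg s₂
  have e2 := h.five hθ hρ sg s3 hgρ (by rw [LinearMap.add_apply, hgρ, hg₂, add_zero])
    (fun e => n₂ (by simpa using e.symm))
  have e0' : e + (e + e₂) = e₂ := by linear_combination (norm := module) faddself e
  rw [e0'] at e2
  have h1 : g₂ θ' = 1 := by
    refine (z2 _).resolve_left fun h0 => ?_
    have := h.uniq_kill hθ hθ' r s₂ sg h0 hg' n₂ hg
    rw [this, hgρ] at hg₂
    exact one_ne_zero hg₂
  have hfne := ne_of_one hf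
  obtain ⟨n1, n2⟩ := h.d_ne hθ s hfne
  have key : d = g ∨ d = g + f := by
    by_cases h2 : g₂ + f = 0
    · have h3 : g₂ = f := feq_of_add h2
      rw [h3] at s₂ e2
      have h4 := h.uniqd hθ s s₂
      rw [h4]; exact e2
    · have h3 := h.uniq_kill hθ hθ' r (h.add hθ s₂ s) sg
        (by rw [LinearMap.add_apply, h1, hf]; rfl) hg' h2 hg
      have h4 : g₂ = f + g := by linear_combination (norm := module) h3 - faddself f
      rw [h4] at s₂ e2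
      have h5 := h.uniqd hθ s1 s₂
      -- `d + e = e₂`
      rcases e1 with a | a <;> rcases e2 with b | b <;> rw [← h5, a] at b
      · right; linear_combination (norm := module) b - faddself f
      · exfalso; apply n1
        linear_combination (norm := module) b + faddself g
      · exfalso; apply n2
        linear_combination (norm := module) b - faddself f
      · left
        linear_combination (norm := module) b
  rcases key with a | a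
  · exact a
  · exfalso
    rw [a, LinearMap.add_apply, hf, hg', zero_add] at hd
    exact one_ne_zero hd

/-- **(7b)** -/
theorem Hyp.share {θ θ' : W} (hθ : θ ∈ Θ) (hθ' : θ' ∈ Θ) (r : Rel H y θ θ')
    {g e : W →ₗ[ZMod 2] ZMod 2} (sg : St H y θ g e) (hg : g ≠ 0) (hg' : g θ' = 0) :
    ∃ e', St H y θ' g e' := by
  obtain ⟨f', d', s', hf'⟩ := h.rel_symm hθ hθ' r
  obtain ⟨f, d, s, hf⟩ := r
  obtain ⟨θ₁, hθ₁, or1, d₁, s₁, hd₁⟩ := h.norm hθ s hf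
  obtain ⟨θ₂, hθ₂, or2, d₂, s₂, hd₂⟩ := h.norm hθ' s' hf'
  have hfy := h.fy hθ s
  have hfy' := h.fy hθ' s'
  have hgy := h.fy hθ sg
  have hdy₁ := h.dy hθ₁ s₁
  have hdy₂ := h.dy hθ₂ s₂
  have a1 : f θ₂ = 1 := by rw [f_lift hfy or2, hf]
  have a2 : f' θ₁ = 1 := by rw [f_lift hfy' or1, hf']
  have a3 : d₁ θ₂ = 0 := by rw [f_lift hdy₁ or2, hd₁]
  have a4 : d₂ θ₁ = 0 := by rw [f_lift hdy₂ or1, hd₂]
  have h1 := h.key hθ₁ hθ₂ s₁ s₂ a1 a2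
  rw [a3, a4, zero_smul, zero_smul, add_zero] at h1
  have h2 : d₁ = d₂ := feq_of_add h1
  obtain ⟨e₁, sg₁⟩ := st_lift sg or1
  have h3 := h.delta_eq hθ₁ hθ₂ s₁ a1 a3 sg₁ hg (by rw [f_lift hgy or2, hg'])
  have r2 : Rel H y θ₂ θ₁ := ⟨f', d₂, s₂, a2⟩
  obtain ⟨g₂, e₂, sg₂, n₂, hg₂⟩ := h.exists_kill hθ₂ r2
  have h4 := h.delta_eq hθ₂ hθ₁ s₂ a2 a4 sg₂ n₂ hg₂
  have h5 : g₂ = g := by rw [← h4, ← h2, h3]
  rw [h5] at sg₂
  exact st_lift sg₂ (lift_symm or2)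

/-- A frame of `SL₃(2)`. -/
structure Fr (H : Subgroup (W ≃ₗ[ZMod 2] W)) (y : W) (Θ : Set W) (t1 t2 t3 : W)
    (p1 p2 p3 : W →ₗ[ZMod 2] ZMod 2) : Prop where
  m1 : t1 ∈ Θ
  m2 : t2 ∈ Θ
  m3 : t3 ∈ Θ
  a11 : p1 t1 = 1
  a12 : p1 t2 = 0
  a13 : p1 t3 = 0
  a21 : p2 t1 = 0
  a22 : p2 t2 = 1
  a23 : p2 t3 = 0
  a31 : p3 t1 = 0
  a32 : p3 t2 = 0
  a33 : p3 t3 = 1
  s12 : ∃ d, St H y t1 p2 d
  s13 : ∃ d, St H y t1 p3 d
  s21 : ∃ d, St H y t2 p1 d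
  s23 : ∃ d, St H y t2 p3 d
  s31 : ∃ d, St H y t3 p1 d
  s32 : ∃ d, St H y t3 p2 d

/-- **(7c)** -/
theorem Hyp.exists_fr {θ : W} (hθ : θ ∈ Θ) {f d : W →ₗ[ZMod 2] ZMod 2} (s : St H y θ f d)
    (hf : f ≠ 0) : ∃ t2 t3 p1 p2 p3, Fr H y Θ θ t2 t3 p1 p2 p3 := by
  obtain ⟨θ', hθ', hf'⟩ := h.exists_one hθ s hf
  have r : Rel H y θ θ' := ⟨f, d, s, hf'⟩
  obtain ⟨g, e, sg, ng, hg⟩ := h.exists_kill hθ r
  obtain ⟨ν, hν, hgν⟩ := h.exists_one hθ sg ng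
  obtain ⟨e', sg'⟩ := h.share hθ hθ' r sg ng hg
  have r1 : Rel H y θ ν := ⟨g, e, sg, hgν⟩
  have r2 : Rel H y θ' ν := ⟨g, e', sg', hgν⟩
  obtain ⟨k, dk, sk, nk, hk⟩ := h.exists_kill hθ r1
  obtain ⟨k', dk', sk', nk', hk'⟩ := h.exists_kill hθ' r2
  have sh1 := h.share hθ hν r1 sk nk hk
  have sh2 := h.share hθ' hν r2 sk' nk' hk'
  have hkθ' : k θ' = 1 := by
    refine (z2 _).resolve_left fun h0 => ?_
    have := h.uniq_kill hθ hθ' r sk sg h0 hg nk ng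
    rw [this, hgν] at hk
    exact one_ne_zero hk
  have hk'θ : k' θ = 1 := by
    refine (z2 _).resolve_left fun h0 => ?_
    have := h.uniq_kill hθ' hθ (h.rel_symm hθ hθ' r) sk' sg' h0 (h.fth hθ sg) nk' ng
    rw [this, hgν] at hk'
    exact one_ne_zero hk'
  exact ⟨θ', ν, k', k, g, hθ, hθ', hν, hk'θ, h.fth hθ' sk', hk', h.fth hθ sk, hkθ', hk,
    h.fth hθ sg, hg, hgν, ⟨_, sk⟩, ⟨_, sg⟩, ⟨_, sk'⟩, ⟨_, sg'⟩, sh2, sh1⟩

/-! ### All centres and functionals of the frame -/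

omit [Finite W] in
theorem Hyp.addx {θ : W} (hθ : θ ∈ Θ) {f g : W →ₗ[ZMod 2] ZMod 2} (s : ∃ d, St H y θ f d)
    (s' : ∃ d, St H y θ g d) : ∃ d, St H y θ (f + g) d := by
  obtain ⟨d, s⟩ := s
  obtain ⟨d', s'⟩ := s'
  exact ⟨_, h.add hθ s s'⟩

omit [Finite W] in
theorem Hyp.addcx {θ θ' : W} (hθ : θ ∈ Θ) {f : W →ₗ[ZMod 2] ZMod 2} (s : ∃ d, St H y θ f d)
    (s' : ∃ d, St H y θ' f d) (hf : f θ' = 0) : ∃ d, St H y (θ + θ') f d := by
  obtain ⟨d, s⟩ := s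
  obtain ⟨d', s'⟩ := s'
  exact ⟨_, h.addc hθ s s' hf⟩

omit [Finite W] in
theorem Hyp.cjx {θ θ' : W} (hθ : θ ∈ Θ) (hθ' : θ' ∈ Θ) {f f' : W →ₗ[ZMod 2] ZMod 2}
    (s : ∃ d, St H y θ f d) (s' : ∃ d, St H y θ' f' d) (h1 : f θ' = 1) (h2 : f' θ = 1) :
    θ + θ' ∈ Θ ∧ ∃ d, St H y (θ + θ') (f + f') d := by
  obtain ⟨d, s⟩ := s
  obtain ⟨d', s'⟩ := s'
  obtain ⟨c1, c2⟩ := h.cj hθ hθ' s s'
  rw [h1, h2, one_smul, one_smul] at c2
  rw [h1, one_smul] at c1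
  have m := h.mem_add c1 (d θ')
  have s1 := st_shift (d θ') c2
  have e : θ' + θ + d θ' • y + d θ' • y = θ + θ' := by
    linear_combination (norm := module) d θ' • addself y
  rw [e] at m s1
  rw [add_comm f' f] at s1
  exact ⟨m, _, s1⟩

omit [Finite W] in
/-- moving a centre. -/
theorem Hyp.movx {θ θ' : W} (hθ' : θ' ∈ Θ) {f : W →ₗ[ZMod 2] ZMod 2}
    (s : ∃ d, St H y θ f d) (h1 : f θ' = 1) : θ + θ' ∈ Θ := by
  obtain ⟨d, g, hg, e⟩ := s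
  have m := h.mem_add (h.mem θ' hθ' g hg) (d θ')
  rw [e θ', h1, one_smul] at m
  have e : θ' + θ + d θ' • y + d θ' • y = θ + θ' := by
    linear_combination (norm := module) d θ' • addself y
  rwa [e] at m

end Cfsg.Agent.Omega.FOne.Tvw
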