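import Cfsg.Agent.Omega.FOne.TvwBlock

/-!
# Lemma TVW (bb OMEGA #15003, helper299): the action on a block
-/

set_option autoImplicit false
set_option linter.unusedSectionVars false

namespace Cfsg.Agent.Omega.FOne.Tvw

variable {W : Type*} [AddCommGroup W] [Module (ZMod 2) W]
variable {H : Subgroup (W ≃ₗ[ZMod 2] W)} {y : W} {Θ : Set W}

theorem sm_eq (e : ZMod 2) (c : T3) : sm e c = e • c := by
  obtain ⟨a, b, c⟩ := c
  rfl

theorem lin_unit (a b c : T3) (A : T3 →+ T3) (ha : A (1, 0, 0) = a) (hb : A (0, 1, 0) = b)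
    (hc : A (0, 0, 1) = c) (z : T3) : A z = lin a b c z := by
  obtain ⟨z1, z2', z3⟩ := z
  have e : ((z1, z2', z3) : T3) = z1 • ((1, 0, 0) : T3) + z2' • ((0, 1, 0) : T3) + z3 • ((0, 0, 1) : T3) := by
    simp
  have sA : ∀ (e : ZMod 2) (v : T3), A (e • v) = e • A v := by
    intro e v
    rcases z2 e with rfl | rfl
    · rw [zero_smul, zero_smul, map_zero]
    · rw [one_smul, one_smul]
  rw [e, map_add, map_add, sA, sA, sA, ha, hb, hc]
  simp only [lin, sm_eq]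
  simp

/-- an involution of `𝔽₂³` is a transvection -/
theorem inv_tv (A : T3 →+ T3) (h2 : ∀ z, A (A z) = z) (hne : ∃ z, A z ≠ z) :
    ∃ k u : T3, k ≠ 0 ∧ u ≠ 0 ∧ dot k u = 0 ∧ ∀ z, A z = z + dot k z • u := by
  have hl := lin_unit _ _ _ A rfl rfl rfl
  have h1 : A (1, 0, 0) ≠ (1, 0, 0) ∨ A (0, 1, 0) ≠ (0, 1, 0) ∨ A (0, 0, 1) ≠ (0, 0, 1) := by
    by_contra hcon
    push Not at hcon
    obtain ⟨a, b, c⟩ := hcon
    obtain ⟨z, hz⟩ := hne
    apply hz
    rw [hl, a, b, c]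
    obtain ⟨z1, z2', z3⟩ := z
    simp [lin, sm]
  obtain ⟨k, u, ⟨k0, u0⟩, hku, e1, e2, e3⟩ := dec5 _ _ _ (by rw [← hl, h2]) (by rw [← hl, h2])
    (by rw [← hl, h2]) h1
  refine ⟨k, u, k0, u0, hku, fun z => ?_⟩
  rw [hl, e1, e2, e3]
  obtain ⟨z1, z2', z3⟩ := z
  obtain ⟨k1, k2, k3⟩ := k
  obtain ⟨u1, u2, u3⟩ := u
  simp only [lin, sm, dot, Prod.mk_add_mk, Prod.smul_mk, smul_eq_mul]
  ext <;> ring

namespace Fr

variable [Finite W] (h : Hyp H y Θ) {t1 t2 t3 : W} {p1 p2 p3 : W →ₗ[ZMod 2] ZMod 2}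
  (F : Fr H y Θ t1 t2 t3 p1 p2 p3)
include h F

/-- **(inv)** an involution of the block is induced by a transvection of the frame. -/
theorem inv {g : W ≃ₗ[ZMod 2] W} (hg : g ∈ H) (hX : ∀ x ∈ blk y t1 t2 t3, g x ∈ blk y t1 t2 t3)
    (h2 : ∀ x ∈ blk y t1 t2 t3, g (g x) = x) (hne : ∃ x ∈ blk y t1 t2 t3, g x ≠ x) :
    ∃ k k' c : T3, k ≠ 0 ∧ c ≠ 0 ∧ k' ≠ 0 ∧ k' ≠ k ∧ dot k c = 0 ∧ dot k' c = 0 ∧
      St H y (tv t1 t2 t3 c) (pv p1 p2 p3 k) (pv p1 p2 p3 k') ∧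
      ∀ x ∈ blk y t1 t2 t3, g x = x + pv p1 p2 p3 k x • tv t1 t2 t3 c + pv p1 p2 p3 k' x • y := by
  have B : Blk H y (blk y t1 t2 t3) := ⟨Θ, h, t1, t2, t3, p1, p2, p3, F, rfl⟩
  let A : T3 →+ T3 :=
    { toFun := fun z => cd p1 p2 p3 (g (tv t1 t2 t3 z))
      map_zero' := by rw [tv_zero, map_zero]; simp [cd]
      map_add' := fun a b => by rw [tv_add, map_add, cd_add] }
  have hA : ∀ z, A z = cd p1 p2 p3 (g (tv t1 t2 t3 z)) := fun _ => rfl
  have hgA : ∀ z, g (tv t1 t2 t3 z) = tv t1 t2 t3 (A z) ∨ g (tv t1 t2 t3 z) = tv t1 t2 t3 (A z) + y := by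
    intro z
    rw [hA]
    exact (F.blk_iff h).mp (hX _ (tv_mem_blk _ _ _ _ _))
  have hAA : ∀ z, A (A z) = z := by
    intro z
    have e1 := h2 _ (tv_mem_blk y t1 t2 t3 z)
    have e2 : cd p1 p2 p3 (g (g (tv t1 t2 t3 z))) = A (A z) := by
      rcases hgA z with e | e
      · rw [e, hA (A z)]
      · rw [e, hA (A z), map_add, h.fix g hg, cd_add, F.cd_y h, add_zero]
    rw [← e2, e1]
    exact F.coord z
  have hAne : ∃ z, A z ≠ z := by
    by_contra hcon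
    push Not at hcon
    obtain ⟨x, hx, hgx⟩ := hne
    apply hgx
    refine B.triv hg ?_ hx
    rintro _ ⟨c, e, rfl⟩
    have h1 := hgA c
    rw [hcon c] at h1
    rw [map_add, map_smul, h.fix g hg]
    rcases h1 with h1 | h1 <;> rw [h1]
    · left; rfl
    · right; abel
  obtain ⟨k, c, k0, c0, hkc, hk⟩ := inv_tv A hAA hAne
  obtain ⟨d, s⟩ := F.st h c0 hkc
  have hθ := F.mem h c0
  have cθ : cd p1 p2 p3 (tv t1 t2 t3 c) ≠ 0 := by
    rw [show cd p1 p2 p3 (tv t1 t2 t3 c) = c from F.coord c]; exact c0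
  obtain ⟨k', rfl, k'0, k'k, hk'⟩ := F.d_eq h hθ cθ k0 s
  rw [show cd p1 p2 p3 (tv t1 t2 t3 c) = c from F.coord c] at hk'
  refine ⟨k, k', c, k0, c0, k'0, k'k, hkc, hk', s, ?_⟩
  obtain ⟨t, ht, et⟩ := s
  have hsq := h.sq hθ ht et
  -- `t * g` is trivial on the block modulo `y`
  have key : ∀ x ∈ blk y t1 t2 t3, (t * g) x = x ∨ (t * g) x = x + y := by
    rintro _ ⟨a, e, rfl⟩
    rw [LinearEquiv.mul_apply, map_add, map_smul, h.fix g hg, map_add, map_smul, h.fix t ht]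
    have h3 : t (g (tv t1 t2 t3 a)) = tv t1 t2 t3 a ∨ t (g (tv t1 t2 t3 a)) = tv t1 t2 t3 a + y := by
      have h4 : t (tv t1 t2 t3 (A a)) = tv t1 t2 t3 a ∨ t (tv t1 t2 t3 (A a)) = tv t1 t2 t3 a + y := by
        rw [et, F.pv_tv, hk a, dadd', tv_add, tv_smul]
        have e4 : dot k (dot k a • c) = 0 := by
          rcases z2 (dot k a) with e | e <;> rw [e]
          · rw [zero_smul, dot_zero]
          · rw [one_smul, hkc]
        rw [e4, add_zero]
        have e5 : tv t1 t2 t3 a + dot k a • tv t1 t2 t3 c + dot k a • tv t1 t2 t3 c = tv t1 t2 t3 a := by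
          rw [add_assoc, addself, add_zero]
        rw [e5]
        rcases z2 (pv p1 p2 p3 k' (tv t1 t2 t3 a + dot k a • tv t1 t2 t3 c)) with e | e <;> rw [e]
        · left; rw [zero_smul, add_zero]
        · right; rw [one_smul]
      rcases hgA a with e | e
      · rw [e]; exact h4
      · rw [e, map_add, h.fix t ht]
        rcases h4 with h4 | h4 <;> rw [h4]
        · right; rfl
        · left; rw [add_assoc, addself, add_zero]
    rcases h3 with h3 | h3 <;> rw [h3]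
    · left; rfl
    · right; abel
  intro x hx
  have h5 := B.triv (H.mul_mem ht hg) key hx
  rw [LinearEquiv.mul_apply] at h5
  have h6 := congrArg t h5
  have h7 : t (t (g x)) = g x := by
    have := congrArg (fun e : W ≃ₗ[ZMod 2] W => e (g x)) hsq
    simpa using this
  rw [h7] at h6
  rw [h6, et]

end Fr

end Cfsg.Agent.Omega.FOne.Tvw
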