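import Cfsg.Agent.Omega.FOne.TvwBasic
import Mathlib.Tactic.Abel

/-!
# Lemma TVW (bb OMEGA #15003, helper299): steps (1), (3), (4), (5)
-/

set_option autoImplicit false
set_option linter.unusedSectionVars false

namespace Cfsg.Agent.Omega.FOne.Tvw

variable {W : Type*} [AddCommGroup W] [Module (ZMod 2) W]
variable {H : Subgroup (W ≃ₗ[ZMod 2] W)} {y : W} {Θ : Set W}

instance [Finite W] : Finite (W →ₗ[ZMod 2] ZMod 2) :=
  Finite.of_injective (fun f => (f : W → ZMod 2)) DFunLike.coe_injective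

def AA (H : Subgroup (W ≃ₗ[ZMod 2] W)) (y θ : W) : Set (W →ₗ[ZMod 2] ZMod 2) := {f | ∃ d, St H y θ f d}

def BB (H : Subgroup (W ≃ₗ[ZMod 2] W)) (y θ : W) : Set (W →ₗ[ZMod 2] ZMod 2) := {f | St H y θ f 0}

def Rel (H : Subgroup (W ≃ₗ[ZMod 2] W)) (y θ θ' : W) : Prop := ∃ f d, St H y θ f d ∧ f θ' = 1

def RelB (H : Subgroup (W ≃ₗ[ZMod 2] W)) (y θ θ' : W) : Prop := ∃ f, St H y θ f 0 ∧ f θ' = 1

theorem Hyp.mem_add (h : Hyp H y Θ) {θ : W} (hθ : θ ∈ Θ) (c : ZMod 2) : θ + c • y ∈ Θ := by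
  rcases z2 c with rfl | rfl
  · rwa [zero_smul, add_zero]
  · rw [one_smul]; exact h.swap θ hθ

variable [Finite W] (h : Hyp H y Θ)
include h

theorem Hyp.ncard_AA_le {θ θ' : W} (hθ : θ ∈ Θ) (hθ' : θ' ∈ Θ) :
    (AA H y θ).ncard ≤ (AA H y θ').ncard := by
  obtain ⟨k, hk, rfl⟩ := h.trans θ hθ θ' hθ'
  refine Set.ncard_le_ncard_of_injOn (tr k) ?_ (fun _ _ _ _ e => tr_inj e) (Set.toFinite _)
  rintro f ⟨d, s⟩
  exact ⟨_, h.conj hk s⟩

theorem Hyp.ncard_BB_le {θ θ' : W} (hθ : θ ∈ Θ) (hθ' : θ' ∈ Θ) :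
    (BB H y θ).ncard ≤ (BB H y θ').ncard := by
  obtain ⟨k, hk, rfl⟩ := h.trans θ hθ θ' hθ'
  refine Set.ncard_le_ncard_of_injOn (tr k) ?_ (fun _ _ _ _ e => tr_inj e) (Set.toFinite _)
  rintro f s
  have := h.conj hk s
  rwa [tr_zero] at this

/-- **(1)** the relation is symmetric. -/
theorem Hyp.rel_symm {θ θ' : W} (hθ : θ ∈ Θ) (hθ' : θ' ∈ Θ) (r : Rel H y θ θ') : Rel H y θ' θ := by
  obtain ⟨f, d, s, h1⟩ := r
  by_contra hcon
  have h0 : ∀ f' d', St H y θ' f' d' → f' θ = 0 := fun f' d' s' =>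
    (z2 _).resolve_right fun h2 => hcon ⟨f', d', s', h2⟩
  have hsub : AA H y θ' ⊆ AA H y θ := by
    rintro f' ⟨d', s'⟩
    have c := (h.cj hθ hθ' s s').2
    rw [h1, h0 f' d' s', zero_smul, add_zero, one_smul] at c
    have hz : f' (θ' + θ + d θ' • y) = 0 := by
      rw [map_add, map_add, map_smul, h.fth hθ' s', h0 f' d' s', h.fy hθ' s']; simp
    have c2 := st_shift (d θ') (h.addc hθ' s' c hz)
    have e : θ' + (θ' + θ + d θ' • y) + d θ' • y = θ := by
      linear_combination (norm := module) addself θ' + d θ' • addself y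
    rw [e] at c2
    exact ⟨_, c2⟩
  have heq : AA H y θ' = AA H y θ :=
    Set.eq_of_subset_of_ncard_le hsub (h.ncard_AA_le hθ hθ') (Set.toFinite _)
  have h2 : f ∈ AA H y θ' := by rw [heq]; exact ⟨d, s⟩
  obtain ⟨d'', s''⟩ := h2
  have h3 := h.fth hθ' s''
  rw [h1] at h3
  exact one_ne_zero h3

theorem Hyp.relB_symm {θ θ' : W} (hθ : θ ∈ Θ) (hθ' : θ' ∈ Θ) (r : RelB H y θ θ') : RelB H y θ' θ := by
  obtain ⟨f, s, h1⟩ := r
  by_contra hcon
  have h0 : ∀ f', St H y θ' f' 0 → f' θ = 0 := fun f' s' =>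
    (z2 _).resolve_right fun h2 => hcon ⟨f', s', h2⟩
  have hsub : BB H y θ' ⊆ BB H y θ := by
    rintro f' s'
    have c := (h.cj hθ hθ' s s').2
    rw [h1, h0 f' s', zero_smul, add_zero, one_smul, LinearMap.zero_apply, LinearMap.zero_apply,
      zero_smul, zero_smul, add_zero, add_zero] at c
    have hz : f' (θ' + θ) = 0 := by
      rw [map_add, h.fth hθ' s', h0 f' s', add_zero]
    have c2 := h.addc hθ' s' c hz
    have e : θ' + (θ' + θ) = θ := by
      linear_combination (norm := module) addself θ'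
    rw [e, LinearMap.zero_apply, zero_smul, add_zero, add_zero] at c2
    exact c2
  have heq : BB H y θ' = BB H y θ :=
    Set.eq_of_subset_of_ncard_le hsub (h.ncard_BB_le hθ hθ') (Set.toFinite _)
  have h2 : f ∈ BB H y θ' := by rw [heq]; exact s
  have h3 := h.fth hθ' h2
  rw [h1] at h3
  exact one_ne_zero h3

theorem Hyp.relB_add {θ θ' : W} (hθ : θ ∈ Θ) (r : RelB H y θ θ') : RelB H y θ (θ' + y) := by
  obtain ⟨f, s, h1⟩ := r
  exact ⟨f, s, by rw [map_add, h1, h.fy hθ s, add_zero]⟩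

theorem Hyp.BB_inter {θ : W} (hθ : θ ∈ Θ) {f : W →ₗ[ZMod 2] ZMod 2} (s : St H y θ f 0)
    (s' : St H y (θ + y) f 0) : f = 0 := by
  have s1 := st_shift1 s
  have s2 := h.add (h.swap θ hθ) s1 s'
  rw [faddself, zero_add, add_zero] at s2
  exact h.uniq s2

/-- **(3)** There is no `W`-transvection. -/
theorem Hyp.noW {θ : W} (hθ : θ ∈ Θ) {f : W →ₗ[ZMod 2] ZMod 2} (s : St H y θ f 0) : f = 0 := by
  by_contra hf
  obtain ⟨θ', hθ', h1⟩ := h.exists_one hθ s hf
  have hθy := h.swap θ hθ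
  have hθy' := h.swap θ' hθ'
  have r1 : RelB H y θ θ' := ⟨f, s, h1⟩
  have r2 := h.relB_symm hθ hθ' r1
  have r3 : RelB H y (θ + y) θ' := h.relB_symm hθ' hθy (h.relB_add hθ' r2)
  have r4 : RelB H y (θ' + y) θ := h.relB_symm hθ hθy' (h.relB_add hθ r1)
  obtain ⟨f', s', h1'⟩ := r2
  obtain ⟨g, sg, hg⟩ := r3
  obtain ⟨g', sg', hg'⟩ := r4
  have key : ∀ f g : W →ₗ[ZMod 2] ZMod 2, St H y θ f 0 → f θ' = 1 → St H y (θ + y) g 0 → g θ' = 1 →
      f + g = f' + g' := by
    intro f g s h1 sg hg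
    have gy := h.fy hθy sg
    have fy := h.fy hθ s
    have f'y := h.fy hθ' s'
    have g'y := h.fy hθy' sg'
    have c1 := h.cj hθ hθ' s s'
    have c2 := h.cj hθy hθy' sg sg'
    have c3 := h.cj hθy hθ' sg s'
    have c4 := h.cj hθ hθy' s sg'
    simp only [map_add, h1, h1', hg, hg', gy, fy, f'y, g'y, add_zero, one_smul, zero_smul,
      LinearMap.zero_apply] at c1 c2 c3 c4
    have e2 : θ' + y + (θ + y) = θ' + θ := by linear_combination (norm := module) addself y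
    have e3 : θ' + (θ + y) = θ' + θ + y := by module
    have e4 : θ' + y + θ = θ' + θ + y := by module
    rw [e2] at c2
    rw [e3] at c3
    rw [e4] at c4
    have s12 := h.add c1.1 c1.2 c2.2
    have s34 := h.add c3.1 c3.2 c4.2
    rw [add_zero] at s12 s34
    have e5 : f' + g + (g' + f) = f' + f + (g' + g) := by abel
    rw [e5] at s34
    have h5 := h.BB_inter c1.1 s12 s34
    have h6 : f + g + (f' + g') = 0 := by rw [← h5]; abel
    exact feq_of_add h6
  have kf := key f g s h1 sg hg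
  have uf : ∀ k : W →ₗ[ZMod 2] ZMod 2, St H y θ k 0 → k ≠ 0 → k = f := by
    intro k sk hk
    rcases z2 (k θ') with a | a
    · exfalso
      have s5 := h.add hθ s sk
      rw [add_zero] at s5
      have h5 := key (f + k) g s5 (by rw [LinearMap.add_apply, h1, a, add_zero]) sg hg
      apply hk
      rw [← kf] at h5
      have : f + k + g = f + g + k := by abel
      rw [this] at h5
      simpa using h5
    · have h5 := key k g sk a sg hg
      rw [← kf] at h5
      exact add_right_cancel h5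
  have ug : ∀ k : W →ₗ[ZMod 2] ZMod 2, St H y (θ + y) k 0 → k ≠ 0 → k = g := by
    intro k sk hk
    rcases z2 (k θ') with a | a
    · exfalso
      have s5 := h.add hθy sg sk
      rw [add_zero] at s5
      have h5 := key f (g + k) s h1 s5 (by rw [LinearMap.add_apply, hg, a, add_zero])
      apply hk
      rw [← kf, ← add_assoc] at h5
      simpa using h5
    · have h5 := key f k s h1 sk a
      rw [← kf] at h5
      exact add_left_cancel h5
  have ne_of_one : ∀ (k : W →ₗ[ZMod 2] ZMod 2) (w : W), k w = 1 → k ≠ 0 := by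
    rintro k w hk rfl
    exact zero_ne_one hk
  have hkill : ∀ θ₁ ∈ Θ, (f + g) θ₁ = 0 := by
    intro θ₁ hθ₁
    rw [LinearMap.add_apply]
    rcases z2 (f θ₁) with a | a <;> rcases z2 (g θ₁) with b | b
    · rw [a, b, add_zero]
    · exfalso
      have q1 := h.relB_symm hθy hθ₁ ⟨g, sg, b⟩
      have q2 := h.relB_add hθ₁ q1
      rw [add_assoc, addself, add_zero] at q2
      obtain ⟨k, sk, hk⟩ := h.relB_symm hθ₁ hθ q2
      rw [uf k sk (ne_of_one k θ₁ hk), a] at hk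
      exact zero_ne_one hk
    · exfalso
      have q1 := h.relB_symm hθ hθ₁ ⟨f, s, a⟩
      have q2 := h.relB_add hθ₁ q1
      obtain ⟨k, sk, hk⟩ := h.relB_symm hθ₁ hθy q2
      rw [ug k sk (ne_of_one k θ₁ hk), b] at hk
      exact zero_ne_one hk
    · rw [a, b]; rfl
  have sg2 := st_shift1 sg
  rw [add_assoc, addself, add_zero] at sg2
  have s6 := h.add hθ s sg2
  have h7 : f + g = 0 := by
    by_contra hne
    obtain ⟨θ₁, hθ₁, h8⟩ := h.exists_one hθ s6 hne
    rw [hkill θ₁ hθ₁] at h8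
    exact zero_ne_one h8
  have h8 : f = g := feq_of_add h7
  rw [← h8] at sg
  exact hf (h.BB_inter hθ s sg)

theorem Hyp.d_ne {θ : W} (hθ : θ ∈ Θ) {f d : W →ₗ[ZMod 2] ZMod 2} (s : St H y θ f d) (hf : f ≠ 0) :
    d ≠ 0 ∧ d ≠ f := by
  constructor
  · rintro rfl
    exact hf (h.noW hθ s)
  · rintro rfl
    have := st_shift1 s
    rw [faddself] at this
    exact hf (h.noW (h.swap θ hθ) this)

/-- **(4)** -/
theorem Hyp.key {θ θ' : W} (hθ : θ ∈ Θ) (hθ' : θ' ∈ Θ) {f d f' d' : W →ₗ[ZMod 2] ZMod 2}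
    (s : St H y θ f d) (s' : St H y θ' f' d') (h1 : f θ' = 1) (h1' : f' θ = 1) :
    d + d' = d θ' • f + d' θ • f' := by
  have c1 := h.cj hθ hθ' s s'
  have c2 := h.cj hθ' hθ s' s
  rw [h1, h1', one_smul, one_smul] at c1 c2
  have m1 := h.mem_add c1.1 (d θ')
  have s1 := st_shift (d θ') c1.2
  have s2 := st_shift (d' θ) c2.2
  have e1 : θ' + θ + d θ' • y + d θ' • y = θ + θ' := by
    linear_combination (norm := module) d θ' • addself y
  have e2 : θ + θ' + d' θ • y + d' θ • y = θ + θ' := by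
    linear_combination (norm := module) d' θ • addself y
  rw [e1] at m1 s1
  rw [e2] at s2
  have s3 := h.add m1 s1 s2
  have e3 : f' + f + (f + f') = 0 := by
    linear_combination (norm := module) faddself f + faddself f'
  rw [e3] at s3
  have h2 := h.uniq s3
  linear_combination (norm := module) h2 - d' θ • faddself f - d θ' • faddself f' - d' θ • faddself f'
    - d θ' • faddself f

/-- **(5)** -/
theorem Hyp.five {θ θ' : W} (hθ : θ ∈ Θ) (hθ' : θ' ∈ Θ) {f₁ d₁ f₂ d₂ : W →ₗ[ZMod 2] ZMod 2}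
    (s₁ : St H y θ f₁ d₁) (s₂ : St H y θ f₂ d₂) (h1 : f₁ θ' = 1) (h2 : f₂ θ' = 1) (hne : f₁ ≠ f₂) :
    d₁ + d₂ = f₁ ∨ d₁ + d₂ = f₂ := by
  obtain ⟨f', d', s', h1'⟩ := h.rel_symm hθ hθ' ⟨f₁, d₁, s₁, h1⟩
  have k1 := h.key hθ hθ' s₁ s' h1 h1'
  have k2 := h.key hθ hθ' s₂ s' h2 h1'
  have k3 : d₁ + d₂ = d₁ θ' • f₁ + d₂ θ' • f₂ := by
    linear_combination (norm := module) k1 + k2 - faddself d' + d' θ • faddself f'
  have s3 := h.add hθ s₁ s₂
  have hne' : f₁ + f₂ ≠ 0 := fun e => hne (feq_of_add e)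
  obtain ⟨n1, n2⟩ := h.d_ne hθ s3 hne'
  rcases z2 (d₁ θ') with a | a <;> rcases z2 (d₂ θ') with b | b <;> rw [a, b] at k3 <;>
    simp only [zero_smul, one_smul, add_zero, zero_add] at k3
  · exact absurd k3 n1
  · exact Or.inr k3
  · exact Or.inl k3
  · exact absurd k3 n2

/-- **(5)** at most one functional of `θ` kills `θ'`. -/
theorem Hyp.uniq_kill {θ θ' : W} (hθ : θ ∈ Θ) (hθ' : θ' ∈ Θ) (r : Rel H y θ θ')
    {g₁ e₁ g₂ e₂ : W →ₗ[ZMod 2] ZMod 2} (s₁ : St H y θ g₁ e₁) (s₂ : St H y θ g₂ e₂) (h1 : g₁ θ' = 0)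
    (h2 : g₂ θ' = 0) (n1 : g₁ ≠ 0) (n2 : g₂ ≠ 0) : g₁ = g₂ := by
  obtain ⟨f, d, s, hf⟩ := r
  by_contra hne
  have a1 := h.add hθ s s₁
  have a2 := h.add hθ s s₂
  have a3 := h.add hθ a2 s₁
  have h3 := h.five hθ hθ' s a1 hf (by rw [LinearMap.add_apply, hf, h1, add_zero])
    (fun e => n1 (by simpa using e.symm))
  have h4 := h.five hθ hθ' a2 a3 (by rw [LinearMap.add_apply, hf, h2, add_zero])
    (by rw [LinearMap.add_apply, LinearMap.add_apply, hf, h1, h2, add_zero, add_zero])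
    (fun e => n1 (by simpa using e.symm))
  have e3 : d + (d + e₁) = e₁ := by linear_combination (norm := module) faddself d
  have e4 : d + e₂ + (d + e₂ + e₁) = e₁ := by
    linear_combination (norm := module) faddself d + faddself e₂
  rw [e3] at h3
  rw [e4] at h4
  rcases h3 with h3 | h3 <;> rcases h4 with h4 | h4 <;> rw [h3] at h4
  · exact n2 (by simpa using h4.symm)
  · apply hne
    have : g₂ + g₁ = 0 := by linear_combination (norm := module) (-1 : ZMod 2) • h4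
    exact (feq_of_add this).symm
  · apply hne
    exact add_left_cancel h4
  · apply n2
    linear_combination (norm := module) (-1 : ZMod 2) • h4

end Cfsg.Agent.Omega.FOne.Tvw
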