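import Cfsg.Agent.Omega.FOne.TvwRel

/-!
# Lemma TVW (bb OMEGA #15003, helper299): step (6), `|Â| = 2` is impossible
-/

set_option autoImplicit false
set_option linter.unusedSectionVars false

namespace Cfsg.Agent.Omega.FOne.Tvw

variable {W : Type*} [AddCommGroup W] [Module (ZMod 2) W]
variable {H : Subgroup (W ≃ₗ[ZMod 2] W)} {y : W} {Θ : Set W}

theorem ne_of_one {k : W →ₗ[ZMod 2] ZMod 2} {w : W} (hk : k w = 1) : k ≠ 0 := by
  rintro rfl
  exact zero_ne_one hk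

/-- all nonzero functionals of `θ` are equal. -/
def Uni (H : Subgroup (W ≃ₗ[ZMod 2] W)) (y θ : W) : Prop :=
  ∀ f₁ d₁ f₂ d₂, St H y θ f₁ d₁ → St H y θ f₂ d₂ → f₁ ≠ 0 → f₂ ≠ 0 → f₁ = f₂

variable [Finite W] (h : Hyp H y Θ)
include h

theorem Hyp.uni_trans {θ θ' : W} (hθ : θ ∈ Θ) (hθ' : θ' ∈ Θ) (u : Uni H y θ) : Uni H y θ' := by
  obtain ⟨k, hk, rfl⟩ := h.trans θ' hθ' θ hθ
  intro f₁ d₁ f₂ d₂ s₁ s₂ n₁ n₂
  exact tr_inj (u _ _ _ _ (h.conj hk s₁) (h.conj hk s₂) (tr_ne_zero n₁) (tr_ne_zero n₂))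

/-- Under `Uni`: the functionals of different elements of `Θ` are symmetric. -/
theorem Hyp.uni_symm (u : ∀ θ ∈ Θ, Uni H y θ) {θ θ' : W} (hθ : θ ∈ Θ) (hθ' : θ' ∈ Θ)
    {f d f' d' : W →ₗ[ZMod 2] ZMod 2} (s : St H y θ f d) (s' : St H y θ' f' d') (hf' : f' ≠ 0)
    (h1 : f θ' = 1) : f' θ = 1 := by
  obtain ⟨k, e, sk, hk⟩ := h.rel_symm hθ hθ' ⟨f, d, s, h1⟩
  rwa [u θ' hθ' _ _ _ _ s' sk hf' (ne_of_one hk)]

/-- Normalised lift. -/
theorem Hyp.norm {θ : W} {ρ : W} (hρ : ρ ∈ Θ) {k e : W →ₗ[ZMod 2] ZMod 2} (s : St H y ρ k e)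
    (hk : k θ = 1) : ∃ ρ' ∈ Θ, (ρ' = ρ ∨ ρ' = ρ + y) ∧ ∃ e', St H y ρ' k e' ∧ e' θ = 0 := by
  rcases z2 (e θ) with a | a
  · exact ⟨ρ, hρ, Or.inl rfl, e, s, a⟩
  · exact ⟨ρ + y, h.swap ρ hρ, Or.inr rfl, e + k, st_shift1 s, by
      rw [LinearMap.add_apply, a, hk]; rfl⟩

/-- **(6)** -/
theorem Hyp.not_uni {θ : W} (hθ : θ ∈ Θ) {f d : W →ₗ[ZMod 2] ZMod 2} (s : St H y θ f d)
    (hf : f ≠ 0) : ¬ Uni H y θ := by
  intro u0
  have u : ∀ θ' ∈ Θ, Uni H y θ' := fun θ' hθ' => h.uni_trans hθ hθ' u0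
  have hfy := h.fy hθ s
  have hdy := h.dy hθ s
  have hfθ := h.fth hθ s
  have hdθ := h.dth hθ s
  -- the swap
  obtain ⟨t, ht, htθ⟩ := h.trans θ hθ (θ + y) (h.swap θ hθ)
  have st := h.conj ht s
  rw [htθ] at st
  have st1 := st_shift1 st
  rw [add_assoc, addself, add_zero] at st1
  have e1 : tr t f = f := u0 _ _ _ _ st1 s (tr_ne_zero hf) hf
  have e2 : tr t d = d + f := by
    have h3 := h.add hθ st1 s
    rw [e1, faddself] at h3
    have h4 := h.uniq h3
    linear_combination (norm := module) h4 - faddself d - faddself f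
  -- a neighbour with `d = 0`
  obtain ⟨ρ, hρ, hρ1⟩ := h.exists_one hθ s hf
  obtain ⟨α, hα, hα1, hα0⟩ : ∃ α ∈ Θ, f α = 1 ∧ d α = 0 := by
    rcases z2 (d ρ) with a | a
    · exact ⟨ρ, hρ, hρ1, a⟩
    · refine ⟨t ρ, h.mem ρ hρ t ht, ?_, ?_⟩
      · rw [← e1, tr_ap, hρ1]
      · have h5 : (tr t d) (t ρ) = d ρ := tr_ap t d ρ
        rw [e2, LinearMap.add_apply] at h5
        have h6 : f (t ρ) = 1 := by rw [← e1, tr_ap, hρ1]
        rw [h6, a] at h5
        rcases z2 (d (t ρ)) with b | b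
        · exact b
        · rw [b] at h5; exact absurd h5 (by decide)
  obtain ⟨β, hβ, hβ1, hβ0⟩ : ∃ β ∈ Θ, f β = 1 ∧ d β = 1 := by
    refine ⟨t α, h.mem α hα t ht, ?_, ?_⟩
    · rw [← e1, tr_ap, hα1]
    · have h5 : (tr t d) (t α) = d α := tr_ap t d α
      rw [e2, LinearMap.add_apply] at h5
      have h6 : f (t α) = 1 := by rw [← e1, tr_ap, hα1]
      rw [h6, hα0] at h5
      rcases z2 (d (t α)) with b | b
      · rw [b] at h5; exact absurd h5 (by decide)
      · exact b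
  -- neighbours of the first kind have the same `d`
  have first : ∀ α ∈ Θ, f α = 1 → d α = 0 → ∃ α' ∈ Θ, (α' = α ∨ α' = α + y) ∧ ∃ k,
      St H y α' k d ∧ k θ = 1 := by
    intro α hα h1 h0
    obtain ⟨k, e, sk, hk⟩ := h.rel_symm hθ hα ⟨f, d, s, h1⟩
    obtain ⟨α', hα', hor, e', s', h0'⟩ := h.norm hα sk hk
    have hfα' : f α' = 1 := by
      rcases hor with rfl | rfl
      · exact h1
      · rw [map_add, hfy, add_zero, h1]
    have hdα' : d α' = 0 := by
      rcases hor with rfl | rfl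
      · exact h0
      · rw [map_add, hdy, add_zero, h0]
    have h7 := h.key hθ hα' s s' hfα' hk
    rw [hdα', h0', zero_smul, zero_smul, add_zero] at h7
    have h8 : e' = d := (feq_of_add h7).symm
    rw [h8] at s'
    exact ⟨α', hα', hor, k, s', hk⟩
  -- neighbours of the second kind
  obtain ⟨k₀, e₀, sk₀, hk₀⟩ := h.rel_symm hθ hβ ⟨f, d, s, hβ1⟩
  obtain ⟨ν, hν, horν, e', sν, hν0⟩ := h.norm hβ sk₀ hk₀
  have hfν : f ν = 1 := by
    rcases horν with rfl | rfl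
    · exact hβ1
    · rw [map_add, hfy, add_zero, hβ1]
  have hdν : d ν = 1 := by
    rcases horν with rfl | rfl
    · exact hβ0
    · rw [map_add, hdy, add_zero, hβ0]
  have h7 := h.key hθ hν s sν hfν hk₀
  rw [hdν, hν0, zero_smul, one_smul, add_zero] at h7
  have h8 : e' = d + f := by linear_combination (norm := module) h7 - faddself d
  rw [h8] at sν
  -- comparison
  have cmp1 : ∀ α ∈ Θ, f α = 1 → d α = 0 → ∀ k, St H y α k d → k θ = 1 → k ν = 1 → f = k + k₀ := by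
    intro α hα h1 h0 k sk hk hkν
    have h9 := h.uni_symm u hα hν sk sν (ne_of_one hk₀) hkν
    have h10 := h.key hα hν sk sν hkν h9
    rw [LinearMap.add_apply, h0, h1, hdν, zero_add, one_smul, one_smul] at h10
    linear_combination (norm := module) h10 - faddself d
  -- a neighbour of the first kind with functional `k₀`
  obtain ⟨α', hα', horα, k, sk, hk⟩ := first α hα hα1 hα0
  have hfα' : f α' = 1 := by
    rcases horα with rfl | rfl
    · exact hα1
    · rw [map_add, hfy, add_zero, hα1]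
  have hdα' : d α' = 0 := by
    rcases horα with rfl | rfl
    · exact hα0
    · rw [map_add, hdy, add_zero, hα0]
  have hky := h.fy hα' sk
  -- the third point of the line
  have c := h.cj hθ hα' s sk
  rw [hfα', hdα', zero_smul, one_smul, add_zero, hk, one_smul, hdθ, zero_smul, add_zero] at c
  have hfc : f (α' + θ) = 1 := by rw [map_add, hfα', hfθ, add_zero]
  have hdc : d (α' + θ) = 0 := by rw [map_add, hdα', hdθ, add_zero]
  have hkc : (k + f) θ = 1 := by rw [LinearMap.add_apply, hk, hfθ, add_zero]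
  obtain ⟨γ, hγ, hγ1, hγ0, sγ⟩ : ∃ γ ∈ Θ, f γ = 1 ∧ d γ = 0 ∧ St H y γ k₀ d := by
    rcases z2 (k ν) with a | a
    · refine ⟨α', hα', hfα', hdα', ?_⟩
      have h9 := cmp1 _ c.1 hfc hdc _ c.2 hkc (by rw [LinearMap.add_apply, a, hfν, zero_add])
      have h10 : k = k₀ := by
        linear_combination (norm := module) (-1 : ZMod 2) • h9 - faddself k₀
      rwa [h10] at sk
    · refine ⟨α' + θ, c.1, hfc, hdc, ?_⟩
      have h9 := cmp1 α' hα' hfα' hdα' k sk hk a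
      have h10 : k + f = k₀ := by
        linear_combination (norm := module) h9 + faddself k
      have := c.2
      rwa [h10] at this
  have hk₀ne := ne_of_one hk₀
  obtain ⟨σ, hσ, k', e'', sσ, hσ1⟩ := h.exists_move hγ sγ sν hk₀ne
    (fun e => by
      have := congrArg d e
      rw [map_add, hγ0, hdν, map_zero] at this
      exact absurd this (by decide))
    (fun e => by
      have := congrArg d e
      rw [map_add, hγ0, hdν, hdy] at this
      exact absurd this (by decide))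
  have hk'ne : k' ≠ 0 := ne_of_one hσ1
  rw [map_add] at hσ1
  rcases z2 (k' γ) with a | a <;> rcases z2 (k' ν) with b | b <;> rw [a, b] at hσ1
  · exact absurd hσ1 (by decide)
  · have h9 := h.uni_symm u hσ hν sσ sν hk₀ne b
    have h10 := h.uni_symm u hγ hσ sγ sσ hk'ne h9
    rw [a] at h10
    exact absurd h10 (by decide)
  · have h9 := h.uni_symm u hσ hγ sσ sγ hk₀ne a
    have h10 := h.uni_symm u hν hσ sν sσ hk'ne h9
    rw [b] at h10
    exact absurd h10 (by decide)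
  · exact absurd hσ1 (by decide)

/-- **(6)** some nonzero functional of `θ` kills `θ'`. -/
theorem Hyp.exists_kill {θ θ' : W} (hθ : θ ∈ Θ) (r : Rel H y θ θ') :
    ∃ g e, St H y θ g e ∧ g ≠ 0 ∧ g θ' = 0 := by
  obtain ⟨f, d, s, hf⟩ := r
  by_contra hcon
  push Not at hcon
  refine h.not_uni hθ s (ne_of_one hf) fun f₁ d₁ f₂ d₂ s₁ s₂ n₁ n₂ => ?_
  have a1 := (z2 (f₁ θ')).resolve_left (hcon f₁ d₁ s₁ n₁)
  have a2 := (z2 (f₂ θ')).resolve_left (hcon f₂ d₂ s₂ n₂)
  by_contra hne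
  exact hcon _ _ (h.add hθ s₁ s₂) (fun e => hne (feq_of_add e))
    (by rw [LinearMap.add_apply, a1, a2]; rfl)

end Cfsg.Agent.Omega.FOne.Tvw
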